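import Cfsg.Agent.Lib.PMinimalLie.Basic
import Cfsg.Agent.Lib.LieRigid.PSL
import Cfsg.Agent.Lib.SLGen.Jordan
import Cfsg.Agent.Lib.PSLn.Group

/-!
Overgroups of the unitriangular subgroup of `PSL_n`.
-/

set_option autoImplicit false
set_option linter.unusedSectionVars false
set_option linter.style.haveILetI false

namespace CfsgLib.PMinimalLie.Linear

open Cfsg Matrix CfsgLib.PSLn CfsgLib.PSLn.Datum CfsgLib.GLFlags CfsgLib.LieRigid CfsgLib.LieRigid.PSLn
open scoped MatrixGroups

variable {F : Type*} [Field F] [Fintype F] {n : ℕ}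

local notation "SL" => Matrix.SpecialLinearGroup (Fin n) F
local notation "PSL" => Matrix.ProjectiveSpecialLinearGroup (Fin n) F

/-- A proper overgroup of the unitriangular group leaves a proper subspace containing the first
coordinate vector invariant. -/
theorem exists_invariant (hn : 2 ≤ n) {M : Subgroup SL} (hUM : upper F n ≤ M) (hne : M ≠ ⊤) :
    ∃ W : Submodule F (Fin n → F), (Pi.single (⟨0, by omega⟩ : Fin n) 1 : Fin n → F) ∈ W ∧ W ≠ ⊤ ∧
      ∀ g ∈ M, ∀ x ∈ W, g.1 *ᵥ x ∈ W := by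
  classical
  set i0 : Fin n := ⟨0, by omega⟩
  set e0 : Fin n → F := Pi.single i0 1 with he0
  have htv0 : ∀ f (hf : f ⬝ᵥ e0 = 0), tv e0 f hf ∈ upper F n := by
    intro f hf a b hab
    rw [coe_tv, Matrix.add_apply, vecMulVec_apply]
    by_cases ha : a = i0
    · subst ha
      obtain rfl : b = i0 := Fin.ext (by have : b.val ≤ 0 := hab; simp only [i0]; omega)
      rw [show f i0 = 0 by simpa [he0, dotProduct_single] using hf, mul_zero, add_zero]
    · simp [he0, ha]
  set O : Set (Fin n → F) := {x | ∃ g ∈ M, x = g.1 *ᵥ e0} with hO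
  by_cases htop : Submodule.span F O = ⊤
  · -- all transvections
    let C : Set (Fin n → F) := {x | ∀ f (hf : f ⬝ᵥ x = 0), tv x f hf ∈ M}
    have hconj : ∀ g ∈ M, ∀ x ∈ C, g.1 *ᵥ x ∈ C := by
      intro g hg x hx f hf
      have hf' : (f ᵥ* g.1) ⬝ᵥ x = 0 := by rwa [← dotProduct_mulVec]
      have h1 := Subgroup.mul_mem _ (Subgroup.mul_mem _ hg (hx _ hf')) (Subgroup.inv_mem _ hg)
      obtain ⟨h', e⟩ := conjSL_tv (Matrix.SpecialLinearGroup.toGL g) x (f ᵥ* g.1) hf'
      rw [conjSL_toGL, MulAut.conj_apply] at e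
      rw [e] at h1
      have : (f ᵥ* g.1) ᵥ* ((Matrix.SpecialLinearGroup.toGL g)⁻¹ : GL (Fin n) F).1 = f := by
        rw [Matrix.vecMul_vecMul, show g.1 = ((Matrix.SpecialLinearGroup.toGL g) : GL (Fin n) F).1 from rfl,
          ← Units.val_mul, mul_inv_cancel, Units.val_one, Matrix.vecMul_one]
      convert h1 using 1
      exact tv_congr hf h' rfl this.symm
    have hsmul : ∀ (c : F), ∀ x ∈ C, c • x ∈ C := by
      intro c x hx f hf
      have hf' : (c • f) ⬝ᵥ x = 0 := by rw [smul_dotProduct, ← dotProduct_smul, hf]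
      have := hx _ hf'
      convert this using 1
      refine coe_inj_of_congr _ _ ?_
      rw [smul_vecMulVec, vecMulVec_smul]
    have hadd : ∀ x ∈ C, ∀ y ∈ C, x + y ∈ C := by
      intro x hx y hy
      by_cases hxy : x ∈ Submodule.span F {y}
      · obtain ⟨c, rfl⟩ := Submodule.mem_span_singleton.mp hxy
        rw [show c • y + y = (c + 1) • y by rw [add_smul, one_smul]]
        exact hsmul _ y hy
      obtain ⟨φ, hφx, hφ⟩ := Submodule.exists_dual_map_eq_bot_of_notMem hxy inferInstance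
      set ψ : Fin n → F := (φ x)⁻¹ • fun i => φ (Pi.single i 1) with hψ
      have hψy : ψ ⬝ᵥ y = 0 := by
        have : φ y ∈ (Submodule.span F {y}).map φ := Submodule.mem_map_of_mem (Submodule.mem_span_singleton_self y)
        rw [hφ, Submodule.mem_bot] at this
        rw [hψ, smul_dotProduct, dot_of_linear, this, smul_zero]
      have h := hconj _ (hy ψ hψy) x hx
      rwa [coe_tv, Matrix.add_mulVec, Matrix.one_mulVec, Matrix.vecMulVec_mulVec, hψ, smul_dotProduct,
        dot_of_linear, smul_eq_mul, inv_mul_cancel₀ hφx, MulOpposite.op_one, one_smul] at h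
    have hall : ∀ x, x ∈ C := by
      intro x
      have hx : x ∈ Submodule.span F O := htop ▸ Submodule.mem_top
      induction hx using Submodule.span_induction with
      | mem y hy =>
        obtain ⟨g, hg, rfl⟩ := hy
        exact hconj g hg e0 fun f hf => hUM (htv0 f hf)
      | zero =>
        intro f hf
        rw [show tv (0 : Fin n → F) f hf = 1 from Subtype.ext (by rw [coe_tv, zero_vecMulVec, add_zero]; rfl)]
        exact one_mem _
      | add y z _ _ hy hz => exact hadd y hy z hz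
      | smul c y _ hy => exact hsmul c y hy
    have hMtop : M = ⊤ := CfsgLib.SLGen.eq_top_of_xx hn fun i j hij a => by
      rw [xx_eq_tv]; exact hall _ _ _
    exact absurd hMtop hne
  refine ⟨Submodule.span F O, Submodule.subset_span ⟨1, one_mem _, by simp⟩, htop, fun g hg x hx => ?_⟩
  have hle : (Submodule.span F O).map (Matrix.mulVecLin g.1) ≤ Submodule.span F O := by
    rw [Submodule.map_span, Submodule.span_le]
    rintro _ ⟨_, ⟨k, hk, rfl⟩, rfl⟩
    exact Submodule.subset_span ⟨g * k, mul_mem hg hk, by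
      rw [Matrix.mulVecLin_apply, Matrix.mulVec_mulVec, Matrix.SpecialLinearGroup.coe_mul]⟩
  exact hle ⟨x, hx, rfl⟩

/-- The parabolic subgroup of a set of cuts. -/
def par (J : Set ℕ) : Subgroup SL where
  carrier := {A | ∀ k ∈ J, ∀ i j : Fin n, j.val < k → k ≤ i.val → A.1 i j = 0}
  one_mem' := fun k _ i j hj hi => one_apply_ne (fun h => by subst h; omega)
  mul_mem' := fun {A B} hA hB k hk i j hj hi => by
    rw [Matrix.SpecialLinearGroup.coe_mul, Matrix.mul_apply]
    refine Finset.sum_eq_zero fun l _ => ?_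
    by_cases hl : l.val < k
    · rw [hA k hk i l hl hi, zero_mul]
    · rw [hB k hk l j hj (not_lt.mp hl), mul_zero]
  inv_mem' := fun {A} hA => by
    let N : Submonoid SL :=
      { carrier := {A | ∀ k ∈ J, ∀ i j : Fin n, j.val < k → k ≤ i.val → A.1 i j = 0}
        one_mem' := fun k _ i j hj hi => one_apply_ne (fun h => by subst h; omega)
        mul_mem' := fun {A B} hA hB k hk i j hj hi => by
          rw [Matrix.SpecialLinearGroup.coe_mul, Matrix.mul_apply]
          refine Finset.sum_eq_zero fun l _ => ?_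
          by_cases hl : l.val < k
          · rw [hA k hk i l hl hi, zero_mul]
          · rw [hB k hk l j hj (not_lt.mp hl), mul_zero] }
    show A⁻¹ ∈ N
    have h : A⁻¹ = A ^ (orderOf A - 1) := by
      rw [inv_eq_iff_mul_eq_one, ← pow_succ', Nat.sub_add_cancel (orderOf_pos A), pow_orderOf_eq_one]
    rw [h]
    exact pow_mem (show A ∈ N from hA) _

theorem mem_par {J : Set ℕ} {A : SL} :
    A ∈ par J ↔ ∀ k ∈ J, ∀ i j : Fin n, j.val < k → k ≤ i.val → A.1 i j = 0 := Iff.rfl

theorem upper_le_par (J : Set ℕ) : upper F n ≤ par J := fun A hA k _ i j hj hi => by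
  rw [hA i j (show j.val ≤ i.val by omega), one_apply_ne (fun h => by subst h; omega)]

theorem xx_mem_par {J : Set ℕ} {i j : Fin n} (hij : i ≠ j) (h : i.val = j.val + 1) (hJ : i.val ∉ J) (a : F) :
    xx i j hij a ∈ par J := fun k hk r s hs hr => by
  rw [coe_xx, Matrix.add_apply, one_apply_ne (fun h => by subst h; omega), zero_add,
    Matrix.single_apply_of_ne]
  rintro ⟨rfl, rfl⟩
  exact hJ ((show i.val = k by omega) ▸ hk)

/-- The unitriangular group and the simple negative root groups generate. -/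
theorem eq_top_of_simple (hn : 2 ≤ n) {H : Subgroup SL} (hU : upper F n ≤ H)
    (h : ∀ i j (hij : i ≠ j) (a : F), i.val = j.val + 1 → xx i j hij a ∈ H) : H = ⊤ := by
  have key : ∀ (d : ℕ) (i j : Fin n) (hij : i ≠ j) (a : F), i.val = j.val + d + 1 → xx i j hij a ∈ H := by
    intro d
    induction d with
    | zero => intro i j hij a hd; exact h i j hij a hd
    | succ d ih =>
      intro i j hij a hd
      have hi := i.isLt
      set l : Fin n := ⟨j.val + d + 1, by omega⟩ with hl
      have h1 : i ≠ l := fun e => by have := congrArg Fin.val e; simp [hl] at this; omega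
      have h2 : l ≠ j := fun e => by have : j.val + d + 1 = j.val := congrArg Fin.val e; omega
      have := CfsgLib.SLGen.comm_mem h1 h2 hij (h i l h1 a (by simp [hl]; omega))
        (ih l j h2 1 (by simp [hl]))
      rwa [mul_one] at this
  refine CfsgLib.SLGen.eq_top_of_xx hn fun i j hij a => ?_
  rcases lt_or_gt_of_ne hij with hlt | hgt
  · exact hU (xx_mem_upper hlt a)
  · exact key (i.val - j.val - 1) i j hij a (by have : j.val < i.val := hgt; omega)

/-- Its image. -/
def parW (J : Set ℕ) : Subgroup PSL := (par J).map mk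

theorem upper_le_parW (J : Set ℕ) : (upper F n).map (mk : SL →* PSL) ≤ parW J :=
  Subgroup.map_mono (upper_le_par J)

theorem parW_comap (J : Set ℕ) : (parW J : Subgroup PSL).comap mk = par J := by
  rw [parW, Subgroup.comap_map_eq_self]
  intro z hz
  rw [QuotientGroup.ker_mk', Matrix.SpecialLinearGroup.mem_center_iff] at hz
  obtain ⟨c, -, hc⟩ := hz
  intro k _ i j hj hi
  rw [← hc, Matrix.scalar_apply, Matrix.diagonal_apply_ne]
  intro h
  subst h
  omega

theorem parW_ne_top {J : Set ℕ} {k : ℕ} (hk : k ∈ J) (hk0 : 0 < k) (hkn : k < n) :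
    (parW J : Subgroup PSL) ≠ ⊤ := by
  intro h
  have h1 : (par J : Subgroup SL) = ⊤ := by rw [← parW_comap, h, Subgroup.comap_top]
  have h2 : xx (⟨k, hkn⟩ : Fin n) ⟨k - 1, by omega⟩ (by simp; omega) (1 : F) ∈ par J := h1 ▸ Subgroup.mem_top _
  have h3 := h2 k hk ⟨k, hkn⟩ ⟨k - 1, by omega⟩ (by simp; omega) (by simp)
  rw [coe_xx, Matrix.add_apply, one_apply_ne (by simp; omega), zero_add, Matrix.single_apply_same] at h3
  exact one_ne_zero h3

theorem parW_sup (hn : 2 ≤ n) {J₁ J₂ : Set ℕ} (h : ∀ k ∈ J₁, k ∉ J₂) :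
    (parW J₁ : Subgroup PSL) ⊔ parW J₂ = ⊤ := by
  rw [parW, parW, ← Subgroup.map_sup, eq_top_of_simple hn ((upper_le_par J₁).trans le_sup_left)
    fun i j hij a hd => ?_, Subgroup.map_top_of_surjective _ mk_surjective]
  by_cases hi : i.val ∈ J₁
  · exact Subgroup.mem_sup_right (xx_mem_par hij hd (h _ hi) a)
  · exact Subgroup.mem_sup_left (xx_mem_par hij hd hi a)

theorem triangular_normalizes {J : Set ℕ} (hJ : ∀ k, 0 < k → k < n → k ∈ J) :
    (parW J : Subgroup PSL) ≤ Subgroup.normalizer ((upper F n).map (mk : SL →* PSL) : Set PSL) := by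
  rintro _ ⟨A, hA, rfl⟩
  have tri : ∀ B : SL, B ∈ par J → Matrix.SpecialLinearGroup.toGL B ∈ upperTriangularGL n F := fun B hB => by
    show B.1.BlockTriangular id
    intro i j hji
    have hlt : j.val < i.val := hji
    exact hB i.val (hJ _ (by omega) i.isLt) i j hlt le_rfl
  have key : ∀ B : SL, B ∈ par J → ∀ u ∈ upper F n, B * u * B⁻¹ ∈ upper F n := fun B hB u hu => by
    have := conjSL_mem_upper (tri B hB) hu
    rwa [conjSL_toGL, MulAut.conj_apply] at this
  rw [Subgroup.mem_normalizer_iff]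
  intro y
  constructor
  · rintro ⟨u, hu, rfl⟩
    exact ⟨_, key A hA u hu, by simp⟩
  · rintro ⟨u, hu, e⟩
    refine ⟨_, key A⁻¹ (inv_mem hA) u hu, ?_⟩
    rw [map_mul, map_mul, map_inv, map_inv, e]
    simp [mul_assoc]

variable (p : ℕ) [Fact p.Prime] [CharP F p]

/-- The Sylow subgroup. -/
theorem exists_sylow (hn : 2 ≤ n) : ∃ U : Sylow p PSL, (U : Subgroup PSL) = (upper F n).map mk :=
  ⟨(upperSylow_psl (F := F) p hn).1.toSylow (upperSylow_psl (F := F) p hn).2, rfl⟩

theorem overgroup (hn : 2 ≤ n) {P : Subgroup PSL} (hP : (upper F n).map (mk : SL →* PSL) ≤ P) (hne : P ≠ ⊤) :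
    ∃ W : Submodule F (Fin n → F), (Pi.single (⟨0, by omega⟩ : Fin n) 1 : Fin n → F) ∈ W ∧ W ≠ ⊤ ∧
      ∀ g ∈ P.comap (mk : SL →* PSL), ∀ x ∈ W, g.1 *ᵥ x ∈ W :=
  exists_invariant hn (Subgroup.map_le_iff_le_comap.mp hP) fun h => hne (by
    rw [← Subgroup.map_comap_eq_self_of_surjective mk_surjective P, h,
      Subgroup.map_top_of_surjective _ mk_surjective])

theorem upper_shift {W : Submodule F (Fin n → F)} {M : Subgroup SL} (hU : upper F n ≤ M)
    (hM : ∀ g ∈ M, ∀ x ∈ W, g.1 *ᵥ x ∈ W) {x : Fin n → F} (hx : x ∈ W) {i j : Fin n} (hij : i < j)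
    (hj : x j ≠ 0) : (Pi.single i 1 : Fin n → F) ∈ W := by
  have h := sub_mem (hM _ (hU (xx_mem_upper hij 1)) x hx) hx
  have e : (xx i j hij.ne (1 : F)).1 *ᵥ x - x = x j • (Pi.single i 1 : Fin n → F) := by
    rw [coe_xx, Matrix.add_mulVec, Matrix.one_mulVec, add_sub_cancel_left, Matrix.single_mulVec]
    funext r
    by_cases hr : r = i <;> simp [hr, Function.update_self, Function.update_of_ne]
  rw [e] at h
  exact (Submodule.smul_mem_iff W hj).mp h

theorem rankOne_two [IsSimpleGroup (Matrix.ProjectiveSpecialLinearGroup (Fin 2) F)] :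
    RankOneLike p (Matrix.ProjectiveSpecialLinearGroup (Fin 2) F) := by
  obtain ⟨U, hU⟩ := exists_sylow (F := F) (n := 2) p le_rfl
  refine ⟨U, fun P hP hne => ?_⟩
  rw [hU] at hP ⊢
  obtain ⟨W, hW0, hWt, hWM⟩ := overgroup le_rfl hP hne
  refine le_trans (fun y hy => ?_) (triangular_normalizes (J := {1}) fun k h1 h2 => by simp; omega)
  obtain ⟨A, rfl⟩ := mk_surjective y
  refine Subgroup.mem_map_of_mem _ ?_
  rintro k rfl i j hj hi
  obtain rfl : j = 0 := by omega
  obtain rfl : i = 1 := by omega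
  by_contra hA
  refine hWt (eq_top_iff.mpr fun x _ => ?_)
  have h0 := hWM A hy _ hW0
  rw [Matrix.mulVec_single_one] at h0
  have e1 : (Pi.single (1 : Fin 2) 1 : Fin 2 → F) ∈ W := by
    have h1 := sub_mem h0 (Submodule.smul_mem W (A.1 0 0) hW0)
    have e : A.1.col (⟨0, by omega⟩ : Fin 2) - A.1 0 0 • (Pi.single (⟨0, by omega⟩ : Fin 2) 1 : Fin 2 → F) =
        A.1 1 0 • (Pi.single 1 1 : Fin 2 → F) := by
      funext r; fin_cases r <;> simp [Matrix.col]
    rw [e] at h1
    exact (Submodule.smul_mem_iff W hA).mp h1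
  have hx : x = x 0 • (Pi.single (⟨0, by omega⟩ : Fin 2) 1 : Fin 2 → F) + x 1 • Pi.single 1 1 := by
    funext r; fin_cases r <;> simp
  rw [hx]
  exact add_mem (Submodule.smul_mem _ _ hW0) (Submodule.smul_mem _ _ e1)

theorem max2_three [IsSimpleGroup (Matrix.ProjectiveSpecialLinearGroup (Fin 3) F)] :
    Max2 p (Matrix.ProjectiveSpecialLinearGroup (Fin 3) F) := by
  obtain ⟨U, hU⟩ := exists_sylow (F := F) (n := 3) p (by norm_num)
  refine ⟨U, parW {1}, parW {2}, hU ▸ upper_le_parW _, hU ▸ upper_le_parW _,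
    parW_ne_top (k := 1) rfl one_pos (by norm_num), parW_ne_top (k := 2) rfl two_pos (by norm_num),
    parW_sup (by norm_num) (by simp), ?_, fun P hP hne => ?_⟩
  · rw [hU]
    refine le_trans ?_ (triangular_normalizes (J := {1, 2}) fun k h1 h2 => by simp; omega)
    intro y hy
    obtain ⟨A, rfl⟩ := mk_surjective y
    have h1 : A ∈ par {1} := by rw [← parW_comap]; exact hy.1
    have h2 : A ∈ par {2} := by rw [← parW_comap]; exact hy.2
    refine Subgroup.mem_map_of_mem _ ?_
    rintro k (rfl | rfl)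
    exacts [h1 _ rfl, h2 _ rfl]
  rw [hU] at hP
  obtain ⟨W, hW0, hWt, hWM⟩ := overgroup (by norm_num) hP hne
  have hUM : upper F 3 ≤ P.comap mk := Subgroup.map_le_iff_le_comap.mp hP
  have hspan : ∀ x : Fin 3 → F, x = x 0 • Pi.single (⟨0, by omega⟩ : Fin 3) (1 : F) + x 1 • Pi.single 1 1 +
      x 2 • Pi.single 2 1 := fun x => by funext r; fin_cases r <;> simp
  by_cases hx2 : ∀ x ∈ W, x 1 = 0 ∧ x 2 = 0
  · left
    intro y hy
    obtain ⟨A, rfl⟩ := mk_surjective y
    refine Subgroup.mem_map_of_mem _ ?_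
    rintro k rfl i j hj hi
    obtain rfl : j = 0 := by omega
    have h := hx2 _ (hWM A hy _ hW0)
    rw [Matrix.mulVec_single_one] at h
    fin_cases i
    · simp at hi
    · exact h.1
    · exact h.2
  right
  simp only [not_forall, not_and_or] at hx2
  obtain ⟨x, hx, hne'⟩ := hx2
  have e1 : (Pi.single (1 : Fin 3) 1 : Fin 3 → F) ∈ W := by
    by_cases h2 : x 2 = 0
    · have h1 : x 1 ≠ 0 := hne'.resolve_right (fun h => h h2)
      have := sub_mem hx (Submodule.smul_mem W (x 0) hW0)
      rw [show x - x 0 • (Pi.single (⟨0, by omega⟩ : Fin 3) 1 : Fin 3 → F) = x 1 • Pi.single 1 1 by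
        funext r; fin_cases r <;> simp [h2]] at this
      exact (Submodule.smul_mem_iff W h1).mp this
    · exact upper_shift hUM hWM hx (show (1 : Fin 3) < 2 by decide) h2
  have hW2 : ∀ w ∈ W, w 2 = 0 := by
    intro w hw
    by_contra h2
    refine hWt (eq_top_iff.mpr fun v _ => ?_)
    have e2 : (Pi.single (2 : Fin 3) 1 : Fin 3 → F) ∈ W := by
      have := sub_mem (sub_mem hw (Submodule.smul_mem W (w 0) hW0)) (Submodule.smul_mem W (w 1) e1)
      rw [show w - w 0 • (Pi.single (⟨0, by omega⟩ : Fin 3) 1 : Fin 3 → F) - w 1 • Pi.single 1 1 =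
        w 2 • Pi.single 2 1 by funext r; fin_cases r <;> simp] at this
      exact (Submodule.smul_mem_iff W h2).mp this
    rw [hspan v]
    exact add_mem (add_mem (Submodule.smul_mem _ _ hW0) (Submodule.smul_mem _ _ e1)) (Submodule.smul_mem _ _ e2)
  intro y hy
  obtain ⟨A, rfl⟩ := mk_surjective y
  refine Subgroup.mem_map_of_mem _ ?_
  rintro k rfl i j hj hi
  obtain rfl : i = 2 := by omega
  have h0 := hW2 _ (hWM A hy _ hW0)
  have h1 := hW2 _ (hWM A hy _ e1)
  rw [Matrix.mulVec_single_one] at h0 h1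
  fin_cases j
  · exact h0
  · exact h1
  · simp at hj

/-- The reversal of the coordinates. -/
noncomputable def revGL : GL (Fin n) F := permGL Fin.revPerm

theorem revGL_conj (A : SL) (i j : Fin n) : (conjSL (revGL : GL (Fin n) F) A).1 i j = A.1 i.rev j.rev := by
  have h2 : (conjSL (revGL : GL (Fin n) F) A).1 * (revGL : GL (Fin n) F).1 = (revGL : GL (Fin n) F).1 * A.1 := by
    rw [coe_conjSL, Matrix.mul_assoc, ← Units.val_mul, inv_mul_cancel, Units.val_one, Matrix.mul_one]
  have h3 := congrFun (congrFun h2 i) j.rev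
  have hr : ∀ a : Fin n, (Fin.revPerm : Equiv.Perm (Fin n))⁻¹ a = a.rev := fun a => by
    rw [Equiv.Perm.inv_def, Fin.revPerm_symm]; rfl
  rw [revGL, permGL_mul_apply, Matrix.mul_apply, Finset.sum_eq_single j] at h3
  · rw [permGL_apply, hr, if_pos rfl, mul_one] at h3
    rw [← revGL] at h3
    rw [h3, hr]
  · intro k _ hk
    rw [permGL_apply, if_neg, mul_zero]
    intro h
    rw [hr] at h
    exact hk (by rw [← Fin.rev_rev j, ← h, Fin.rev_rev])
  · simp

theorem revGL_field (e : RingAut F) :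
    (fieldAut e : MulAut PSL) * diagAut revGL = diagAut revGL * fieldAut e := by
  refine MulEquiv.ext fun y => ?_
  obtain ⟨A, rfl⟩ := mk_surjective y
  rw [MulAut.mul_apply, MulAut.mul_apply, diagAut_mk, fieldAut_mk, fieldAut_mk, diagAut_mk]
  congr 1
  refine Subtype.ext (Matrix.ext fun i j => ?_)
  rw [coe_fieldSL, Matrix.map_apply, revGL_conj, revGL_conj, coe_fieldSL, Matrix.map_apply]

theorem revGL_mul_self : (diagAut revGL : MulAut PSL) * diagAut revGL = 1 := by
  refine MulEquiv.ext fun y => ?_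
  obtain ⟨A, rfl⟩ := mk_surjective y
  rw [MulAut.mul_apply, diagAut_mk, diagAut_mk, MulAut.one_apply]
  congr 1
  refine Subtype.ext (Matrix.ext fun i j => ?_)
  rw [revGL_conj, revGL_conj, Fin.rev_rev, Fin.rev_rev]

/-- Automorphisms fixing the unitriangular group and symmetric parabolic subgroups. -/
theorem split2_four (hn : 4 ≤ n) [IsSimpleGroup PSL] : Split2 p PSL := by
  classical
  obtain ⟨U, hU⟩ := exists_sylow (F := F) (n := n) p (by omega)
  set J₁ : Set ℕ := {1, n - 1}
  set J₂ : Set ℕ := {2, n - 2}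
  refine ⟨U, parW J₁, parW J₂, hU ▸ upper_le_parW _, hU ▸ upper_le_parW _,
    parW_ne_top (k := 1) (Or.inl rfl) one_pos (by omega), parW_ne_top (k := 2) (Or.inl rfl) two_pos (by omega),
    parW_sup (by omega) (by rintro k (rfl | rfl) (h | h) <;> simp at h <;> omega), fun φ _ hφU => ?_⟩
  obtain ⟨g, e, δ, hδ, hφ⟩ : ∃ (g : GL (Fin n) F) (e : RingAut F) (δ : MulAut PSL),
      (δ = 1 ∨ δ = diagAut revGL * graphAut) ∧ φ = diagAut g * (fieldAut e * δ) := by
    obtain ⟨g, e, h | h⟩ := exists_decomposition p (by omega) φ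
    · exact ⟨g, e, 1, Or.inl rfl, by rw [h, mul_one]⟩
    · refine ⟨g * revGL, e, _, Or.inr rfl, ?_⟩
      rw [h, map_mul, ← mul_assoc (fieldAut e), revGL_field, mul_assoc (diagAut revGL),
        ← mul_assoc (diagAut g * diagAut revGL), mul_assoc (diagAut g) (diagAut revGL), revGL_mul_self, mul_one,
        mul_assoc]
  -- the outer part on patterns
  have hout : ∀ A : SL, ∃ B : SL, ((fieldAut e : MulAut PSL) * δ) (mk A) = mk B ∧ (A ∈ upper F n → B ∈ upper F n) ∧
      ∀ J : Set ℕ, (∀ k ∈ J, n - k ∈ J ∧ k ≤ n) → A ∈ par J → B ∈ par J := by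
    intro A
    rcases hδ with rfl | rfl
    · refine ⟨fieldSL e A, by rw [mul_one, fieldAut_mk], fun h i j hij => ?_, fun J _ h k hk i j hj hi => ?_⟩
      · rw [coe_fieldSL, Matrix.map_apply, h i j hij]
        rw [Matrix.one_apply]
        split_ifs <;> simp
      · rw [coe_fieldSL, Matrix.map_apply, h k hk i j hj hi, map_zero]
    · refine ⟨fieldSL e (conjSL revGL (graphSL A)), by
        rw [MulAut.mul_apply, MulAut.mul_apply, graphAut_mk, diagAut_mk, fieldAut_mk],
        fun h i j hij => ?_, fun J hJ h k hk i j hj hi => ?_⟩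
      · rw [coe_fieldSL, Matrix.map_apply, revGL_conj, coe_graphSL, Matrix.transpose_apply,
          (inv_mem h : A⁻¹ ∈ upper F n) _ _ (Fin.rev_le_rev.mpr hij)]
        rw [Matrix.one_apply, Matrix.one_apply]
        split_ifs with h1 h2 h2 <;> simp_all [Fin.rev_inj]
      · rw [coe_fieldSL, Matrix.map_apply, revGL_conj, coe_graphSL, Matrix.transpose_apply,
          (inv_mem h : A⁻¹ ∈ par J) (n - k) (hJ k hk).1 _ _ ?_ ?_, map_zero]
        · have := (hJ k hk).2; have := i.isLt; simp [Fin.val_rev]; omega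
        · have := (hJ k hk).2; have := i.isLt; simp [Fin.val_rev]; omega
  have hgU : ∀ u ∈ upper F n, ∃ w ∈ upper F n, u = conjSL g w := by
    intro u hu
    have h1 : φ.symm (mk u) ∈ (U : Subgroup PSL) :=
      (hφU _).mp (by rw [MulEquiv.apply_symm_apply, hU]; exact ⟨u, hu, rfl⟩)
    rw [hU] at h1
    obtain ⟨a, ha, ea⟩ := h1
    obtain ⟨B, hB, hBU, -⟩ := hout a
    have e2 : (mk u : PSL) = mk (conjSL g B) := by
      rw [← diagAut_mk, ← hB, ← MulAut.mul_apply, ← hφ, ea, MulEquiv.apply_symm_apply]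
    refine ⟨B, hBU ha, ?_⟩
    have hz : u⁻¹ * conjSL g B ∈ Subgroup.center SL := (QuotientGroup.eq.mp e2 : _)
    obtain ⟨r, -, hr⟩ := Matrix.SpecialLinearGroup.mem_center_iff.mp hz
    obtain ⟨i1, hi1⟩ := upper_pGroup p (⟨u, hu⟩ : upper F n)
    obtain ⟨i2, hi2⟩ := upper_pGroup p (⟨B, hBU ha⟩ : upper F n)
    have hu' : u ^ p ^ (i1 + i2) = 1 := by
      rw [pow_add, pow_mul, show u ^ p ^ i1 = 1 from congrArg Subtype.val hi1, one_pow]
    have hB' : (conjSL g B) ^ p ^ (i1 + i2) = 1 := by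
      rw [← map_pow, add_comm, pow_add, pow_mul, show B ^ p ^ i2 = 1 from congrArg Subtype.val hi2, one_pow,
        map_one]
    have hz1 : (u⁻¹ * conjSL g B) ^ p ^ (i1 + i2) = 1 := by
      have hcm : Commute u⁻¹ (conjSL g B) := by
        have := Subgroup.mem_center_iff.mp hz u
        show u⁻¹ * conjSL g B = conjSL g B * u⁻¹
        calc u⁻¹ * conjSL g B = (u⁻¹ * conjSL g B) * u * u⁻¹ := by group
          _ = u * (u⁻¹ * conjSL g B) * u⁻¹ := by rw [this]
          _ = _ := by group
      rw [hcm.mul_pow, inv_pow, hu', hB', inv_one, one_mul]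
    have hr1 : r = 1 := by
      have h3 := congrArg (fun A : SL => A.1 (⟨0, by omega⟩ : Fin n) ⟨0, by omega⟩) hz1
      simp only [Matrix.SpecialLinearGroup.coe_pow, ← hr, ← map_pow, Matrix.SpecialLinearGroup.coe_one] at h3
      refine iterateFrobenius_inj F p (i1 + i2) ?_
      simpa [iterateFrobenius_def] using h3
    refine inv_mul_eq_one.mp (Subtype.ext ?_)
    rw [← hr, hr1, map_one, Matrix.SpecialLinearGroup.coe_one]
  have htri : ∀ k : ℕ, ∀ x ∈ stdFlag F n k, g.1 *ᵥ x ∈ stdFlag F n k := by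
    intro k
    induction k with
    | zero =>
      intro x hx
      rw [show x = 0 from funext fun i => hx i (Nat.zero_le _), Matrix.mulVec_zero]
      exact zero_mem _
    | succ k ih =>
      intro x hx j hj
      have hjn := j.isLt
      set i : Fin n := ⟨k, by omega⟩
      obtain ⟨w, hw, hwe⟩ := hgU _ (xx_mem_upper (show i < j from (show k < j.val by omega)) (1 : F))
      have h := ih _ (upper_step hw hx) i le_rfl
      have h2 : g.1 *ᵥ (w.1 *ᵥ x) = (conjSL g w).1 *ᵥ (g.1 *ᵥ x) := by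
        rw [coe_conjSL, Matrix.mulVec_mulVec, Matrix.mulVec_mulVec, Matrix.mul_assoc _ (g⁻¹).1,
          ← Units.val_mul, inv_mul_cancel, Units.val_one, Matrix.mul_one]
      rw [Matrix.mulVec_sub, h2, ← hwe, coe_xx, Matrix.add_mulVec, Matrix.one_mulVec, add_sub_cancel_left,
        Matrix.single_mulVec] at h
      simpa using h
  have hg : g ∈ upperTriangularGL n F := by
    show g.1.BlockTriangular id
    intro i j hji
    have hlt : j.val < i.val := hji
    have := htri (j.val + 1) (Pi.single j 1) (fun r hr => Pi.single_eq_of_ne (fun e => by subst e; omega) 1)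
      i (by omega)
    rwa [Matrix.mulVec_single_one] at this
  have hpar : ∀ J : Set ℕ, ∀ B : SL, B ∈ par J → conjSL g B ∈ par J := by
    intro J B hB k hk i j hj hi
    have hg1 : g.1.BlockTriangular id := hg
    have hg2 : (g⁻¹).1.BlockTriangular id := inv_mem hg
    rw [coe_conjSL, Matrix.mul_apply]
    refine Finset.sum_eq_zero fun l _ => ?_
    by_cases hl : l.val < k
    · rw [Matrix.mul_apply, Finset.sum_eq_zero, zero_mul]
      intro r _
      by_cases hr : r.val < k
      · rw [hg1 (show r < i from Fin.lt_def.mpr (by omega)), zero_mul]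
      · rw [hB k hk r l hl (not_lt.mp hr), mul_zero]
    · rw [hg2 (show j < l from Fin.lt_def.mpr (by omega)), mul_zero]
  have hgen : ∀ J : Set ℕ, (∀ k ∈ J, n - k ∈ J ∧ k ≤ n) → ∀ x, φ x ∈ parW J ↔ x ∈ parW J := by
    intro J hJ
    have hle : (parW J).map φ.toMonoidHom ≤ parW J := by
      rintro _ ⟨_, ⟨A, hA, rfl⟩, rfl⟩
      obtain ⟨B, hB, -, hBJ⟩ := hout A
      show φ (mk A) ∈ parW J
      rw [hφ, MulAut.mul_apply, hB, diagAut_mk]
      exact Subgroup.mem_map_of_mem _ (hpar J B (hBJ J hJ hA))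
    intro x
    have e' : (parW J).map φ.toMonoidHom = parW J := Subgroup.eq_of_le_of_card_ge hle
      (Subgroup.card_map_of_injective φ.injective).ge
    conv_lhs => rw [← e']
    exact Subgroup.mem_map_iff_mem φ.injective
  refine ⟨hgen J₁ ?_, hgen J₂ ?_⟩ <;> rintro k (rfl | rfl)
  · exact ⟨Or.inr rfl, by omega⟩
  · exact ⟨Or.inl (by omega), by omega⟩
  · exact ⟨Or.inr rfl, by omega⟩
  · exact ⟨Or.inl (by omega), by omega⟩

end CfsgLib.PMinimalLie.Linear
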