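import Mathlib

/-!
Finite checks for the two maximal overgroups of a Sylow 2-subgroup of `A₆`.
-/

set_option autoImplicit false
set_option maxRecDepth 100000

namespace CfsgLib.PMinimalLie.Small

/-- The even permutations keeping the last pair. -/
def inP1 (g : Equiv.Perm (Fin 6)) : Prop := Equiv.Perm.sign g = 1 ∧ 4 ≤ (g 4).val ∧ 4 ≤ (g 5).val

/-- The even permutations keeping the three pairs. -/
def inP2 (g : Equiv.Perm (Fin 6)) : Prop := Equiv.Perm.sign g = 1 ∧ (g 0).val / 2 = (g 1).val / 2 ∧
  (g 2).val / 2 = (g 3).val / 2 ∧ (g 4).val / 2 = (g 5).val / 2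

instance : DecidablePred inP1 := fun g => by unfold inP1; infer_instance
instance : DecidablePred inP2 := fun g => by unfold inP2; infer_instance

/-- Their intersection. -/
def inU (g : Equiv.Perm (Fin 6)) : Prop := inP1 g ∧ inP2 g

instance : DecidablePred inU := fun g => by unfold inU; infer_instance

/-- The central involution. -/
def zz : Equiv.Perm (Fin 6) := Equiv.swap 0 1 * Equiv.swap 2 3

theorem closed1 : ∀ g, inP1 g → ∀ k, inP1 k → inP1 (g * k) := by decide +kernel

theorem closed2 : ∀ g, inP2 g → ∀ k, inP2 k → inP2 (g * k) := by decide +kernel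

theorem card_U : (Finset.univ.filter inU).card = 8 := by decide +kernel

theorem zz_U : inU zz ∧ zz ≠ 1 := by decide +kernel

theorem center_U : ∀ u, inU u → (∀ v, inU v → u * v = v * u) → u = 1 ∨ u = zz := by decide +kernel

theorem move : ∀ g : Equiv.Perm (Fin 6), Equiv.Perm.sign g = 1 → inU (g * zz * g⁻¹) → inP1 g ∨ inP2 g := by
  decide +kernel

theorem cross : ∀ g, inP1 g → ¬ inP2 g → ∀ k, inP2 k → ¬ inP1 k → ¬ inU (g * (k * zz * k⁻¹) * g⁻¹) := by
  decide +kernel

theorem proper : ∃ g : Equiv.Perm (Fin 6), inP1 g ∧ ¬ inP2 g ∧ ∃ k, inP2 k ∧ ¬ inP1 k := by decide +kernel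

theorem one_P : inP1 1 ∧ inP2 1 := by decide +kernel

end CfsgLib.PMinimalLie.Small
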