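import Cfsg.Agent.Lib.PMinimalLie.Basic
import Cfsg.Agent.Lib.PMinimalLie.SmallData
import Cfsg.Agent.Lib.LieRigid.Small
import Cfsg.Agent.Lib.SLCard
import Cfsg.Agent.Lib.Elementary
import Cfsg.Agent.Lib.PSL2Spectrum

/-!
`A₆` in characteristic two and `L₂(8)` in characteristic three.
-/

set_option autoImplicit false
set_option linter.unusedSectionVars false
set_option linter.style.haveILetI false
set_option maxRecDepth 100000

namespace CfsgLib.PMinimalLie.Small

open CfsgLib.LieRigid

/-- The alternating group of degree six. -/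
abbrev A6 : Type := ↥(alternatingGroup (Fin 6))


/-- A subgroup from a closed set in a finite group. -/
def subOf (P : Equiv.Perm (Fin 6) → Prop) (h1 : P 1) (hmul : ∀ g, P g → ∀ k, P k → P (g * k)) :
    Subgroup A6 where
  carrier := {x | P x.1}
  one_mem' := h1
  mul_mem' := fun {a b} ha hb => hmul _ ha _ hb
  inv_mem' := fun {a} ha => by
    let N : Submonoid A6 := { carrier := {x | P x.1}, one_mem' := h1, mul_mem' := fun {a b} ha hb => hmul _ ha _ hb }
    show a⁻¹ ∈ N
    have h : a⁻¹ = a ^ (orderOf a - 1) := by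
      rw [inv_eq_iff_mul_eq_one, ← pow_succ', Nat.sub_add_cancel (orderOf_pos a), pow_orderOf_eq_one]
    rw [h]
    exact pow_mem (show a ∈ N from ha) _

theorem max2_A6 [Fact (Nat.Prime 2)] : Max2 2 A6 := by
  classical
  haveI := alternatingGroup.isSimpleGroup (α := Fin 6) (by simp)
  have hA : Nat.card A6 = 360 := by
    rw [nat_card_alternatingGroup, Nat.card_eq_fintype_card, Fintype.card_fin]; rfl
  let P1 := subOf inP1 one_P.1 closed1
  let P2 := subOf inP2 one_P.2 closed2
  have hU : Nat.card ↥(P1 ⊓ P2) = 2 ^ 3 := by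
    have e : ↥(P1 ⊓ P2) ≃ ↥(Finset.univ.filter inU) :=
      { toFun := fun x => ⟨x.1.1, Finset.mem_filter.mpr ⟨Finset.mem_univ _, x.2.1, x.2.2⟩⟩
        invFun := fun x => ⟨⟨x.1, Equiv.Perm.mem_alternatingGroup.mpr (Finset.mem_filter.mp x.2).2.1.1⟩,
          (Finset.mem_filter.mp x.2).2.1, (Finset.mem_filter.mp x.2).2.2⟩
        left_inv := fun x => rfl
        right_inv := fun x => rfl }
    rw [Nat.card_congr e, Nat.card_eq_fintype_card, Fintype.card_coe, card_U]; rfl
  have hidx : ¬ 2 ∣ (P1 ⊓ P2).index := by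
    have h := (P1 ⊓ P2).card_mul_index
    rw [hU, hA] at h
    omega
  let U : Sylow 2 A6 := (IsPGroup.of_card hU).toSylow hidx
  have hUmem : ∀ x : A6, x ∈ (U : Subgroup A6) ↔ inU x.1 := fun x => Iff.rfl
  have hall : ∀ P : Subgroup A6, (U : Subgroup A6) ≤ P → P ≠ ⊤ → P ≤ P1 ∨ P ≤ P2 := by
    intro P hP hne
    have hcore : Cfsg.pCore 2 ↥P ≠ ⊥ := fun h => hne (LieRigid.Small.six P hA h fun hd =>
      U.not_dvd_index (hd.trans (Subgroup.index_dvd_of_le hP)))
    set R : Subgroup A6 := (Cfsg.pCore 2 ↥P).map P.subtype with hR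
    have hRP : R ≤ P := Subgroup.map_subtype_le _
    have hRn : ∀ g ∈ P, ∀ r ∈ R, g * r * g⁻¹ ∈ R := by
      rintro g hg _ ⟨r, hr, rfl⟩
      exact ⟨⟨g, hg⟩ * r * ⟨g, hg⟩⁻¹, (inferInstance : (Cfsg.pCore 2 ↥P).Normal).conj_mem r hr _, by simp⟩
    have hRp : IsPGroup 2 R := (CfsgLib.isPGroup_pCore (G := ↥P) 2).map _
    have hUR : (U : Subgroup A6) ≤ Subgroup.normalizer (R : Set A6) := by
      intro u hu
      rw [Subgroup.mem_normalizer_iff]
      refine fun r => ⟨hRn u (hP hu) r, fun h => ?_⟩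
      have := hRn u⁻¹ (inv_mem (hP hu)) _ h
      simpa [mul_assoc] using this
    have hRU : R ≤ (U : Subgroup A6) := by
      have h := U.is_maximal' (U.isPGroup'.to_sup_of_normal_right' hRp hUR) le_sup_left
      exact le_sup_right.trans h.le
    -- the central involution lies in `R`
    have hRU' : (R.subgroupOf (U : Subgroup A6)).Normal := ⟨fun r hr u => by
      rw [Subgroup.mem_subgroupOf] at hr ⊢
      push_cast
      exact hRn _ (hP u.2) _ hr⟩
    have hRne : R.subgroupOf (U : Subgroup A6) ≠ ⊥ := fun h => hcore (by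
      have h1 : R = ⊥ := by
        rw [Subgroup.eq_bot_iff_forall]
        intro r hr
        have h2 : (⟨r, hRU hr⟩ : (U : Subgroup A6)) ∈ R.subgroupOf (U : Subgroup A6) := hr
        rw [h, Subgroup.mem_bot] at h2
        exact congrArg Subtype.val h2
      exact (Subgroup.map_eq_bot_iff_of_injective _ P.subtype_injective).mp h1)
    obtain ⟨⟨c, hcU⟩, hc, hc1⟩ : ∃ c : (U : Subgroup A6), c ∈ R.subgroupOf (U : Subgroup A6) ⊓
        Subgroup.center (U : Subgroup A6) ∧ c ≠ 1 := by
      haveI := (Subgroup.nontrivial_iff_ne_bot _).mpr hRne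
      haveI : Group.IsNilpotent ↥(U : Subgroup A6) := U.isPGroup'.isNilpotent
      obtain ⟨⟨c, hc⟩, hc1⟩ := Subgroup.ne_bot_iff_exists_ne_one.mp
        (CfsgLib.inf_center_ne_bot_of_nilpotent (N := R.subgroupOf (U : Subgroup A6)) hRne)
      exact ⟨c, hc, fun e => hc1 (Subtype.ext e)⟩
    have hz : (c : Equiv.Perm (Fin 6)) = zz := by
      refine (center_U _ ((hUmem c).mp hcU) fun v hv => ?_).resolve_left fun e => hc1 (Subtype.ext (Subtype.ext e))
      have := Subgroup.mem_center_iff.mp hc.2 ⟨⟨v, Equiv.Perm.mem_alternatingGroup.mpr hv.1.1⟩, hv⟩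
      exact (congrArg (fun x : (U : Subgroup A6) => x.1.1) this).symm
    have hzR : c ∈ R := hc.1
    by_contra hno
    simp only [not_or, SetLike.not_le_iff_exists] at hno
    obtain ⟨⟨g, hg, hg1⟩, k, hk, hk2⟩ := hno
    have mv : ∀ g ∈ P, inP1 g.1 ∨ inP2 g.1 := fun g hg => move g.1 (Equiv.Perm.mem_alternatingGroup.mp g.2) (by
      have := (hUmem _).mp (hRU (hRn g hg c hzR))
      simpa [hz] using this)
    have hg2 : inP2 g.1 := (mv g hg).resolve_left hg1
    have hk1 : inP1 k.1 := (mv k hk).resolve_right hk2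
    refine cross k.1 hk1 hk2 g.1 hg2 hg1 ?_
    have := (hUmem _).mp (hRU (hRn k hk _ (hRn g hg c hzR)))
    simpa [hz] using this
  obtain ⟨g, hg1, hg2, k, hk2, hk1⟩ := proper
  let g' : A6 := ⟨g, Equiv.Perm.mem_alternatingGroup.mpr hg1.1⟩
  let k' : A6 := ⟨k, Equiv.Perm.mem_alternatingGroup.mpr hk2.1⟩
  refine ⟨U, P1, P2, inf_le_left, inf_le_right, fun h => hk1 (h ▸ Subgroup.mem_top k' : k' ∈ P1),
    fun h => hg2 (h ▸ Subgroup.mem_top g' : g' ∈ P2), ?_, Subgroup.le_normalizer, hall⟩
  by_contra hne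
  rcases hall _ (inf_le_left.trans le_sup_left) hne with h | h
  · exact hk1 (h (Subgroup.mem_sup_right (show k' ∈ P2 from hk2)))
  · exact hg2 (h (Subgroup.mem_sup_left (show g' ∈ P1 from hg1)))

theorem rankOne_eight [Fact (Nat.Prime 3)] {F : Type} [Field F] [Fintype F] (hF : Fintype.card F = 8) :
    RankOneLike 3 (Matrix.ProjectiveSpecialLinearGroup (Fin 2) F) := by
  haveI : IsSimpleGroup (Matrix.ProjectiveSpecialLinearGroup (Fin 2) F) :=
    Matrix.ProjectiveSpecialLinearGroup.rank_two_simple (by rw [Nat.card_eq_fintype_card, hF]; norm_num)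
  haveI : Fact (Nat.Prime 2) := ⟨Nat.prime_two⟩
  haveI : CharP F 2 := charP_of_card_eq_prime_pow (f := 3) (by rw [hF]; norm_num)
  set K := Matrix.ProjectiveSpecialLinearGroup (Fin 2) F
  haveI : Finite K := Quotient.finite _
  have hc : Nat.card K = 504 := by
    have h := CfsgLib.SLCard.gcd_mul_card_PSL (F := F) (n := 2) (by norm_num)
    rw [CfsgLib.SLCard.card_SL_two, hF] at h
    norm_num at h
    exact h
  have hord : ∀ (r : ℕ) (x : K), r = 6 ∨ r = 21 → orderOf x ≠ r := fun r x hr hx => by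
    have := (CfsgLib.PSL2Spectrum.psl_orders (F := F) 2 r).mp ⟨x, hx⟩
    rw [hF] at this
    rcases hr with rfl | rfl <;> norm_num at this
  obtain ⟨U⟩ : Nonempty (Sylow 3 K) := inferInstance
  refine ⟨U, fun P hP hne => ?_⟩
  have hcore : Cfsg.pCore 3 ↥P ≠ ⊥ := fun h => hne (LieRigid.Small.eight P hc (fun x => hord 6 x (Or.inl rfl)) h
    fun hd => U.not_dvd_index (hd.trans (Subgroup.index_dvd_of_le hP)))
  haveI hRn : (Cfsg.pCore 3 ↥P).Normal := inferInstance
  set R := Cfsg.pCore 3 ↥P
  set C := Subgroup.centralizer (R : Set ↥P)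
  haveI hCn : C.Normal := inferInstance
  obtain ⟨n, hn⟩ := (CfsgLib.isPGroup_pCore (G := ↥P) 3).exists_card_eq
  have hn0 : n ≠ 0 := fun h => hcore (Subgroup.card_eq_one.mp (by rw [hn, h, pow_zero]))
  obtain ⟨r, hr⟩ := exists_prime_orderOf_dvd_card' (G := R) 3 (hn ▸ dvd_pow_self 3 hn0)
  -- the centralizer is a 3-group
  have hC : IsPGroup 3 C := by
    refine IsPGroup.of_card (n := (Nat.card C).primeFactorsList.length) (Nat.eq_prime_pow_of_unique_prime_dvd Nat.card_pos.ne' fun {s} hs hsC => ?_)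
    haveI := Fact.mk hs
    obtain ⟨x, hx⟩ := exists_prime_orderOf_dvd_card' (G := C) s hsC
    rw [← Subgroup.orderOf_coe] at hx
    by_contra hne3
    have hcm : Commute (x : ↥P) (r : ↥P) := (Subgroup.mem_centralizer_iff.mp x.2 r r.2).symm
    rw [← Subgroup.orderOf_coe] at hr
    have hm := hcm.orderOf_mul_eq_mul_orderOf_of_coprime (by
      rw [hx, hr]; exact (Nat.coprime_primes hs Nat.prime_three).mpr hne3)
    rw [hx, hr, ← Subgroup.orderOf_coe] at hm
    have h504 : s ∣ 504 := by
      have h := (orderOf_dvd_natCard (x : ↥P)).trans (Subgroup.card_subgroup_dvd_card P)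
      rwa [hx, hc] at h
    have hs7 : s = 2 ∨ s = 7 := by
      rw [show (504 : ℕ) = 2 ^ 3 * (3 ^ 2 * 7) by norm_num] at h504
      rcases hs.dvd_mul.mp h504 with h | h
      · exact Or.inl ((Nat.prime_dvd_prime_iff_eq hs Nat.prime_two).mp (hs.dvd_of_dvd_pow h))
      · rcases hs.dvd_mul.mp h with h | h
        · exact absurd ((Nat.prime_dvd_prime_iff_eq hs Nat.prime_three).mp (hs.dvd_of_dvd_pow h)) hne3
        · exact Or.inr ((Nat.prime_dvd_prime_iff_eq hs (by norm_num)).mp h)
    rcases hs7 with rfl | rfl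
    · exact hord 6 _ (Or.inl rfl) hm
    · exact hord 21 _ (Or.inr rfl) hm
  -- so it lies in the core and the index is coprime to three
  have hCR : C ≤ R := CfsgLib.le_pCore hC
  have hUR : U.subtype hP = (R : Subgroup ↥P) := by
    have hRU : R ≤ (U.subtype hP : Subgroup ↥P) := by
      have h := (U.subtype hP).is_maximal' ((U.subtype hP).isPGroup'.to_sup_of_normal_right
        (CfsgLib.isPGroup_pCore (G := ↥P) 3)) le_sup_left
      exact le_sup_right.trans h.le
    refine le_antisymm ?_ hRU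
    have hRc : (IsCyclic R ∧ n = 1) ∨ n ≠ 1 := by
      by_cases h1 : n = 1
      · exact Or.inl ⟨isCyclic_of_prime_card (p := 3) (by rw [hn, h1, pow_one]), h1⟩
      · exact Or.inr h1
    have hn2 : n ≤ 2 := by
      have h1 : 3 ^ n ∣ 504 := hc ▸ hn ▸ (Subgroup.card_subgroup_dvd_card R).trans (Subgroup.card_subgroup_dvd_card P)
      by_contra h
      have := (pow_dvd_pow 3 (show 3 ≤ n by omega)).trans h1
      norm_num at this
    have hUc : Nat.card (U.subtype hP : Subgroup ↥P) = 3 ^ 2 := by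
      rw [Sylow.coe_subtype, Nat.card_congr (Subgroup.subgroupOfEquivOfLe hP).toEquiv]
      have := U.card_eq_multiplicity
      rwa [hc, show (504 : ℕ) = 56 * 3 ^ 2 by norm_num, Nat.factorization_mul (by norm_num) (by norm_num),
        Finsupp.add_apply, Nat.Prime.factorization_pow Nat.prime_three, Finsupp.single_eq_same,
        Nat.factorization_eq_zero_of_not_dvd (show ¬ 3 ∣ 56 by norm_num), zero_add] at this
    rcases hRc with ⟨hcyc, h1⟩ | h1
    · -- a group of order three centralised by the whole Sylow subgroup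
      haveI := hcyc
      have h3 : Nat.card R = 3 := by
        obtain rfl : n = 1 := h1
        rw [hn, pow_one]
      intro u hu
      refine hCR ?_
      obtain ⟨m, hm⟩ := (U.subtype hP).isPGroup' ⟨u, hu⟩
      have hum : u ^ 3 ^ m = 1 := congrArg Subtype.val hm
      set α : MulAut R := MulAut.conjNormal u with hα
      have hα1 : α = 1 := by
        have h1 : orderOf α ∣ 3 ^ m := orderOf_dvd_of_pow_eq_one (by rw [hα, ← map_pow, hum, map_one])
        have h2 : orderOf α ∣ 2 := by
          have := orderOf_dvd_natCard α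
          rwa [IsCyclic.card_mulAut, h3, Nat.totient_prime Nat.prime_three] at this
        exact orderOf_eq_one_iff.mp (Nat.eq_one_of_dvd_coprimes ((show Nat.Coprime 3 2 by norm_num).pow_left m) h1 h2)
      rw [Subgroup.mem_centralizer_iff]
      intro y hy
      have := congrArg (fun β : MulAut R => ((β ⟨y, hy⟩ : R) : ↥P)) hα1
      simp only [hα, MulAut.conjNormal_apply, MulAut.one_apply] at this
      calc y * u = (u * y * u⁻¹) * u := by rw [this]
        _ = u * y := by group
    · exact (Subgroup.eq_of_le_of_card_ge hRU (by rw [hUc, hn, show n = 2 by omega])).ge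
  intro g hg
  rw [Subgroup.mem_normalizer_iff]
  have key : ∀ g ∈ P, ∀ u ∈ (U : Subgroup K), g * u * g⁻¹ ∈ (U : Subgroup K) := by
    intro g hg u hu
    have h : (⟨u, hP hu⟩ : ↥P) ∈ R := hUR ▸ (by rw [Sylow.coe_subtype]; exact hu)
    have h2 := hRn.conj_mem _ h ⟨g, hg⟩
    rw [← hUR, Sylow.coe_subtype] at h2
    exact h2
  refine fun u => ⟨key g hg u, fun h => ?_⟩
  have := key g⁻¹ (inv_mem hg) _ h
  simpa [mul_assoc] using this

end CfsgLib.PMinimalLie.Small
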