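import Cfsg.Agent.Lib.PMinimalLie.Split
import Cfsg.Agent.Lib.LieRigid.Derived

/-!
Overgroups in a normal subgroup of small index of a group with split root data and trivial torus.
-/

set_option autoImplicit false

namespace CfsgLib.PMinimalLie

open CfsgLib.LieRigid

variable {G : Type*} [Group G] {p : ℕ} (D : SplitData G p) (K : Subgroup G) [K.Normal]

variable (hH : D.H = ⊥) (hX : ∀ a, ∃ x ∈ D.X a, x ∈ K ∧ x ≠ 1)
  (hR : ∀ a, (∀ u ∈ D.U, u ∈ K) ∨ ∃ r ∈ D.U, r ∉ K ∧ D.n a * r * (D.n a)⁻¹ ∈ D.U)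
  (hU2 : ∀ u ∈ D.U, ∀ v ∈ D.U, u ∉ K → v ∉ K → u * v ∈ K)

include hR hU2 in
theorem exists_proj (a : D.ι) (u : G) (hu : u ∈ D.U) :
    ∃ k ∈ D.U ⊓ K, D.n a * (k * u⁻¹) * (D.n a)⁻¹ ∈ D.U := by
  by_cases huK : u ∈ K
  · exact ⟨u, ⟨hu, huK⟩, by simp⟩
  rcases hR a with h | ⟨r, hr, hrK, hnr⟩
  · exact absurd (h u hu) huK
  · exact ⟨r * u, ⟨mul_mem hr hu, hU2 r hr u hu hrK huK⟩, by rwa [mul_inv_cancel_right]⟩

include hH hX hR hU2 in
/-- An overgroup meeting all the reflections contains `K`. -/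
theorem le_of_met {N' : Subgroup G} (hNK : N' ≤ K) (hUM : D.U ⊓ K ≤ N')
    (hall : ∀ a, ∃ h ∈ D.H, D.Meets N' (h * D.n a)) : K ≤ N' := by
  classical
  have hproj := exists_proj D K hR hU2
  have hK : ∀ g ∈ K, g ∈ N' := by
    by_cases hU : ∀ u ∈ D.U, u ∈ K
    · intro g _
      obtain ⟨u, hu, u', hu', h⟩ := D.meets_everything hNK hUM hX hproj hH hall g
      have h1 := mul_mem (mul_mem (inv_mem (hUM ⟨hu, hU u hu⟩)) h) (inv_mem (hUM ⟨hu', hU u' hu'⟩))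
      simpa [mul_assoc] using h1
    push Not at hU
    obtain ⟨u₀, hu₀, hu₀K⟩ := hU
    have hu₀i : u₀⁻¹ ∉ K := fun h => hu₀K (by simpa using inv_mem h)
    have hcase : ∀ g ∈ K, g ∈ N' ∨ u₀ * g * u₀⁻¹ ∈ N' := by
      intro g hg
      obtain ⟨u, hu, u', hu', h⟩ := D.meets_everything hNK hUM hX hproj hH hall g
      by_cases huK : u ∈ K
      · left
        have hu'K : u' ∈ K := by
          have := mul_mem (inv_mem (mul_mem huK hg)) (hNK h)
          simpa [mul_assoc] using this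
        have h1 := mul_mem (mul_mem (inv_mem (hUM ⟨hu, huK⟩)) h) (inv_mem (hUM ⟨hu', hu'K⟩))
        simpa [mul_assoc] using h1
      · right
        have hu'K : u' ∉ K := fun h' => huK (by
          have := mul_mem (mul_mem (hNK h) (inv_mem h')) (inv_mem hg)
          simpa [mul_assoc] using this)
        have hm : u * u₀⁻¹ ∈ D.U := mul_mem hu (inv_mem hu₀)
        have ha := hUM ⟨hm, hU2 u hu u₀⁻¹ (inv_mem hu₀) huK hu₀i⟩
        have hb := hUM ⟨mul_mem hu₀ hu', hU2 u₀ hu₀ u' hu' hu₀K hu'K⟩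
        have h1 := mul_mem (mul_mem (inv_mem ha) h) (inv_mem hb)
        simpa [mul_assoc] using h1
    intro g hg
    by_contra hgN
    -- a group is not the union of two proper subgroups
    have hcj : ∀ x ∈ K, u₀ * x * u₀⁻¹ ∈ N' := by
      intro x hx
      rcases hcase x hx with h | h
      · rcases hcase (g * x) (mul_mem hg hx) with h' | h'
        · exact absurd (by simpa [mul_assoc] using mul_mem h' (inv_mem h)) hgN
        · have h2 := mul_mem (inv_mem ((hcase g hg).resolve_left hgN)) h'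
          simpa [mul_assoc] using h2
      · exact h
    exact hgN (by simpa [mul_assoc] using hcj (u₀⁻¹ * g * u₀⁻¹⁻¹) (‹K.Normal›.conj_mem g hg _))
  exact hK

/-- Two maximal overgroups in `K`, the traces of the parabolic subgroups. -/
theorem max2_derived [Finite G] [Fact p.Prime] {a b : D.ι} (hab : a ≠ b) (hall : ∀ c, c = a ∨ c = b)
    (hH : D.H = ⊥) (hX : ∀ a, ∃ x ∈ D.X a, x ∈ K ∧ x ≠ 1)
    (hR : ∀ a, (∀ u ∈ D.U, u ∈ K) ∨ ∃ r ∈ D.U, r ∉ K ∧ D.n a * r * (D.n a)⁻¹ ∈ D.U)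
    (hU2 : ∀ u ∈ D.U, ∀ v ∈ D.U, u ∉ K → v ∉ K → u * v ∈ K) (hnK : ∀ c, D.n c ∈ K)
    (hna : D.n a ∉ pJ D {c | c ≠ a}) (hnb : D.n b ∉ pJ D {c | c ≠ b})
    (S : Sylow p ↥K) (hS : (S : Subgroup ↥K) = D.U.subgroupOf K) :
    ∃ P₁ P₂ : Subgroup ↥K, P₁ = (pJ D {c | c ≠ a}).subgroupOf K ∧ P₂ = (pJ D {c | c ≠ b}).subgroupOf K ∧
      (S : Subgroup ↥K) ≤ P₁ ∧ (S : Subgroup ↥K) ≤ P₂ ∧ P₁ ≠ ⊤ ∧ P₂ ≠ ⊤ ∧ P₁ ⊔ P₂ = ⊤ ∧
      P₁ ⊓ P₂ ≤ Subgroup.normalizer ((S : Subgroup ↥K) : Set ↥K) ∧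
      ∀ P : Subgroup ↥K, (S : Subgroup ↥K) ≤ P → P ≠ ⊤ → P ≤ P₁ ∨ P ≤ P₂ := by
  have hne : ∀ c, D.n c ∉ pJ D {d | d ≠ c} := fun c => by rcases hall c with rfl | rfl <;> assumption
  have hover : ∀ P : Subgroup ↥K, (S : Subgroup ↥K) ≤ P → P ≠ ⊤ → ∃ c, P ≤ (pJ D {d | d ≠ c}).subgroupOf K := by
    intro P hP htop
    have hNK : P.map K.subtype ≤ K := Subgroup.map_subtype_le P
    have hUM : D.U ⊓ K ≤ P.map K.subtype := fun x hx => ⟨⟨x, hx.2⟩, hP (hS ▸ hx.1), rfl⟩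
    by_cases hm : ∀ c, ∃ h ∈ D.H, D.Meets (P.map K.subtype) (h * D.n c)
    · refine absurd ?_ htop
      rw [eq_top_iff]
      intro x _
      obtain ⟨y, hy, e⟩ := le_of_met D K hH hX hR hU2 hNK hUM hm x.2
      exact Subtype.coe_injective e ▸ hy
    · push Not at hm
      obtain ⟨c, hc⟩ := hm
      refine ⟨c, fun x hx => ?_⟩
      have hx' : (x : G) ∈ P.map K.subtype := ⟨x, hx, rfl⟩
      have h := D.le_parabolic hNK hUM hX (exists_proj D K hR hU2) (x : G) (D.meets_of_mem hx')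
      refine Subgroup.closure_mono ?_ h
      rintro y (hy | ⟨d, rfl, h', hh', hd⟩)
      · exact Or.inl hy
      · exact Or.inr ⟨d, fun e => hc h' hh' (e ▸ hd), rfl⟩
  have hUJ : ∀ c, (S : Subgroup ↥K) ≤ (pJ D {d | d ≠ c}).subgroupOf K := fun c x hx => by
    rw [hS] at hx
    exact U_le_pJ D _ hx
  have htop : ∀ c, (pJ D {d | d ≠ c}).subgroupOf K ≠ ⊤ := fun c e => hne c
    ((e ▸ Subgroup.mem_top (⟨D.n c, hnK c⟩ : ↥K) : (⟨D.n c, hnK c⟩ : ↥K) ∈ (pJ D {d | d ≠ c}).subgroupOf K))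
  refine ⟨_, _, rfl, rfl, hUJ a, hUJ b, htop a, htop b, ?_, ?_, fun P hP hPt => ?_⟩
  · by_contra hj
    obtain ⟨c, hc⟩ := hover _ ((hUJ a).trans le_sup_left) hj
    refine hne c (hc (show (⟨D.n c, hnK c⟩ : ↥K) ∈ _ from ?_))
    rcases hall c with rfl | rfl
    · exact Subgroup.mem_sup_right (n_mem_pJ D (J := {d | d ≠ b}) hab)
    · exact Subgroup.mem_sup_left (n_mem_pJ D (J := {d | d ≠ a}) hab.symm)
  · intro x hx
    set P := (pJ D {c | c ≠ a}).subgroupOf K ⊓ (pJ D {c | c ≠ b}).subgroupOf K with hPdef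
    have hNK : P.map K.subtype ≤ K := Subgroup.map_subtype_le P
    have hUM : D.U ⊓ K ≤ P.map K.subtype := fun y hy =>
      ⟨⟨y, hy.2⟩, ⟨hUJ a (hS ▸ hy.1), hUJ b (hS ▸ hy.1)⟩, rfl⟩
    have h := D.le_parabolic hNK hUM hX (exists_proj D K hR hU2) (x : G) (D.meets_of_mem ⟨x, hx, rfl⟩)
    have hxU : (x : G) ∈ D.U := by
      refine (Subgroup.closure_le _).mpr ?_ h
      rintro y ((hy | hy) | ⟨c, rfl, h', hh', u, hu, u', hu', ⟨z, hz, ez⟩⟩)
      · exact hy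
      · rw [hH] at hy
        exact (Subgroup.mem_bot.mp hy) ▸ one_mem _
      · exfalso
        have key : ∀ J : Set D.ι, u * (h' * D.n c) * u' ∈ pJ D J → D.n c ∈ pJ D J := fun J hJ => by
          have := mul_mem (inv_mem (H_le_pJ D J hh'))
            (mul_mem (mul_mem (inv_mem (U_le_pJ D J hu)) hJ) (inv_mem (U_le_pJ D J hu')))
          simpa [mul_assoc] using this
        rcases hall c with rfl | rfl
        · exact hna (key _ (ez ▸ hz.1))
        · exact hnb (key _ (ez ▸ hz.2))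
    exact Subgroup.le_normalizer (show x ∈ (S : Subgroup ↥K) by rw [hS]; exact hxU)
  · obtain ⟨c, hc⟩ := hover P hP hPt
    rcases hall c with rfl | rfl
    · exact Or.inl hc
    · exact Or.inr hc

end CfsgLib.PMinimalLie
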