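import Cfsg.Agent.Lib.PMinimalLie.Exceptional
import Cfsg.Agent.Lib.PMinimalLie.Derived
import Cfsg.Agent.Lib.Chev.Twist.TitsParabolic
import Cfsg.Agent.Lib.InnerFix.Tits
import Cfsg.Agent.Lib.LieRigid.Suzuki

/-!
Invariant parabolic subgroups of the twisted groups, the Suzuki groups and the Tits group.
-/

set_option autoImplicit false
set_option linter.unusedSectionVars false
set_option linter.dupNamespace false
set_option maxRecDepth 100000

namespace CfsgLib.PMinimalLie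

open Cfsg.Lie Matrix CfsgLib.Chev CfsgLib.Chev.Chev CfsgLib.LieRigid

variable {p : ℕ} [Fact p.Prime] {K : Type} [Field K] [Fintype K]

theorem split2_D4 [CharP K p] {q : ℕ} (hq : IsPrimePow q) (hK : Fintype.card K = q ^ 3)
    [IsSimpleGroup ↥(twistedD4 K q)] (hnp : ¬ IsPGroup p ↥(twistedD4 K q)) : Split2 p ↥(twistedD4 K q) := by
  refine (T3D4.gen hq hK).split2 p (T3D4.wit hq hK) hnp (a := T3D4.ox 0) (b := T3D4.ox 1) ?_
  rw [Tw.Coord.card_rootP (T3D4.coord0 hq hK), Tw.Coord.card_rootP (T3D4.coord1 hq hK)]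
  intro e
  obtain ⟨f⟩ := (Finite.card_eq.mp e.symm : Nonempty _)
  exact T3D4.no_inj hq hK f f.injective

theorem split2_E6 [CharP K p] {q : ℕ} (hq : IsPrimePow q) (hK : Fintype.card K = q ^ 2)
    [IsSimpleGroup ↥(twistedE6 K q)] (hnp : ¬ IsPGroup p ↥(twistedE6 K q)) : Split2 p ↥(twistedE6 K q) := by
  refine (T2E6.gen hq hK).split2 p (T2E6.wit hq hK) hnp (a := T2E6.ox 0) (b := T2E6.ox 2) ?_
  rw [Tw.Coord.card_rootP (T2E6.coord0 hq hK), Tw.Coord.card_rootP (T2E6.coord2 hq hK)]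
  intro e
  obtain ⟨f⟩ := (Finite.card_eq.mp e.symm : Nonempty _)
  exact T2E6.no_inj hq hK f f.injective

theorem split2_F4 [CharP K 2] {m : ℕ} (hK : Fintype.card K = 2 ^ (2 * m + 1))
    [IsSimpleGroup ↥(twistedF4 K (2 ^ m))] (hnp : ¬ IsPGroup 2 ↥(twistedF4 K (2 ^ m))) :
    Split2 2 ↥(twistedF4 K (2 ^ m)) := by
  haveI := Fact.mk Nat.prime_two
  haveI : Finite ↥(twistedF4 K (2 ^ m)) := Subgroup.instFiniteSubtypeMem _
  refine (T2F4.gen hK).split2 2 (T2F4.wit hK) hnp (a := T2F4.ox 0) (b := T2F4.ox 1) ?_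
  rw [Tw.Coord.card_rootP (T2F4.coord0 hK)]
  intro e
  have h : Nat.card (K × K) ≤ Nat.card {x : ↥(twistedF4 K (2 ^ m)) // Tw.rootP T2F4.S (T2F4.ox 1) x} :=
    Nat.card_le_card_of_injective (fun z => ⟨T2F4.W z.1 z.2, (T2F4.W_iff hK _).mpr ⟨_, _, rfl⟩⟩) fun z w h => by
      obtain ⟨h1, h2⟩ := T2F4.W_inj hK (congrArg Subtype.val h)
      exact Prod.ext h1 h2
  rw [← e, Nat.card_prod] at h
  have h1 : 1 < Nat.card K := Finite.one_lt_card
  nlinarith

theorem rankOne_Ree [CharP K 3] {m : ℕ} (hK : Fintype.card K = 3 ^ (2 * m + 1))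
    [IsSimpleGroup ↥(twistedG2 K (3 ^ m))] (hnp : ¬ IsPGroup 3 ↥(twistedG2 K (3 ^ m))) :
    RankOneLike 3 ↥(twistedG2 K (3 ^ m)) := by
  haveI := Fact.mk Nat.prime_three
  haveI : Finite ↥(twistedG2 K (3 ^ m)) := Subgroup.instFiniteSubtypeMem _
  set D := (T2G2.gen hK).splitData 3 (T2G2.wit hK).ne
  haveI : Nonempty D.ι := ⟨(⟨0, by decide⟩ : Fin T2G2.S.m)⟩
  haveI : Subsingleton D.ι := ⟨fun a b => Fin.ext (by
    have h1 : (a : Fin T2G2.S.m).val < 1 := a.isLt
    have h2 : (b : Fin T2G2.S.m).val < 1 := b.isLt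
    omega)⟩
  exact rankOneLike_of_split D ((T2G2.gen hK).splitData_X_ne 3 (T2G2.wit hK).ne)
    ((T2G2.gen hK).splitData_rad_ne 3 (T2G2.wit hK).ne) hnp

theorem rankOne_Sz {F : Type} [Field F] [Fintype F] {m : ℕ} (hF : Fintype.card F = 2 ^ (2 * m + 1)) (hm : 1 ≤ m)
    [IsSimpleGroup ↥(Cfsg.Sz F m)] [Finite ↥(Cfsg.Sz F m)] (hnp : ¬ IsPGroup 2 ↥(Cfsg.Sz F m)) :
    RankOneLike 2 ↥(Cfsg.Sz F m) := by
  haveI := Fact.mk Nat.prime_two
  haveI : Nonempty (CfsgLib.Suzuki.splitData hF hm).ι := ⟨()⟩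
  haveI : Subsingleton (CfsgLib.Suzuki.splitData hF hm).ι := inferInstanceAs (Subsingleton Unit)
  exact rankOneLike_of_split (CfsgLib.Suzuki.splitData hF hm) (fun _ => CfsgLib.Suzuki.U_ne_bot hF hm)
    (fun _ => CfsgLib.Suzuki.U_ne_bot hF hm) hnp

end CfsgLib.PMinimalLie

namespace CfsgLib.Chev.T2F4Two

open Cfsg.Lie Matrix CfsgLib.Chev CfsgLib.Chev.Chev CfsgLib.Chev.T2F4 CfsgLib.LieRigid CfsgLib.PMinimalLie
open CfsgLib.InnerFix.Tits

theorem split2_tits : Split2 2 ↥TT := by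
  classical
  haveI := Fact.mk Nat.prime_two
  haveI := T2F4.charP_two hK
  haveI : Finite ↥G := Subgroup.instFiniteSubtypeMem _
  haveI : (TT : Subgroup ↥G).Normal := inferInstanceAs (commutator ↥G).Normal
  let D := (T2F4.gen hK).splitData 2 (T2F4.wit hK).ne
  have hT : ∀ x : GL Cfsg.Lie.chevF4.Idx F, x ∈ Cfsg.Lie.chevF4.diagonalSubgroup F → x = 1 := fun x hx => by
    obtain ⟨d, hd⟩ := CfsgLib.Chev.chevF4.exists_torus_of_mem_H hx
    rw [hd, show d = 1 from funext fun j => Subsingleton.elim _ _, map_one]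
  have hH : D.H = ⊥ := by
    rw [Subgroup.eq_bot_iff_forall]
    exact fun x hx => Subtype.ext (hT _ hx)
  -- the parabolic subgroups
  have hQ : ∀ c : Fin S.m, pJ D {c} = ((gen hK).bnPair (wit hK).ne).parabolic {(gen hK).sn c} := by
    intro c
    refine le_antisymm ?_ (sup_le ?_ ?_)
    · rw [pJ, Subgroup.closure_le]
      rintro y ((hy | hy) | ⟨d, hd, rfl⟩)
      · exact Subgroup.mem_sup_left (Tw.mem_B1.mpr (Subgroup.mem_sup_left hy))
      · exact Subgroup.mem_sup_left (Tw.mem_B1.mpr (Subgroup.mem_sup_right hy))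
      · obtain rfl : d = c := hd
        exact Subgroup.mem_sup_right (Subgroup.subset_closure rfl)
    · intro b hb
      obtain ⟨v, hv, y, hy, e⟩ := (tw hK).B_mem (Tw.mem_B1.mp hb)
        (show _ ∈ (tw hK).fix by rw [← eq_fix hK]; exact b.2)
      rw [hT y hy.1, mul_one] at e
      exact U_le_pJ D _ (show (b : GL Cfsg.Lie.chevF4.Idx F) ∈ _ by rw [e]; exact hv.1)
    · rw [Subgroup.closure_le]
      rintro _ rfl
      exact n_mem_pJ D (J := {c}) rfl
  have hcard : ∀ c : Fin S.m, Nat.card ↥(pJ D {c}) = 2 ^ 12 * (2 ^ (c.val + 1) + 1) := fun c => by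
    rw [hQ, T2F4.card_parabolic hK (wit hK).ne c]
    norm_num
  have hJ : ∀ a b : Fin S.m, a ≠ b → ({d : D.ι | d ≠ a} : Set D.ι) = {b} := by
    intro a b hab
    ext d
    show (d : Fin S.m) ≠ a ↔ (d : Fin S.m) = b
    have h1 : (d : Fin S.m).val < 2 := d.isLt
    have h2 : a.val < 2 := a.isLt
    have h3 : b.val < 2 := b.isLt
    have h4 : a.val ≠ b.val := fun e => hab (Fin.ext e)
    constructor
    · intro h
      have h5 : (d : Fin S.m).val ≠ a.val := fun e => h (Fin.ext e)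
      exact Fin.ext (by omega)
    · intro h e
      exact hab (e.symm.trans h)
  -- a reflection lies only in its own parabolic
  have hn : ∀ a b : Fin S.m, a ≠ b → D.n a ∉ pJ D {d : D.ι | d ≠ a} := by
    intro a b hab h
    rw [hJ a b hab] at h
    have hle : pJ D {a} ≤ pJ D {b} := by
      rw [pJ, Subgroup.closure_le]
      rintro y ((hy | hy) | ⟨d, hd, rfl⟩)
      · exact U_le_pJ D _ hy
      · exact H_le_pJ D _ hy
      · obtain rfl : d = a := hd
        exact h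
    have hdvd := Subgroup.card_dvd_of_le hle
    rw [hcard, hcard, Nat.mul_dvd_mul_iff_left (by norm_num)] at hdvd
    have h2 : a.val < 2 := a.isLt
    have h3 : b.val < 2 := b.isLt
    have h4 : a.val ≠ b.val := fun e => hab (Fin.ext e)
    interval_cases ha : a.val <;> interval_cases hb : b.val <;> simp_all
  have hinvol : ∀ a, ∃ x ∈ D.X a, x ∈ (TT : Subgroup ↥G) ∧ x ≠ 1 := fun a => by
    have hne := (gen hK).splitData_X_ne 2 (wit hK).ne a
    haveI : Nontrivial (D.X a) := (Subgroup.nontrivial_iff_ne_bot _).mpr hne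
    obtain ⟨n, hn'⟩ := (D.pU.to_le (D.X_le a)).exists_card_eq
    have h2 : 2 ∣ Nat.card (D.X a) := by
      have := Finite.one_lt_card (α := D.X a)
      rw [hn'] at this ⊢
      rcases n with _ | n
      · simp at this
      · exact dvd_pow_self 2 n.succ_ne_zero
    obtain ⟨x, hx⟩ := exists_prime_orderOf_dvd_card' (G := D.X a) 2 h2
    rw [← Subgroup.orderOf_coe] at hx
    exact ⟨x, x.2, involution_mem_commutator _ hx, fun e => by rw [e, orderOf_one] at hx; norm_num at hx⟩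
  have hab : ∀ u ∈ D.U, ab u = 1 ∨ ab u = cl 1 := by
    intro u hu
    obtain ⟨A, hA, e⟩ := mem_U ⟨hu, u.2⟩
    have hlt := (sublist_facts hA).2
    have eu : u = gel A := Subtype.ext (by rw [gel_val hlt]; exact e)
    rw [eu, ab_gel hlt, cl_prod A hlt]
    obtain ⟨k, hk | hk⟩ := Nat.even_or_odd' (A.map par).sum
    · left; rw [hk, pow_mul, sq, cl_values.1, one_pow]
    · right; rw [hk, pow_succ, pow_mul, sq, cl_values.1, one_pow, one_mul]
  have hmem : ∀ x : ↥G, x ∈ (TT : Subgroup ↥G) ↔ ab x = 1 := fun x => by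
    show x ∈ commutator ↥G ↔ _
    rw [← Abelianization.ker_of]; exact MonoidHom.mem_ker
  have hU2 : ∀ u ∈ D.U, ∀ v ∈ D.U, u ∉ (TT : Subgroup ↥G) → v ∉ (TT : Subgroup ↥G) → u * v ∈ (TT : Subgroup ↥G) := by
    intro u hu v hv huK hvK
    rw [hmem] at huK hvK ⊢
    rw [map_mul, (hab u hu).resolve_left huK, (hab v hv).resolve_left hvK, cl_values.1]
  have hR : ∀ a, (∀ u ∈ D.U, u ∈ (TT : Subgroup ↥G)) ∨
      ∃ r ∈ D.U, r ∉ (TT : Subgroup ↥G) ∧ D.n a * r * (D.n a)⁻¹ ∈ D.U := by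
    by_cases hc : cl 1 = 1
    · refine fun a => Or.inl fun u hu => ?_
      rw [hmem]
      rcases hab u hu with h | h <;> rw [h]
      exact hc
    · intro a
      right
      have key : ∀ (b : Fin S.m) (i : ℕ), i < 12 → par i = 1 →
          (gw i).all (fun r => Nat.ble 24 (symF4.wEval b.val r) && Nat.blt r 48) = true →
          ∃ r ∈ D.U, r ∉ (TT : Subgroup ↥G) ∧ D.n b * r * (D.n b)⁻¹ ∈ D.U := by
        intro b i hi hpar hall
        have h1 : ∀ k ∈ [i], k < 12 := by simp [hi]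
        refine ⟨gel [i], ?_, ?_, ?_⟩
        · show (gel [i] : GL Cfsg.Lie.chevF4.Idx F) ∈ Cfsg.Lie.chevF4.posUnipotent F
          rw [gel_val h1]; exact (aval_mem h1).1
        · rw [hmem]
          show cl i ≠ 1
          rwa [cl_values.2 i hi, hpar, pow_one]
        · show ((T2F4.gen hK).sn b : GL Cfsg.Lie.chevF4.Idx F) * gel [i] *
            ((T2F4.gen hK).sn b : GL Cfsg.Lie.chevF4.Idx F)⁻¹ ∈ Cfsg.Lie.chevF4.posUnipotent F
          rw [gel_val h1, aval_single, CfsgLib.Chev.chevF4.posUnipotent_eq_US]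
          refine CfsgLib.Chev.chevF4.map_US_le ((T2F4.gen hK).sn_mono b) (T := CfsgLib.Chev.chevF4.toTables.Pos)
            (fun r hr => ?_) _ (val_mem_US (P := fun r => r.val ∈ gw i) fun r hr =>
              ⟨((gw_facts i hi).2.1 r hr).2, hr⟩)
          have := List.all_eq_true.mp hall r.val hr
          simp only [Bool.and_eq_true, Nat.ble_eq] at this
          show 48 ≤ 2 * (S.w b r).val
          have e : symF4.wEval b.val r.val = (S.w b r).val := symOKF4.wEval_eq b.isLt r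
          omega
      match a with
      | ⟨0, h0⟩ => exact key ⟨0, h0⟩ 2 (by norm_num) rfl move_pos.1
      | ⟨1, h1⟩ => exact key ⟨1, h1⟩ 5 (by norm_num) rfl move_pos.2
      | ⟨n + 2, h⟩ => exact absurd h (by show ¬ n + 2 < 2; omega)
  set a : Fin S.m := ⟨0, by decide⟩ with ha
  set b : Fin S.m := ⟨1, by decide⟩ with hb
  have hne : a ≠ b := by simp [ha, hb]
  have hall : ∀ c : Fin S.m, c = a ∨ c = b := fun c => by
    have : c.val < 2 := c.isLt
    simp only [ha, hb, Fin.ext_iff]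
    omega
  have hidx : ¬ 2 ∣ (QQ : Subgroup ↥TT).index := by
    have h := (QQ : Subgroup ↥TT).card_mul_index
    rw [card_QQ, show Nat.card ↥TT = _ from card_tits] at h
    intro hd
    obtain ⟨k, hk⟩ := hd
    rw [hk] at h
    have h2 : k * 2 = 3 ^ 3 * 5 ^ 2 * 13 := by omega
    omega
  let Sy : Sylow 2 ↥TT := (isPGroup_QQ).toSylow hidx
  have hS : (Sy : Subgroup ↥TT) = D.U.subgroupOf (TT : Subgroup ↥G) := by
    ext x
    exact mem_QQ
  obtain ⟨P₁, P₂, e1, e2, h1, h2, t1, t2, ht, -, hover⟩ := max2_derived D (TT : Subgroup ↥G) (a := a) (b := b)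
    hne hall hH hinvol hR hU2 (fun c => (nn c).2) (hn a b hne) (hn b a (Ne.symm hne)) Sy hS
  refine ⟨Sy, P₁, P₂, h1, h2, t1, t2, ht, fun φ _ hφ => ?_⟩
  -- orders separate the two
  have h5 : 5 ∣ Nat.card P₁ ∧ ¬ 5 ∣ Nat.card P₂ := by
    have key : ∀ c : Fin S.m, ∃ d, Nat.card ↥((pJ D {c}).subgroupOf (TT : Subgroup ↥G)) * d =
        2 ^ 12 * (2 ^ (c.val + 1) + 1) ∧ d ∣ 2 := by
      intro c
      refine ⟨((TT : Subgroup ↥G).subgroupOf (pJ D {c})).index, ?_, ?_⟩
      · rw [← hcard c, ← ((TT : Subgroup ↥G).subgroupOf (pJ D {c})).card_mul_index]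
        congr 1
        rw [← Subgroup.card_map_of_injective (f := (TT : Subgroup ↥G).subtype) (TT : Subgroup ↥G).subtype_injective,
          Subgroup.subgroupOf_map_subtype,
          ← Subgroup.card_map_of_injective (K := (TT : Subgroup ↥G).subgroupOf _) (pJ D {c}).subtype_injective,
          Subgroup.subgroupOf_map_subtype, inf_comm]
      · exact (Subgroup.relIndex_dvd_index_of_normal (TT : Subgroup ↥G) _).trans (dvd_of_eq index_commutator)
    constructor
    · obtain ⟨d, hd, hd2⟩ := key b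
      rw [e1, hJ a b hne]
      have h5' : 5 ∣ Nat.card ↥((pJ D {b}).subgroupOf (TT : Subgroup ↥G)) * d := by rw [hd]; simp [hb]
      refine (Nat.Coprime.dvd_mul_right ?_).mp h5'
      exact Nat.Coprime.coprime_dvd_right hd2 (by norm_num)
    · obtain ⟨d, hd, -⟩ := key a
      rw [e2, hJ b a (Ne.symm hne)]
      intro h5'
      have := (dvd_mul_of_dvd_left h5' d)
      rw [hd] at this
      simp [ha] at this
  have n12 : ¬ P₁ ≤ P₂ := fun h => h5.2 (h5.1.trans (Subgroup.card_dvd_of_le h))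
  have n21 : ¬ P₂ ≤ P₁ := fun h => t1 (by rw [← ht, sup_of_le_left h])
  have hmap : ∀ Q : Subgroup ↥TT, (Sy : Subgroup ↥TT) ≤ Q → (Sy : Subgroup ↥TT) ≤ Q.map φ.toMonoidHom :=
    fun Q hQ y hy => ⟨φ.symm y, hQ ((hφ _).mp (by rwa [φ.apply_symm_apply])), φ.apply_symm_apply y⟩
  have i1 : P₁.map φ.toMonoidHom ≤ P₁ := (hover _ (hmap P₁ h1) (map_ne_top φ t1)).resolve_right fun h => h5.2 (by
    have := Subgroup.card_dvd_of_le h
    rw [Subgroup.card_map_of_injective φ.injective] at this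
    exact h5.1.trans this)
  have i2 : P₂.map φ.toMonoidHom ≤ P₂ := (hover _ (hmap P₂ h2) (map_ne_top φ t2)).resolve_left fun h => by
    have := sup_le i1 h
    rw [map_sup_eq_top φ ht] at this
    exact t1 (top_le_iff.mp this)
  have fin : ∀ {Q : Subgroup ↥TT}, Q.map φ.toMonoidHom ≤ Q → ∀ x, φ x ∈ Q ↔ x ∈ Q := by
    intro Q hQ x
    have e : Q.map φ.toMonoidHom = Q := Subgroup.eq_of_le_of_card_ge hQ
      (Subgroup.card_map_of_injective φ.injective).ge
    conv_lhs => rw [← e]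
    exact Subgroup.mem_map_iff_mem φ.injective
  exact ⟨fin i1, fin i2⟩

end CfsgLib.Chev.T2F4Two
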