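import Cfsg.Agent.Lib.PMinimalLie.Basic
import Cfsg.Agent.Lib.InnerFix.U33
import Cfsg.Agent.Lib.LieRigid.Small

/-!
`U₃(3)` in characteristic two: the stabilisers of a point and of a frame.
-/

set_option autoImplicit false
set_option linter.unusedSectionVars false
set_option linter.style.haveILetI false

namespace CfsgLib.PMinimalLie.U33

open Matrix CfsgLib.UnitaryTransvection CfsgLib.UnitarySimple CfsgLib.PSUGraph CfsgLib.InnerFix.U33
open CfsgLib.LieRigid

variable {F : Type*} [Field F] [Fintype F] (hF : Fintype.card F = 3 ^ 2)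

/-- A subgroup from a multiplicatively closed predicate. -/
def subOfFinite {G : Type*} [Group G] [Finite G] (P : G → Prop) (h1 : P 1)
    (hmul : ∀ g k, P g → P k → P (g * k)) : Subgroup G where
  carrier := {x | P x}
  one_mem' := h1
  mul_mem' := fun {a b} ha hb => hmul _ _ ha hb
  inv_mem' := fun {a} ha => by
    let N : Submonoid G := { carrier := {x | P x}, one_mem' := h1, mul_mem' := fun {a b} ha hb => hmul _ _ ha hb }
    show a⁻¹ ∈ N
    have h : a⁻¹ = a ^ (orderOf a - 1) := by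
      rw [inv_eq_iff_mul_eq_one, ← pow_succ', Nat.sub_add_cancel (orderOf_pos a), pow_orderOf_eq_one]
    rw [h]
    exact pow_mem (show a ∈ N from ha) _

theorem core_conj {G : Type*} [Group G] (M : Subgroup G) (g : G) (hg : g ∈ M) (r : G)
    (hr : r ∈ (Cfsg.pCore 2 ↥M).map M.subtype) : g * r * g⁻¹ ∈ (Cfsg.pCore 2 ↥M).map M.subtype := by
  obtain ⟨r, hr, rfl⟩ := hr
  exact ⟨⟨g, hg⟩ * r * ⟨g, hg⟩⁻¹, (inferInstance : (Cfsg.pCore 2 ↥M).Normal).conj_mem r hr _, by simp⟩

/-- The first column is supported at the first coordinate. -/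
def Point (M : Matrix (Fin 3) (Fin 3) F) : Prop := M 1 0 = 0 ∧ M 2 0 = 0

/-- One entry in each column. -/
def Mono (M : Matrix (Fin 3) (Fin 3) F) : Prop :=
  ∃ π : Equiv.Perm (Fin 3), ∀ r j, r ≠ π j → M r j = 0

theorem Point.zero {M : Matrix (Fin 3) (Fin 3) F} (h : Point M) {r : Fin 3} (hr : r ≠ 0) : M r 0 = 0 := by
  fin_cases r
  exacts [absurd rfl hr, h.1, h.2]

theorem point_mul {A B : Matrix (Fin 3) (Fin 3) F} (hA : Point A) (hB : Point B) : Point (A * B) := by
  constructor <;> simp [Matrix.mul_apply, Fin.sum_univ_three, hA.1, hA.2, hB.1, hB.2]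

theorem mono_mul {A B : Matrix (Fin 3) (Fin 3) F} (hA : Mono A) (hB : Mono B) : Mono (A * B) := by
  obtain ⟨π, hπ⟩ := hA
  obtain ⟨ρ, hρ⟩ := hB
  refine ⟨π * ρ, fun r j hr => ?_⟩
  rw [Matrix.mul_apply]
  refine Finset.sum_eq_zero fun k _ => ?_
  by_cases hk : k = ρ j
  · subst hk
    rw [hπ r _ hr, zero_mul]
  · rw [hρ k j hk, mul_zero]

theorem Mono.ne_zero {M : Matrix (Fin 3) (Fin 3) F} (hd : M.det ≠ 0) {π : Equiv.Perm (Fin 3)}
    (h : ∀ r j, r ≠ π j → M r j = 0) (j : Fin 3) : M (π j) j ≠ 0 := fun h0 => hd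
  (Matrix.det_eq_zero_of_column_eq_zero j fun r => by
    by_cases hr : r = π j
    · subst hr; exact h0
    · exact h r j hr)

/-- Monomial with the first point fixed: diagonal or the exchange of the other two. -/
theorem mono_point {M : Matrix (Fin 3) (Fin 3) F} (hd : M.det ≠ 0) (hm : Mono M) (hp : Point M) :
    M = Matrix.diagonal (fun j => M j j) ∨
      M = !![M 0 0, 0, 0; 0, 0, M 1 2; 0, M 2 1, 0] := by
  obtain ⟨π, hπ⟩ := hm
  have h0 : π 0 = 0 := by
    by_contra h
    exact Mono.ne_zero hd hπ 0 (hp.zero h)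
  have key : ∀ π : Equiv.Perm (Fin 3), π 0 = 0 → π = 1 ∨ π = Equiv.swap 1 2 := by decide
  rcases key π h0 with rfl | rfl
  · left
    ext r j
    by_cases h : r = j
    · subst h; rw [Matrix.diagonal_apply_eq]
    · rw [Matrix.diagonal_apply_ne _ h]; exact hπ r j h
  · right
    ext r j
    fin_cases r <;> fin_cases j <;> first | rfl | exact hπ _ _ (by decide)

include hF

/-- A diagonal unitary matrix of determinant one. -/
theorem exists_diag (d : Fin 3 → F) (hd : ∀ j, d j ^ 4 = 1) (h1 : d 0 * d 1 * d 2 = 1) :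
    ∃ s : Cfsg.SU 3 F 3, mat s = Matrix.diagonal d :=
  ⟨suOf hF (Matrix.diagonal d) (by
      rw [Matrix.diagonal_map (map_zero _), Matrix.diagonal_transpose, Matrix.diagonal_mul_diagonal,
        ← Matrix.diagonal_one]
      congr 1; funext j; rw [fr_apply hF, ← pow_succ, hd j])
    (by rw [Matrix.det_diagonal, Fin.prod_univ_three, h1]), rfl⟩

theorem exists_of {M : Matrix (Fin 3) (Fin 3) F} (h : (M.map (fun x => x ^ 3))ᵀ * M = 1) (hd : M.det = 1) :
    ∃ s : Cfsg.SU 3 F 3, mat s = M :=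
  ⟨suOf hF M (by rw [show (M.map (fr hF)) = M.map (fun x => x ^ 3) from Matrix.ext fun r j => fr_apply hF _]; exact h) hd,
    rfl⟩

theorem pow_four {s : Cfsg.SU 3 F 3} {d : Fin 3 → F} (hs : mat s = Matrix.diagonal d) (j : Fin 3) : d j ^ 4 = 1 := by
  have h := su_unit hF s
  rw [hs, Matrix.diagonal_map (map_zero _), Matrix.diagonal_transpose, Matrix.diagonal_mul_diagonal,
    ← Matrix.diagonal_one] at h
  have h' := congrFun (Matrix.diagonal_injective h) j
  rw [fr_apply hF, ← pow_succ] at h'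
  exact h'

theorem split2_SU : Split2 2 (Cfsg.SU 3 F 3) := by
  classical
  haveI := charP_three hF
  haveI : Fact (Nat.Prime 2) := ⟨Nat.prime_two⟩
  haveI : Fact (Nat.Prime 3) := ⟨Nat.prime_three⟩
  haveI : Finite (Cfsg.SU 3 F 3) := Subtype.finite
  haveI : Finite (Cfsg.PSU 3 F 3) := Quotient.finite _
  obtain ⟨i, hi⟩ := exists_i hF
  set π := QuotientGroup.mk' (Subgroup.center (Cfsg.SU 3 F 3))
  have hcen : ∀ z : Cfsg.SU 3 F 3, π z = 1 → z = 1 := by
    intro z hz
    obtain ⟨c, hc⟩ := ((CfsgLib.PolarAut.suGeo hF (n := 3) le_rfl).ker z).mp hz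
    have hmat : mat z = c • 1 := Matrix.ext_of_mulVec_single fun j => by
      rw [Matrix.smul_mulVec, Matrix.one_mulVec]; exact hc _
    have hdet : (mat z).det = 1 := z.1.2
    rw [hmat, Matrix.det_smul, Matrix.det_one, mul_one, Fintype.card_fin] at hdet
    have h1 : c = 1 := frobenius_inj F 3 (by simpa [frobenius_def] using hdet)
    exact su_eq (by rw [hmat, h1, one_smul, mat_one])
  have hπ : Function.Bijective π :=
    ⟨(injective_iff_map_eq_one π).mpr hcen, QuotientGroup.mk'_surjective _⟩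
  let ι := MulEquiv.ofBijective π hπ
  haveI := Cfsg.Agent.S0283.result (F := F) (q := 3) hF 3 le_rfl (by norm_num)
  haveI : IsSimpleGroup (Cfsg.SU 3 F 3) := ι.isSimpleGroup
  obtain ⟨hcP, -, -⟩ := CfsgLib.U33Degrees.exists_data (F := F) (by rw [hF]; norm_num)
  have hc : Nat.card (Cfsg.SU 3 F 3) = 6048 := by rw [Nat.card_congr ι.toEquiv, hcP]
  have hords : ∀ r, (r = 9 ∨ r = 14 ∨ r = 21) → ∀ x : Cfsg.SU 3 F 3, orderOf x ≠ r := by
    intro r hr x hx
    have ho := CfsgLib.SpectrumU33.orders_PSU (F := F) (by rw [hF]; norm_num)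
    have h := (Set.ext_iff.mp ho (orderOf (ι x))).mp ⟨ι x, rfl⟩
    rw [MulEquiv.orderOf_eq, hx] at h
    rcases hr with rfl | rfl | rfl <;> simp at h
  have hdet : ∀ s : Cfsg.SU 3 F 3, (mat s).det ≠ 0 := fun s => by
    rw [show (mat s).det = 1 from s.1.2]; exact one_ne_zero
  have hi0 : i ≠ 0 := fun h => by simp [h] at hi
  have h4 : i ^ 4 = 1 := by linear_combination (i * i - 1) * hi
  have h4' : (-i) ^ 4 = 1 := by rw [show (4 : ℕ) = 2 * 2 from rfl, pow_mul, neg_sq, ← pow_mul]; exact h4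
  have h3 : (3 : F) = 0 := by exact_mod_cast CharP.cast_eq_zero F 3
  have hm1 : (-1 : F) ≠ 1 := fun h => one_ne_zero (by linear_combination h + h3 : (1 : F) = 0)
  have hni : -i ≠ i := fun h => hi0 (by linear_combination h + i * h3)
  have hni1 : -i ≠ 1 := fun h => hm1 (by
    have h2 : i = -1 := by linear_combination -h
    rw [h2] at hi; linear_combination -hi)
  have hi1 : i ≠ 1 := fun h => hm1 (by rw [h] at hi; linear_combination -hi)
  -- the subgroups
  obtain ⟨P1, m1⟩ : ∃ P : Subgroup (Cfsg.SU 3 F 3), ∀ s, s ∈ P ↔ Point (mat s) :=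
    ⟨subOfFinite (fun s => Point (mat s))
      (by rw [Point, mat_one]; simp) fun s t hs ht => by rw [mat_mul]; exact point_mul hs ht, fun s => Iff.rfl⟩
  obtain ⟨P2, m2⟩ : ∃ P : Subgroup (Cfsg.SU 3 F 3), ∀ s, s ∈ P ↔ Mono (mat s) :=
    ⟨subOfFinite (fun s => Mono (mat s)) ⟨1, fun r j h => by rw [mat_one]; exact Matrix.one_apply_ne h⟩
      fun s t hs ht => by rw [mat_mul]; exact mono_mul hs ht, fun s => Iff.rfl⟩
  have hpU : IsPGroup 2 ↥(P1 ⊓ P2) := by
    rintro ⟨s, hs1, hs2⟩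
    refine ⟨3, Subtype.ext ?_⟩
    show s ^ (2 ^ 3) = 1
    obtain ⟨d, hd⟩ : ∃ d : Fin 3 → F, mat (s * s) = Matrix.diagonal d := by
      rcases mono_point (hdet s) ((m2 s).mp hs2) ((m1 s).mp hs1) with e | e <;> rw [mat_mul, e]
      · exact ⟨_, Matrix.diagonal_mul_diagonal _ _⟩
      · refine ⟨![mat s 0 0 * mat s 0 0, mat s 1 2 * mat s 2 1, mat s 2 1 * mat s 1 2], ?_⟩
        ext r j
        fin_cases r <;> fin_cases j <;> simp [Matrix.mul_apply, Fin.sum_univ_three]
    have h1 : ∀ k, mat ((s * s) ^ k) = Matrix.diagonal (d ^ k) := fun k => by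
      induction k with
      | zero => rw [pow_zero, pow_zero, mat_one]; exact Matrix.diagonal_one.symm
      | succ k ih => rw [pow_succ (s * s), mat_mul, ih, hd, Matrix.diagonal_mul_diagonal, pow_succ d]; rfl
    refine su_eq ?_
    rw [show 2 ^ 3 = 2 * 4 by norm_num, pow_mul, pow_two, h1, mat_one, ← Matrix.diagonal_one]
    congr 1; funext j; exact pow_four hF hd j
  obtain ⟨s1, hs1⟩ := exists_diag hF ![i, 1, -i] (fun j => by fin_cases j <;> simp [h4, h4']) (by
    simp; linear_combination -hi)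
  obtain ⟨s2, hs2⟩ := exists_diag hF ![i, -i, 1] (fun j => by fin_cases j <;> simp [h4, h4']) (by
    simp; linear_combination -hi)
  have hdU : ∀ {s : Cfsg.SU 3 F 3} {d : Fin 3 → F}, mat s = Matrix.diagonal d → s ∈ P1 ⊓ P2 := by
    intro s d hs
    refine ⟨(m1 s).mpr ?_, (m2 s).mpr ⟨1, fun r j h => by rw [hs]; exact Matrix.diagonal_apply_ne _ h⟩⟩
    rw [hs]; constructor <;> simp
  obtain ⟨sw, hsw⟩ := exists_of hF (M := !![1, 0, 0; 0, 0, 1; 0, -1, 0])
    (by ext r j; fin_cases r <;> fin_cases j <;> simp [Matrix.mul_apply, Fin.sum_univ_three, Odd.neg_pow (by decide : Odd 3)])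
    (by rw [Matrix.det_fin_three]; simp)
  have hswU : sw ∈ P1 ⊓ P2 := by
    refine ⟨(m1 sw).mpr ⟨by simp [hsw], by simp [hsw]⟩, (m2 sw).mpr ⟨Equiv.swap 1 2, fun r j h => ?_⟩⟩
    rw [hsw]
    fin_cases r <;> fin_cases j <;> first | rfl | exact absurd (by decide) h
  -- at least 32 elements
  have hcard : Nat.card ↥(P1 ⊓ P2) = 2 ^ 5 := by
    obtain ⟨n, hn⟩ := hpU.exists_card_eq
    have h1 : 2 ^ n ∣ 6048 := hn ▸ hc ▸ Subgroup.card_subgroup_dvd_card _
    have hn5 : n ≤ 5 := by
      by_contra h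
      have := (pow_dvd_pow 2 (show 6 ≤ n by omega)).trans h1
      norm_num at this
    let v : Fin 4 → F := ![1, i, -1, -i]
    have hv4 : ∀ a, v a ^ 4 = 1 := by intro a; fin_cases a <;> simp [v, h4, h4']; norm_num
    have hvinj : Function.Injective v := by
      have hi2 : i ≠ -1 := fun h => hni1 (by rw [h]; ring)
      intro a b h
      fin_cases a <;> fin_cases b <;>
        simp [v, hm1, Ne.symm hm1, hi1, Ne.symm hi1, hni, Ne.symm hni, hni1, Ne.symm hni1, hi2, Ne.symm hi2, neg_inj] at h ⊢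
    have hv0 : ∀ a, v a ≠ 0 := fun a h => by simpa [h] using hv4 a
    have hex : ∀ z : (Fin 4 × Fin 4) × Bool, ∃ s : ↥(P1 ⊓ P2),
        mat (s : Cfsg.SU 3 F 3) 0 0 = v z.1.1 ∧
        (z.2 = false → mat (s : Cfsg.SU 3 F 3) 1 1 = v z.1.2 ∧ mat (s : Cfsg.SU 3 F 3) 1 2 = 0) ∧
        (z.2 = true → mat (s : Cfsg.SU 3 F 3) 1 2 = v z.1.2) := by
      rintro ⟨⟨a, b⟩, c⟩
      obtain ⟨s, hs⟩ := exists_diag hF ![v a, v b, (v a * v b)⁻¹] (fun j => by
          fin_cases j <;> simp [hv4, inv_pow, mul_pow])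
        (by show v a * v b * (v a * v b)⁻¹ = 1; exact mul_inv_cancel₀ (mul_ne_zero (hv0 a) (hv0 b)))
      cases c
      · exact ⟨⟨s, hdU hs⟩, by simp [hs], fun _ => ⟨by simp [hs], by simp [hs]⟩, fun h => by simp at h⟩
      · refine ⟨⟨s * sw, mul_mem (hdU hs) hswU⟩, ?_, fun h => by simp at h, fun _ => ?_⟩ <;>
          simp [mat_mul, hs, hsw, Matrix.mul_apply, Fin.sum_univ_three]
    choose f hf using hex
    have hinj : Function.Injective f := by
      rintro ⟨⟨a, b⟩, c⟩ ⟨⟨a', b'⟩, c'⟩ h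
      obtain rfl : a = a' := hvinj (by
        have h1 := (hf ((a, b), c)).1; rw [h, (hf ((a', b'), c')).1] at h1; exact h1.symm)
      cases c <;> cases c'
      · obtain rfl : b = b' := hvinj (by
          have h1 := ((hf ((a, b), false)).2.1 rfl).1; rw [h, ((hf ((a, b'), false)).2.1 rfl).1] at h1; exact h1.symm)
        rfl
      · exfalso
        have h1 := ((hf ((a, b), false)).2.1 rfl).2
        rw [h, (hf ((a, b'), true)).2.2 rfl] at h1
        exact hv0 _ h1
      · exfalso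
        have h1 := ((hf ((a, b'), false)).2.1 rfl).2
        rw [← h, (hf ((a, b), true)).2.2 rfl] at h1
        exact hv0 _ h1
      · obtain rfl : b = b' := hvinj (by
          have h1 := (hf ((a, b), true)).2.2 rfl; rw [h, (hf ((a, b'), true)).2.2 rfl] at h1; exact h1.symm)
        rfl
    have h32 := Nat.card_le_card_of_injective f hinj
    rw [hn, Nat.card_prod, Nat.card_prod, Nat.card_eq_fintype_card, Fintype.card_fin,
      Nat.card_eq_fintype_card, Fintype.card_bool] at h32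
    rw [hn]
    have : 5 ≤ n := by
      by_contra h
      have := Nat.pow_le_pow_right two_pos (show n ≤ 4 by omega)
      omega
    rw [show n = 5 by omega]
  have hidx : ¬ 2 ∣ (P1 ⊓ P2).index := by
    have h := (P1 ⊓ P2).card_mul_index
    rw [hcard, hc] at h
    omega
  let U : Sylow 2 (Cfsg.SU 3 F 3) := (IsPGroup.of_card hcard).toSylow hidx
  -- two further elements
  obtain ⟨t, ht⟩ := exists_of hF (M := !![0, 1, 0; 1, 0, 0; 0, 0, -1])
    (by ext r j; fin_cases r <;> fin_cases j <;> simp [Matrix.mul_apply, Fin.sum_univ_three, Odd.neg_pow (by decide : Odd 3)])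
    (by rw [Matrix.det_fin_three]; simp)
  have ht2 : t ∈ P2 := (m2 t).mpr ⟨Equiv.swap 0 1, fun r j h => by
    rw [ht]
    fin_cases r <;> fin_cases j <;> first | rfl | exact absurd (by decide) h⟩
  set a : F := 1 + i with ha
  have ha4 : a ^ 3 * a = -1 := by rw [ha]; linear_combination (4 * i + i * i + 5) * hi - h3
  obtain ⟨h, hh⟩ := exists_of hF (M := !![1, 0, 0; 0, a, a; 0, -a ^ 3, a ^ 3])
    (by
      have h9 : ∀ x : F, (x ^ 3) ^ 3 = x := fun x => by
        rw [← pow_mul, show 3 * 3 = Fintype.card F by rw [hF]; norm_num, FiniteField.pow_card]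
      have hn3 : (-a ^ 3) ^ 3 = -a := by rw [Odd.neg_pow (by decide), h9]
      ext r j; fin_cases r <;> fin_cases j <;> simp [Matrix.mul_apply, Fin.sum_univ_three, h9, hn3] <;>
        first | ring1 | linear_combination 2 * ha4 - h3)
    (by rw [Matrix.det_fin_three]; simp; linear_combination 2 * ha4 - h3)
  have hh1 : h ∈ P1 := (m1 h).mpr ⟨by simp [hh], by simp [hh]⟩
  have ha0 : a ≠ 0 := fun h0 => by simp [h0] at ha4
  refine ⟨U, P1, P2, inf_le_left, inf_le_right, fun e => ?_, fun e => ?_, ?_, fun φ _ hφU => ?_⟩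
  · have h1 := (m1 t).mp (e ▸ Subgroup.mem_top t)
    simpa [ht] using h1.1
  · obtain ⟨π', hπ'⟩ := (m2 h).mp (e ▸ Subgroup.mem_top h)
    have h1 : π' 1 = 1 := by
      by_contra h1
      have := hπ' 1 1 (Ne.symm h1)
      exact ha0 (by simpa [hh] using this)
    have h2 := hπ' 2 1 (by rw [h1]; decide)
    exact ha0 (by simpa [hh] using h2)
  · -- the two subgroups generate
    by_contra hne
    obtain ⟨M, hM⟩ : ∃ M, M = P1 ⊔ P2 := ⟨_, rfl⟩
    rw [← hM] at hne
    have hcore : Cfsg.pCore 2 ↥M ≠ ⊥ := fun e => hne (LieRigid.Small.unitary M hc (hords 9 (Or.inl rfl))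
      (hords 14 (Or.inr (Or.inl rfl))) (hords 21 (Or.inr (Or.inr rfl))) e fun hd =>
        hidx (hd.trans (Subgroup.index_dvd_of_le (hM ▸ inf_le_left.trans le_sup_left))))
    have hUM : (U : Subgroup (Cfsg.SU 3 F 3)) ≤ M := hM ▸ inf_le_left.trans le_sup_left
    obtain ⟨R, hR⟩ : ∃ R, R = (Cfsg.pCore 2 ↥M).map M.subtype := ⟨_, rfl⟩
    have hRn : ∀ g ∈ M, ∀ r ∈ R, g * r * g⁻¹ ∈ R := by
      intro g hg r' hr'
      rw [hR] at hr' ⊢
      exact core_conj M g hg r' hr' 
    have hUR : (U : Subgroup (Cfsg.SU 3 F 3)) ≤ Subgroup.normalizer (R : Set (Cfsg.SU 3 F 3)) := by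
      intro u hu
      rw [Subgroup.mem_normalizer_iff]
      refine fun r => ⟨hRn u (hUM hu) r, fun h => ?_⟩
      have := hRn u⁻¹ (inv_mem (hUM hu)) _ h
      simpa [mul_assoc] using this
    have hRU : R ≤ P1 ⊓ P2 := by
      have h := U.is_maximal' (U.isPGroup'.to_sup_of_normal_right'
        (hR ▸ (CfsgLib.isPGroup_pCore (G := ↥M) 2).map M.subtype) hUR) le_sup_left
      exact le_sup_right.trans h.le
    have htM : t ∈ M := hM ▸ Subgroup.mem_sup_right ht2
    have htt : t⁻¹ = t := inv_eq_of_mul_eq_one_right (su_eq (by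
      rw [mat_mul, mat_one, ht]; ext r j; fin_cases r <;> fin_cases j <;> simp [Matrix.mul_apply, Fin.sum_univ_three]))
    have hdiag : ∀ r ∈ R, mat r = Matrix.diagonal fun j => mat r j j := by
      intro r hr
      refine (mono_point (hdet r) ((m2 _).mp (hRU hr).2) ((m1 _).mp (hRU hr).1)).resolve_right fun e => ?_
      have h1 := ((m1 _).mp (hRU (hRn t htM r hr)).1).2
      rw [htt, mat_mul, mat_mul, e, ht] at h1
      simp [Matrix.mul_apply, Fin.sum_univ_three] at h1
      refine hdet r ?_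
      rw [e, Matrix.det_fin_three]
      simp [h1]
    apply hcore
    rw [← Subgroup.map_eq_bot_iff_of_injective _ M.subtype_injective, ← hR, Subgroup.eq_bot_iff_forall]
    intro r hr
    have hd := hdiag r hr
    set d := fun j => mat r j j with hdd
    have e01 : d 0 = d 2 ∧ d 1 = d 2 := by
      have hswap : ∀ r ∈ R, mat r 1 1 = mat r 2 2 := by
        intro r hr
        have hd := hdiag r hr
        have hk := hdiag _ (hRn h (hM ▸ Subgroup.mem_sup_left hh1) r hr)
        have e : mat (h * r * h⁻¹) * mat h = mat h * mat r := by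
          rw [← mat_mul, ← mat_mul, inv_mul_cancel_right]
        rw [hk, hh, hd] at e
        have e12 := congrFun (congrFun e 1) 2
        have e11 := congrFun (congrFun e 1) 1
        simp [Matrix.mul_apply, Fin.sum_univ_three, ha0] at e12 e11
        have e1 : mat (h * r * h⁻¹) 1 1 = mat r 1 1 := mul_right_cancel₀ ha0 (by linear_combination e11)
        have e2 : mat (h * r * h⁻¹) 1 1 = mat r 2 2 := mul_right_cancel₀ ha0 (by linear_combination e12)
        exact e1.symm.trans e2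
      refine ⟨?_, hswap r hr⟩
      have h1 := hswap _ (hRn t htM r hr)
      rw [htt, mat_mul, mat_mul, hd, ht] at h1
      simpa [Matrix.mul_apply, Fin.sum_univ_three, Matrix.vecMul_diagonal] using h1
    have hd3 : d 2 ^ 3 = 1 := by
      have h1 : (mat r).det = 1 := r.1.2
      rw [hd, Matrix.det_diagonal, Fin.prod_univ_three, e01.1, e01.2] at h1
      rw [← h1]; ring
    have hd4 := pow_four hF hd 2
    have hd1 : d 2 = 1 := by linear_combination hd4 - d 2 * hd3
    refine su_eq ?_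
    rw [hd, mat_one, ← Matrix.diagonal_one]
    congr 1
    funext j
    fin_cases j
    exacts [e01.1.trans hd1, e01.2.trans hd1, hd1]
  -- invariance
  obtain ⟨g, σ, hg, hβ⟩ := CfsgLib.PolarAut.psu_semilinear hF (n := 3) le_rfl (by omega) (MulAut.congr ι φ)
  have hform : ∀ s, mat (φ s) * g.1 = g.1 * (mat s).map σ := by
    intro s
    set σm : Matrix (Fin 3) (Fin 3) F := (mat s).map σ
    have hsig : (σm.map (fr hF))ᵀ * σm = 1 := by
      have hc : σm.map (fr hF) = ((mat s).map (fr hF)).map σ := by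
        ext a b; simp [σm, fr_apply hF]
      rw [hc, ← Matrix.transpose_map, ← Matrix.map_mul, su_unit hF s, Matrix.map_one _ (map_zero σ) (map_one σ)]
    have hdet' : σm.det = 1 := by
      rw [show σm.det = σ (mat s).det from (σ.toRingHom.map_det _).symm, show (mat s).det = 1 from s.1.2,
        map_one]
    set s' := suOf hF (g.1 * σm * (g⁻¹).1) (conj_unit hF (GU_le_GS hF hg) (suOf hF σm hsig hdet'))
      (by rw [Matrix.det_mul, Matrix.det_mul, hdet', mul_one, ← Matrix.det_mul, Units.mul_inv, Matrix.det_one])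
    have h1 : ι (φ s) = ι s' := by
      have h2 : MulAut.congr ι φ (π s) = π s' := hβ s s' rfl
      show π (φ s) = π s'
      rw [← h2]
      show ι (φ s) = ι (φ (ι.symm (ι s)))
      rw [ι.symm_apply_apply]
    rw [ι.injective h1]
    show g.1 * σm * (g⁻¹).1 * g.1 = _
    rw [Matrix.mul_assoc _ (g⁻¹).1, Units.inv_mul, Matrix.mul_one]
  have hgd : g.1.det ≠ 0 := (g.isUnit.map Matrix.detMonoidHom).ne_zero
  have hφU' : ∀ u, u ∈ P1 ⊓ P2 → φ u ∈ P1 ⊓ P2 := fun u hu => (hφU u).mpr hu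
  -- a diagonal element with distinct entries goes to a diagonal element
  obtain ⟨s, e, hse, hinjE, hdφ⟩ : ∃ (s : Cfsg.SU 3 F 3) (e : Fin 3 → F),
      mat s = Matrix.diagonal e ∧ Function.Injective e ∧ mat (φ s) = Matrix.diagonal fun j => mat (φ s) j j := by
    rcases mono_point (hdet _) ((m2 _).mp (hφU' s1 (hdU hs1)).2) ((m1 _).mp (hφU' s1 (hdU hs1)).1) with e1 | e1
    · refine ⟨s1, _, hs1, ?_, e1⟩
      intro a b h
      fin_cases a <;> fin_cases b <;> simp [hi1, Ne.symm hi1, hni, Ne.symm hni, hni1, Ne.symm hni1] at h ⊢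
    rcases mono_point (hdet _) ((m2 _).mp (hφU' s2 (hdU hs2)).2) ((m1 _).mp (hφU' s2 (hdU hs2)).1) with e2 | e2
    · refine ⟨s2, _, hs2, ?_, e2⟩
      intro a b h
      fin_cases a <;> fin_cases b <;> simp [hi1, Ne.symm hi1, hni, Ne.symm hni, hni1, Ne.symm hni1] at h ⊢
    exfalso
    have hkey : ∀ (s : Cfsg.SU 3 F 3) (d : Fin 3 → F), mat s = Matrix.diagonal d →
        mat (φ s) = !![mat (φ s) 0 0, 0, 0; 0, 0, mat (φ s) 1 2; 0, mat (φ s) 2 1, 0] →
        ∀ r : Fin 3, r ≠ 0 → ∀ j, g.1 r j ≠ 0 → σ (d j) * σ (d j) = mat (φ s) 1 2 * mat (φ s) 2 1 := by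
      intro s d hs e r hr j hj
      have h1 := hform (s * s)
      rw [map_mul, mat_mul, mat_mul, hs, Matrix.diagonal_mul_diagonal, Matrix.diagonal_map (map_zero σ), e] at h1
      have h2 := congrFun (congrFun h1 r) j
      refine mul_left_cancel₀ hj ?_
      rw [Matrix.mul_diagonal, Matrix.mul_apply, Fin.sum_univ_three] at h2
      rcases (show r = 1 ∨ r = 2 by fin_cases r <;> simp at hr ⊢) with rfl | rfl
      all_goals
        simp [Matrix.mul_apply, Fin.sum_univ_three] at h2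
        linear_combination -h2
    have hsi : σ i * σ i = -1 := by rw [← map_mul, hi, map_neg, map_one]
    have hone : ∀ j j', (∃ r : Fin 3, r ≠ 0 ∧ g.1 r j ≠ 0) → (∃ r : Fin 3, r ≠ 0 ∧ g.1 r j' ≠ 0) → j = j' := by
      rintro j j' ⟨r, hr, hj⟩ ⟨r', hr', hj'⟩
      have a1 := (hkey s1 _ hs1 e1 r hr j hj).trans (hkey s1 _ hs1 e1 r' hr' j' hj').symm
      have a2 := (hkey s2 _ hs2 e2 r hr j hj).trans (hkey s2 _ hs2 e2 r' hr' j' hj').symm
      fin_cases j <;> fin_cases j' <;> first | rfl | (exfalso; simp [hsi, hm1, Ne.symm hm1] at a1 a2)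
    apply hgd
    rw [Matrix.det_fin_three]
    have z : ∀ j, g.1 1 j = 0 ∨ ∀ j', j' ≠ j → g.1 1 j' = 0 ∧ g.1 2 j' = 0 := fun j => by
      by_cases h : g.1 1 j = 0
      · exact Or.inl h
      · refine Or.inr fun j' hne => ⟨?_, ?_⟩ <;> by_contra h'
        · exact hne (hone j' j ⟨1, by decide, h'⟩ ⟨1, by decide, h⟩)
        · exact hne (hone j' j ⟨2, by decide, h'⟩ ⟨1, by decide, h⟩)
    rcases z 0 with z0 | z0
    · rcases z 1 with z1 | z1
      · rcases z 2 with z2 | z2
        · rw [z0, z1, z2]; ring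
        · rw [z0, z1, (z2 0 (by decide)).2, (z2 1 (by decide)).2]; ring
      · rw [z0, (z1 0 (by decide)).2, (z1 2 (by decide)).1, (z1 2 (by decide)).2]; ring
    · rw [(z0 1 (by decide)).1, (z0 1 (by decide)).2, (z0 2 (by decide)).1, (z0 2 (by decide)).2]; ring
  have hrow : ∀ r j j', g.1 r j ≠ 0 → g.1 r j' ≠ 0 → j = j' := by
    intro r j j' hj hj'
    have h1 := hform s
    rw [hse, Matrix.diagonal_map (map_zero σ), hdφ] at h1
    have key : ∀ j, g.1 r j ≠ 0 → σ (e j) = mat (φ s) r r := fun j hj => by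
      have h2 := congrFun (congrFun h1 r) j
      rw [Matrix.diagonal_mul, Matrix.mul_diagonal] at h2
      exact mul_left_cancel₀ hj (by linear_combination -h2)
    exact hinjE (σ.injective ((key j hj).trans (key j' hj').symm))
  have hgm : Mono g.1 := by
    have hex : ∀ r, ∃ j, g.1 r j ≠ 0 := fun r => by
      by_contra h
      push Not at h
      exact hgd (Matrix.det_eq_zero_of_row_eq_zero r h)
    choose f hf using hex
    have hfs : Function.Surjective f := fun j => by
      by_contra h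
      push Not at h
      refine hgd (Matrix.det_eq_zero_of_column_eq_zero j fun r => ?_)
      by_contra hr
      exact h r (hrow r _ _ (hf r) hr)
    refine ⟨(Equiv.ofBijective f ⟨Finite.injective_iff_surjective.mpr hfs, hfs⟩).symm, fun r j hr => ?_⟩
    by_contra hrj
    apply hr
    rw [eq_comm, Equiv.symm_apply_eq]
    exact hrow r _ _ hrj (hf r)
  obtain ⟨γ, hγ⟩ := hgm
  have hγ0 : γ 0 = 0 := by
    by_contra hne
    obtain ⟨u, hu, hu'⟩ : ∃ u, u ∈ P1 ⊓ P2 ∧ φ u = sw :=
      ⟨φ.symm sw, (hφU _).mp (by rw [MulEquiv.apply_symm_apply]; exact hswU), MulEquiv.apply_symm_apply _ _⟩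
    have h1 := hform u
    rw [hu', hsw] at h1
    have hz : ∀ r, r ≠ γ 0 → g.1 r 0 = 0 := fun r hr => hγ r 0 hr
    have hP := (m1 u).mp hu.1
    have hg0 := Mono.ne_zero hgd hγ 0
    have key : ∀ r, (g.1 * (mat u).map σ) r 0 = g.1 r 0 * σ (mat u 0 0) := fun r => by
      simp [Matrix.mul_apply, Fin.sum_univ_three, hP.1, hP.2]
    rcases (show γ 0 = 1 ∨ γ 0 = 2 by revert hne; generalize γ 0 = x; revert x; decide) with hc' | hc' <;>
      rw [hc'] at hg0
    · have h2 := congrFun (congrFun h1 2) 0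
      rw [key, hz 2 (by rw [hc']; decide), zero_mul] at h2
      simp [Matrix.mul_apply, Fin.sum_univ_three] at h2
      exact hg0 h2
    · have h2 := congrFun (congrFun h1 1) 0
      rw [key, hz 1 (by rw [hc']; decide), zero_mul] at h2
      simp [Matrix.mul_apply, Fin.sum_univ_three] at h2
      exact hg0 h2
  have fin : ∀ P : Subgroup (Cfsg.SU 3 F 3), (∀ s ∈ P, φ s ∈ P) → ∀ s, φ s ∈ P ↔ s ∈ P := by
    intro P hP s
    have e' : P.map φ.toMonoidHom = P := Subgroup.eq_of_le_of_card_ge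
      (by rintro _ ⟨y, hy, rfl⟩; exact hP y hy) (Subgroup.card_map_of_injective φ.injective).ge
    conv_lhs => rw [← e']
    exact Subgroup.mem_map_iff_mem φ.injective
  refine ⟨fin P1 fun s hs => (m1 _).mpr ?_, fin P2 fun s hs => (m2 _).mpr ?_⟩
  · have hg0 : g.1 0 0 ≠ 0 := by have := Mono.ne_zero hgd hγ 0; rwa [hγ0] at this
    have hp : ∀ r : Fin 3, r ≠ 0 → g.1 r 0 = 0 := fun r hr => hγ r 0 (hγ0.symm ▸ hr)
    have hP := (m1 s).mp hs
    constructor
    all_goals
      refine (mul_eq_zero.mp ?_).resolve_right hg0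
    · have h2 := congrFun (congrFun (hform s) 1) 0
      simp [Matrix.mul_apply, Fin.sum_univ_three, hP.1, hP.2, hp 1 (by decide), hp 2 (by decide)] at h2 ⊢
      exact h2
    · have h2 := congrFun (congrFun (hform s) 2) 0
      simp [Matrix.mul_apply, Fin.sum_univ_three, hP.1, hP.2, hp 1 (by decide), hp 2 (by decide)] at h2 ⊢
      exact h2
  · obtain ⟨ρ, hρ⟩ := (m2 s).mp hs
    refine ⟨γ * ρ * γ.symm, fun r k hrk => ?_⟩
    obtain ⟨j, rfl⟩ := γ.surjective k
    have h2 := congrFun (congrFun (hform s) r) j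
    rw [Matrix.mul_apply, Finset.sum_eq_single (γ j) (fun l _ hl => by rw [hγ l j hl, mul_zero]) (by simp),
      Matrix.mul_apply, Finset.sum_eq_zero] at h2
    · exact (mul_eq_zero.mp h2).resolve_right (Mono.ne_zero hgd hγ j)
    · intro l _
      by_cases hl : l = ρ j
      · subst hl
        rw [hγ r (ρ j) (fun e => hrk (by simpa using e)), zero_mul]
      · rw [Matrix.map_apply, hρ l j hl, map_zero, mul_zero]

theorem split2_PSU : Split2 2 (Cfsg.PSU 3 F 3) := by
  haveI := charP_three hF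
  haveI : Fact (Nat.Prime 2) := ⟨Nat.prime_two⟩
  haveI : Fact (Nat.Prime 3) := ⟨Nat.prime_three⟩
  haveI : Finite (Cfsg.SU 3 F 3) := Subtype.finite
  haveI : Finite (Cfsg.PSU 3 F 3) := Quotient.finite _
  have hinj : Function.Injective (QuotientGroup.mk' (Subgroup.center (Cfsg.SU 3 F 3))) := by
    refine (injective_iff_map_eq_one _).mpr fun z hz => ?_
    obtain ⟨c, hc⟩ := ((CfsgLib.PolarAut.suGeo hF (n := 3) le_rfl).ker z).mp hz
    have hmat : mat z = c • 1 := Matrix.ext_of_mulVec_single fun j => by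
      rw [Matrix.smul_mulVec, Matrix.one_mulVec]; exact hc _
    have hdet : (mat z).det = 1 := z.1.2
    rw [hmat, Matrix.det_smul, Matrix.det_one, mul_one, Fintype.card_fin] at hdet
    have h1 : c = 1 := frobenius_inj F 3 (by simpa [frobenius_def] using hdet)
    exact su_eq (by rw [hmat, h1, one_smul, mat_one])
  obtain ⟨V⟩ : Nonempty (Sylow 2 (Cfsg.PSU 3 F 3)) := inferInstance
  obtain ⟨P₁, P₂, h⟩ := (split2_SU hF).move
    (MulEquiv.ofBijective _ ⟨hinj, QuotientGroup.mk'_surjective _⟩) V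
  exact ⟨V, P₁, P₂, h⟩

end CfsgLib.PMinimalLie.U33
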