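import Cfsg.Agent.Lib.PMinimalLie.Special
import Cfsg.Agent.Lib.PMinimalLie.Linear
import Cfsg.Agent.Lib.PMinimalLie.Twisted
import Cfsg.Agent.Lib.PMinimalLie.Small
import Cfsg.Agent.Lib.PMinimalLie.U33
import Cfsg.Agent.Lib.Components
import Cfsg.Agent.Lib.Lagrangian
import Cfsg.Agent.Lib.StdQuadForms
import Cfsg.Agent.Lib.PGO.Proper
import Cfsg.Agent.Lib.LieRigid.SimpleChar
import Cfsg.Agent.Lib.Chev.Twist.TitsIndex
import Cfsg.Agent.S2936
import Cfsg.Prelude.Def_EvenType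
import Cfsg.Prelude.Def_AlmostLie

/-!
The socle of a `p`-minimal group: the cases.
-/

set_option autoImplicit false
set_option linter.unusedSectionVars false
set_option linter.style.haveILetI false
set_option maxRecDepth 100000

namespace CfsgLib.PMinimalLie

open Cfsg CfsgLib.LieRigid

theorem simple_of_nonempty_iso {K : Type*} {L : Type} [Group K] [Group L] (h : Nonempty (K ≃* L))
    (hL : IsSimpleGroup L) : IsSimpleGroup K := by
  obtain ⟨e⟩ := h
  exact e.isSimpleGroup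

theorem isSimpleGroup_chevSimple {p : ℕ} {K : Type*} [Group K] (h : Cfsg.IsChevSimple p K) :
    IsSimpleGroup K := by
  rcases h with hl | ⟨-, ⟨⟨e⟩⟩ | ⟨F, _, _, hF, ⟨e⟩⟩ | he⟩ | ⟨-, F, _, _, hF, ⟨e⟩⟩
  · exact CfsgLib.LieRigid.isSimpleGroup_lieTypeChar hl
  · haveI := alternatingGroup.isSimpleGroup (α := Fin 6) (by simp)
    exact e.isSimpleGroup
  · haveI := Cfsg.Agent.S0283.result (F := F) (q := 3) (by rw [hF]; norm_num) 3 le_rfl (by norm_num)
    exact e.isSimpleGroup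
  · exact simple_of_nonempty_iso (L := Cfsg.Lie.TitsGroup) he CfsgLib.Chev.T2F4Two.tits_simple
  · haveI : IsSimpleGroup (Matrix.ProjectiveSpecialLinearGroup (Fin 2) F) :=
      Matrix.ProjectiveSpecialLinearGroup.rank_two_simple (by rw [Nat.card_eq_fintype_card, hF]; norm_num)
    exact e.isSimpleGroup

/-- The socle is no `p`-group. -/
theorem not_isPGroup_socle {p : ℕ} [Fact p.Prime] {X : Type*} [Group X] [Finite X]
    (hX : Cfsg.IsPMinimal p X) {K : Subgroup X} (hKdef : K = Cfsg.generalizedFittingSubgroup X)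
    [IsSimpleGroup ↥K] : ¬ IsPGroup p ↥K := by
  intro hp
  haveI : K.Normal := hKdef ▸ inferInstance
  have hC : Subgroup.centralizer (K : Set X) ≤ K := hKdef ▸ CfsgLib.centralizer_generalizedFitting_le
  haveI : Nontrivial ↥K := IsSimpleGroup.toNontrivial
  have hz : Subgroup.center ↥K = ⊤ := by
    haveI := hp.center_nontrivial
    exact (IsSimpleGroup.eq_bot_or_eq_top_of_normal (Subgroup.center ↥K) inferInstance).resolve_left
      ((Subgroup.nontrivial_iff_ne_bot _).mp inferInstance)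
  have hcomm : ∀ a b : ↥K, a * b = b * a := fun a b =>
    Subgroup.mem_center_iff.mp (hz ▸ Subgroup.mem_top b) a
  obtain ⟨n, hn⟩ := hp.exists_card_eq
  have hn0 : n ≠ 0 := fun h => by
    rw [h, pow_zero] at hn
    exact absurd hn Finite.one_lt_card.ne'
  obtain ⟨k, hk⟩ := exists_prime_orderOf_dvd_card' (G := ↥K) p (hn ▸ dvd_pow_self p hn0)
  haveI : (Subgroup.zpowers k).Normal := ⟨fun a ha b => by rw [hcomm b a, mul_inv_cancel_right]; exact ha⟩
  have hcard : Nat.card ↥K = p := by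
    have h1 : Subgroup.zpowers k = ⊤ :=
      (IsSimpleGroup.eq_bot_or_eq_top_of_normal (Subgroup.zpowers k) inferInstance).resolve_left fun h => by
        rw [Subgroup.zpowers_eq_bot] at h
        rw [h, orderOf_one] at hk
        exact (Fact.out : p.Prime).one_lt.ne hk
    rw [← hk, ← Nat.card_zpowers, h1, Subgroup.card_top]
  haveI : IsCyclic ↥K := isCyclic_of_prime_card hcard
  obtain ⟨S⟩ : Nonempty (Sylow p X) := inferInstance
  have hKS : K ≤ (S : Subgroup X) := by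
    have h := S.is_maximal' (S.isPGroup'.to_sup_of_normal_right hp) le_sup_left
    exact le_sup_right.trans h.le
  have hSK : (S : Subgroup X) ≤ K := by
    intro s hs
    refine hC ?_
    rw [Subgroup.mem_centralizer_iff]
    obtain ⟨m, hm⟩ := S.isPGroup' ⟨s, hs⟩
    have h1 : orderOf (MulAut.conjNormal (H := K) s) ∣ p ^ m :=
      orderOf_dvd_of_pow_eq_one (by rw [← map_pow, show s ^ p ^ m = 1 from congrArg Subtype.val hm, map_one])
    have h2 : orderOf (MulAut.conjNormal (H := K) s) ∣ p - 1 := by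
      have := orderOf_dvd_natCard (MulAut.conjNormal (H := K) s)
      rwa [IsCyclic.card_mulAut, hcard, Nat.totient_prime Fact.out] at this
    have hco : Nat.Coprime (p ^ m) (p - 1) := by
      refine Nat.Coprime.pow_left m (((Fact.out : p.Prime).coprime_iff_not_dvd).mpr fun h => ?_)
      have := Nat.le_of_dvd (by have := (Fact.out : p.Prime).two_le; omega) h
      have := (Fact.out : p.Prime).two_le
      omega
    have h3 : MulAut.conjNormal (H := K) s = 1 := orderOf_eq_one_iff.mp (Nat.eq_one_of_dvd_coprimes hco h1 h2)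
    intro y hy
    have := congrArg (fun β : MulAut ↥K => ((β ⟨y, hy⟩ : ↥K) : X)) h3
    simp only [MulAut.conjNormal_apply, MulAut.one_apply] at this
    calc y * s = (s * y * s⁻¹) * s := by rw [this]
      _ = s * y := by group
  exact (hX S).1 ((le_antisymm hSK hKS).symm ▸ ‹K.Normal›)

theorem sylow_ne_bot {p : ℕ} [Fact p.Prime] {K : Type*} [Group K] [Finite K] [IsSimpleGroup K]
    (h : Cfsg.IsChevSimple p K) (U : Sylow p K) : (U : Subgroup K) ≠ ⊥ := by
  intro hU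
  haveI : Nontrivial K := IsSimpleGroup.toNontrivial
  refine bot_ne_top (Cfsg.Agent.S2936.result h ⊥ ?_ fun hd => U.not_dvd_index (hU ▸ hd))
  exact Subgroup.eq_bot_of_subsingleton _

variable {p : ℕ} [Fact p.Prime] {K : Type*} [Group K] [Finite K] [IsSimpleGroup K]

/-- The three shapes. -/
def Shape (p : ℕ) (K : Type*) [Group K] : Prop :=
  Split2 p K ∨ (RankOneLike p K ∧ Cfsg.IsLieRankOneChar p K) ∨
    (p = 2 ∧ Max2 p K ∧ ((∃ (F : Type) (_ : Field F) (_ : Fintype F) (_ : CharP F 2),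
        Nonempty (K ≃* Matrix.ProjectiveSpecialLinearGroup (Fin 3) F)) ∨
      (∃ (F : Type) (_ : Field F) (_ : Fintype F) (_ : CharP F 2), 4 ≤ Fintype.card F ∧
        Nonempty (K ≃* Cfsg.PSp 2 F)) ∨ Nonempty (K ≃* ↥(alternatingGroup (Fin 6)))))

theorem cases_lieTypeChar (h : Cfsg.IsLieTypeChar p K) (hnp : ¬ IsPGroup p K) : Shape p K := by
  classical
  rcases h with ⟨F, _, _, _, n, hn, hn4, ⟨e⟩⟩ | ⟨F, _, _, _, m, hm, hm3, ⟨e⟩⟩ |
    ⟨F, _, _, _, n, q, hF, hn, hnq, ⟨e⟩⟩ | ⟨F, _, _, _, m, hm, hodd, ⟨e⟩⟩ | ⟨F, _, _, _, m, hm, ⟨e⟩⟩ |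
    ⟨F, _, _, _, m, a, b, hm, hab, ⟨e⟩⟩ | ⟨F, _, _, _, h⟩ | ⟨L, _, _, _, q, hq, h⟩ |
    ⟨rfl, F, _, _, m, hm, hF, ⟨e⟩⟩ | ⟨rfl, L, _, _, m, hm, hL, ⟨e⟩⟩ | ⟨rfl, L, _, _, m, hm, hL, ⟨e⟩⟩
  · haveI := e.symm.isSimpleGroup
    rcases Nat.lt_or_ge n 4 with h4 | h4
    · rcases (show n = 2 ∨ n = 3 by omega) with rfl | rfl
      · exact Or.inr (Or.inl ⟨(Linear.rankOne_two (F := F) p).of_equiv e.symm,
          Or.inl ⟨F, inferInstance, inferInstance, inferInstance, hn4 rfl, ⟨e⟩⟩⟩)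
      · have h := (Linear.max2_three (F := F) p).of_equiv e.symm
        by_cases hp : p = 2
        · subst hp
          exact Or.inr (Or.inr ⟨rfl, h, Or.inl ⟨F, inferInstance, inferInstance, inferInstance, ⟨e⟩⟩⟩)
        · exact Or.inl (h.split2 hp)
    · exact Or.inl ((Linear.split2_four p h4).of_equiv e.symm)
  · haveI := e.symm.isSimpleGroup
    rcases (show m = 2 ∨ 3 ≤ m by omega) with rfl | h3
    · have h := (max2_psp2 (F := F) p fun h => hnp (h.of_equiv e.symm)).of_equiv e.symm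
      by_cases hp : p = 2
      · subst hp
        refine Or.inr (Or.inr ⟨rfl, h, Or.inr (Or.inl ⟨F, inferInstance, inferInstance, inferInstance, ?_, ⟨e⟩⟩)⟩)
        obtain ⟨k, -, hk⟩ := FiniteField.card F 2
        have h3 := hm3 rfl
        rw [hk] at h3 ⊢
        have : (k : ℕ) ≠ 1 := fun h1 => by rw [h1] at h3; norm_num at h3
        calc (4 : ℕ) = 2 ^ 2 := by norm_num
          _ ≤ 2 ^ (k : ℕ) := Nat.pow_le_pow_right two_pos (by have := k.pos; omega)
      · exact Or.inl (h.split2 hp)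
    · exact Or.inl ((split2_psp p h3).of_equiv e.symm)
  · haveI := e.symm.isSimpleGroup
    rcases (show n = 3 ∨ 4 ≤ n by omega) with rfl | h4
    · exact Or.inr (Or.inl ⟨(rankOne_psu p hF).of_equiv e.symm,
        Or.inr (Or.inl ⟨F, inferInstance, inferInstance, inferInstance, q, hF, fun h => hnq ⟨rfl, h⟩, ⟨e⟩⟩)⟩)
    · exact Or.inl ((split2_psu p hF h4).of_equiv e.symm)
  · haveI := e.symm.isSimpleGroup
    have h2 : (2 : F) ≠ 0 := CfsgLib.FiniteForms.two_ne_zero_of_odd rfl hodd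
    have hc : Fintype.card (Unit ⊕ (Fin m ⊕ Fin m)) = 2 * m + 1 := by simp; omega
    refine Or.inl ((split2_pomega p _ (CfsgLib.StdQuadForms.Qo m)
      (fun v => (CfsgLib.StdQuadForms.Qo_apply m v).symm) (CfsgLib.StdQuadForms.Qo_nondeg h2 m)
      (by rw [hc]; omega) (Or.inl fun W hW => ?_)).of_equiv e.symm)
    have := CfsgLib.PGO.singular_le (Q := CfsgLib.StdQuadForms.Qo m) (CfsgLib.StdQuadForms.Qo_nondeg h2 m) W hW
    rw [hc] at this ⊢
    omega
  · haveI := e.symm.isSimpleGroup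
    rcases (show m = 4 ∨ 5 ≤ m by omega) with rfl | h5
    · exact Or.inl ((split2_plus_four p fun h => hnp (h.of_equiv e.symm)).of_equiv e.symm)
    · exact Or.inl ((split2_pomega p _ (CfsgLib.Lagrangian.Qp m F)
        (fun v => (CfsgLib.Lagrangian.Qp_apply v).symm) CfsgLib.Lagrangian.Qp_nondeg (by simp; omega)
        (Or.inr (by simp; omega))).of_equiv e.symm)
  · haveI := e.symm.isSimpleGroup
    have hc : Fintype.card ((Fin (m - 1) ⊕ Fin (m - 1)) ⊕ Fin 2) = 2 * m := by simp; omega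
    refine Or.inl ((split2_pomega p _ (CfsgLib.StdQuadForms.Qm (m - 1) a b)
      (fun v => (CfsgLib.StdQuadForms.Qm_apply (m - 1) a b v).symm)
      (CfsgLib.StdQuadForms.Qm_nondeg (m - 1) hab) (by rw [hc]; omega) (Or.inl fun W hW => ?_)).of_equiv e.symm)
    have := CfsgLib.OrthAut.minus_singular_le hab W hW
    rw [hc]
    omega
  · obtain ⟨h1, -, h3, h4, h5, h6⟩ := split2_chev (p := p) (F := F)
    rcases h with ⟨-, ⟨e⟩⟩ | ⟨⟨e⟩⟩ | ⟨⟨e⟩⟩ | ⟨⟨e⟩⟩ | ⟨⟨e⟩⟩ <;> haveI := e.symm.isSimpleGroup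
    · exact Or.inl ((h1 fun h => hnp (h.of_equiv e.symm)).of_equiv e.symm)
    · exact Or.inl ((h3 fun h => hnp (h.of_equiv e.symm)).of_equiv e.symm)
    · exact Or.inl ((h4 fun h => hnp (h.of_equiv e.symm)).of_equiv e.symm)
    · exact Or.inl ((h5 fun h => hnp (h.of_equiv e.symm)).of_equiv e.symm)
    · exact Or.inl ((h6 fun h => hnp (h.of_equiv e.symm)).of_equiv e.symm)
  · rcases h with ⟨hL, ⟨e⟩⟩ | ⟨hL, ⟨e⟩⟩ <;> haveI := e.symm.isSimpleGroup
    · exact Or.inl ((split2_E6 hq hL fun h => hnp (h.of_equiv e.symm)).of_equiv e.symm)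
    · exact Or.inl ((split2_D4 hq hL fun h => hnp (h.of_equiv e.symm)).of_equiv e.symm)
  · have hs : Cfsg.Lie.IsoSuzuki K := ⟨F, inferInstance, inferInstance, m, hm, hF, ⟨e⟩⟩
    have e' := e.trans (CfsgLib.Suzuki.lieEquiv hF hm).symm
    haveI := e'.symm.isSimpleGroup
    haveI : Finite ↥(Cfsg.Sz F m) := Finite.of_equiv _ e'.toEquiv
    exact Or.inr (Or.inl ⟨(rankOne_Sz hF hm fun h => hnp (h.of_equiv e'.symm)).of_equiv e'.symm,
      Or.inr (Or.inr (Or.inl ⟨rfl, hs⟩))⟩)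
  · haveI := CfsgLib.Chev.T2F4.charP_two hL
    haveI := e.symm.isSimpleGroup
    exact Or.inl ((split2_F4 hL fun h => hnp (h.of_equiv e.symm)).of_equiv e.symm)
  · have hs : Cfsg.Lie.IsoRee K := ⟨L, inferInstance, inferInstance, m, hm, hL, ⟨e⟩⟩
    haveI := CfsgLib.Chev.T2G2.charP_three hL
    haveI := e.symm.isSimpleGroup
    exact Or.inr (Or.inl ⟨(rankOne_Ree hL fun h => hnp (h.of_equiv e.symm)).of_equiv e.symm,
      Or.inr (Or.inr (Or.inr ⟨rfl, Or.inl hs⟩))⟩)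

theorem cases_chevSimple (h : Cfsg.IsChevSimple p K) (hnp : ¬ IsPGroup p K) : Shape p K := by
  rcases h with h | ⟨rfl, h⟩ | ⟨rfl, F, _, _, hF, ⟨e⟩⟩
  · exact cases_lieTypeChar h hnp
  · rcases h with ⟨⟨e⟩⟩ | ⟨F, _, _, hF, ⟨e⟩⟩ | h
    · exact Or.inr (Or.inr ⟨rfl, Small.max2_A6.of_equiv e.symm, Or.inr (Or.inr ⟨e⟩)⟩)
    · have h9 : Fintype.card F = 3 ^ 2 := by rw [hF]; norm_num
      exact Or.inl ((U33.split2_PSU h9).of_equiv e.symm)
    · obtain ⟨e⟩ : Nonempty (K ≃* Cfsg.Lie.TitsGroup) := h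
      exact Or.inl (CfsgLib.Chev.T2F4Two.split2_tits.of_equiv e.symm)
  · exact Or.inr (Or.inl ⟨(Small.rankOne_eight hF).of_equiv e.symm,
      Or.inr (Or.inr (Or.inr ⟨rfl, Or.inr ⟨F, inferInstance, inferInstance, hF, ⟨e⟩⟩⟩))⟩)

end CfsgLib.PMinimalLie
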