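import Mathlib
import Cfsg.Prelude.Def_LocalEven

/-!
`p`-minimal groups over a normal subgroup, in terms of the overgroups of a Sylow `p`-subgroup in it.
-/

set_option autoImplicit false

namespace CfsgLib.PMinimalLie

variable {p : ℕ}

/-- Every proper overgroup of a Sylow `p`-subgroup normalises it. -/
def RankOneLike (p : ℕ) (K : Type*) [Group K] : Prop :=
  ∃ U : Sylow p K, ∀ P : Subgroup K, (U : Subgroup K) ≤ P → P ≠ ⊤ →
    P ≤ Subgroup.normalizer ((U : Subgroup K) : Set K)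

/-- Two proper overgroups of a Sylow `p`-subgroup `U` generate, and are invariant under the
`p`-automorphisms fixing `U`. -/
def Split2 (p : ℕ) (K : Type*) [Group K] : Prop :=
  ∃ (U : Sylow p K) (P₁ P₂ : Subgroup K), (U : Subgroup K) ≤ P₁ ∧ (U : Subgroup K) ≤ P₂ ∧ P₁ ≠ ⊤ ∧
    P₂ ≠ ⊤ ∧ P₁ ⊔ P₂ = ⊤ ∧ ∀ φ : MulAut K, IsPGroup p (Subgroup.zpowers φ) →
      (∀ x, φ x ∈ (U : Subgroup K) ↔ x ∈ (U : Subgroup K)) →
        (∀ x, φ x ∈ P₁ ↔ x ∈ P₁) ∧ ∀ x, φ x ∈ P₂ ↔ x ∈ P₂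

/-- Exactly two maximal overgroups of a Sylow `p`-subgroup, meeting in its normaliser. -/
def Max2 (p : ℕ) (K : Type*) [Group K] : Prop :=
  ∃ (U : Sylow p K) (P₁ P₂ : Subgroup K), (U : Subgroup K) ≤ P₁ ∧ (U : Subgroup K) ≤ P₂ ∧ P₁ ≠ ⊤ ∧
    P₂ ≠ ⊤ ∧ P₁ ⊔ P₂ = ⊤ ∧ P₁ ⊓ P₂ ≤ Subgroup.normalizer ((U : Subgroup K) : Set K) ∧
      ∀ P : Subgroup K, (U : Subgroup K) ≤ P → P ≠ ⊤ → P ≤ P₁ ∨ P ≤ P₂

section Transport

variable {K L : Type*} [Group K] [Group L]

theorem map_ne_top (e : K ≃* L) {P : Subgroup K} (h : P ≠ ⊤) : P.map e.toMonoidHom ≠ ⊤ := fun h' => h (by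
  rw [← Subgroup.map_top_of_surjective e.toMonoidHom e.surjective] at h'
  exact Subgroup.map_injective e.injective h')

theorem map_sup_eq_top (e : K ≃* L) {P Q : Subgroup K} (h : P ⊔ Q = ⊤) :
    P.map e.toMonoidHom ⊔ Q.map e.toMonoidHom = ⊤ := by
  rw [← Subgroup.map_sup, h, Subgroup.map_top_of_surjective e.toMonoidHom e.surjective]

/-- An isomorphism carrying one Sylow subgroup to another. -/
theorem exists_equiv_sylow [Finite L] [Fact p.Prime] (U : Sylow p K) (e : K ≃* L) (V : Sylow p L) :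
    ∃ e' : K ≃* L, (U : Subgroup K).map e'.toMonoidHom = (V : Subgroup L) := by
  haveI : Finite K := Finite.of_equiv L e.symm.toEquiv
  obtain ⟨g, hg⟩ := MulAction.exists_smul_eq L (U.mapSurjective (f := e.toMonoidHom) e.surjective) V
  refine ⟨e.trans (MulAut.conj g), ?_⟩
  rw [← hg]
  ext x
  simp only [Sylow.smul_def, Sylow.pointwise_smul_def, Sylow.coe_mapSurjective, Subgroup.mem_map,
    Subgroup.mem_pointwise_smul_iff_inv_smul_mem]
  constructor
  · rintro ⟨y, hy, rfl⟩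
    exact ⟨y, hy, by simp [MulAut.smul_def, MulAut.inv_def, mul_assoc]⟩
  · rintro ⟨y, hy, hx⟩
    refine ⟨y, hy, ?_⟩
    simp only [MulEquiv.coe_toMonoidHom, MulEquiv.trans_apply, MulAut.smul_def] at hx ⊢
    rw [hx]
    exact MulAut.apply_inv_self _ _ _

variable [Finite L] [Fact p.Prime]

theorem RankOneLike.move (h : RankOneLike p K) (e : K ≃* L) (V : Sylow p L) :
    ∀ P : Subgroup L, (V : Subgroup L) ≤ P → P ≠ ⊤ → P ≤ Subgroup.normalizer ((V : Subgroup L) : Set L) := by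
  obtain ⟨U, hU⟩ := h
  obtain ⟨f, hf⟩ := exists_equiv_sylow U e V
  intro P hP htop
  have hle : P.comap f.toMonoidHom ≤ Subgroup.normalizer ((U : Subgroup K) : Set K) := by
    refine hU _ (fun x hx => hP ?_) fun h' => htop ?_
    · rw [← hf]; exact Subgroup.mem_map_of_mem _ hx
    · rw [← Subgroup.map_comap_eq_self_of_surjective (f := f.toMonoidHom) f.surjective P, h',
        Subgroup.map_top_of_surjective f.toMonoidHom f.surjective]
  intro x hx
  obtain ⟨y, rfl⟩ := f.surjective x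
  rw [← hf, ← Subgroup.map_equiv_normalizer_eq]
  exact Subgroup.mem_map_of_mem f.toMonoidHom (hle hx)

theorem Split2.move (h : Split2 p K) (e : K ≃* L) (V : Sylow p L) :
    ∃ P₁ P₂ : Subgroup L, (V : Subgroup L) ≤ P₁ ∧ (V : Subgroup L) ≤ P₂ ∧ P₁ ≠ ⊤ ∧ P₂ ≠ ⊤ ∧
      P₁ ⊔ P₂ = ⊤ ∧ ∀ φ : MulAut L, IsPGroup p (Subgroup.zpowers φ) →
        (∀ x, φ x ∈ (V : Subgroup L) ↔ x ∈ (V : Subgroup L)) →
          (∀ x, φ x ∈ P₁ ↔ x ∈ P₁) ∧ ∀ x, φ x ∈ P₂ ↔ x ∈ P₂ := by
  obtain ⟨U, P₁, P₂, h1, h2, t1, t2, ht, hφ⟩ := h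
  obtain ⟨f, hf⟩ := exists_equiv_sylow U e V
  have hmem : ∀ (Q : Subgroup K) (x : L), x ∈ Q.map f.toMonoidHom ↔ f.symm x ∈ Q := fun Q x =>
    Subgroup.mem_map_equiv (f := f) (K := Q)
  refine ⟨P₁.map f.toMonoidHom, P₂.map f.toMonoidHom, hf ▸ Subgroup.map_mono h1, hf ▸ Subgroup.map_mono h2,
    map_ne_top f t1, map_ne_top f t2, map_sup_eq_top f ht, fun φ hp hV => ?_⟩
  have hψ := hφ ((MulAut.congr f).symm φ) ?_ ?_
  · constructor <;> intro x <;> rw [hmem, hmem]
    · have := hψ.1 (f.symm x); simpa [MulAut.congr] using this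
    · have := hψ.2 (f.symm x); simpa [MulAut.congr] using this
  · have h3 := hp.map (MulAut.congr f).symm.toMonoidHom
    rwa [MonoidHom.map_zpowers] at h3
  · intro x
    have := hV (f x)
    rw [← hf, hmem, hmem, f.symm_apply_apply] at this
    simpa [MulAut.congr] using this

theorem Max2.move (h : Max2 p K) (e : K ≃* L) (V : Sylow p L) :
    ∃ P₁ P₂ : Subgroup L, (V : Subgroup L) ≤ P₁ ∧ (V : Subgroup L) ≤ P₂ ∧ P₁ ≠ ⊤ ∧ P₂ ≠ ⊤ ∧
      P₁ ⊔ P₂ = ⊤ ∧ P₁ ⊓ P₂ ≤ Subgroup.normalizer ((V : Subgroup L) : Set L) ∧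
        ∀ P : Subgroup L, (V : Subgroup L) ≤ P → P ≠ ⊤ → P ≤ P₁ ∨ P ≤ P₂ := by
  obtain ⟨U, P₁, P₂, h1, h2, t1, t2, ht, hn, hall⟩ := h
  obtain ⟨f, hf⟩ := exists_equiv_sylow U e V
  refine ⟨P₁.map f.toMonoidHom, P₂.map f.toMonoidHom, hf ▸ Subgroup.map_mono h1, hf ▸ Subgroup.map_mono h2,
    map_ne_top f t1, map_ne_top f t2, map_sup_eq_top f ht, ?_, fun P hP htop => ?_⟩
  · rintro _ ⟨⟨y, hy, rfl⟩, z, hz, e'⟩
    rw [← hf, ← Subgroup.map_equiv_normalizer_eq]
    exact Subgroup.mem_map_of_mem f.toMonoidHom (hn ⟨hy, f.injective e' ▸ hz⟩)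
  · refine (hall (P.comap f.toMonoidHom) (fun x hx => hP ?_) fun h' => htop ?_).imp ?_ ?_
    · rw [← hf]; exact Subgroup.mem_map_of_mem _ hx
    · rw [← Subgroup.map_comap_eq_self_of_surjective (f := f.toMonoidHom) f.surjective P, h',
        Subgroup.map_top_of_surjective f.toMonoidHom f.surjective]
    all_goals
      intro hle
      rw [← Subgroup.map_comap_eq_self_of_surjective (f := f.toMonoidHom) f.surjective P]
      exact Subgroup.map_mono hle

/-- For odd `p` two maximal overgroups cannot be interchanged. -/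
theorem Max2.split2 {M : Type*} [Group M] [Finite M] (h : Max2 p M) (hp : p ≠ 2) : Split2 p M := by
  obtain ⟨U, P₁, P₂, h1, h2, t1, t2, ht, -, hall⟩ := h
  refine ⟨U, P₁, P₂, h1, h2, t1, t2, ht, fun φ hpg hU => ?_⟩
  have key : ∀ ψ : MulAut M, (∀ x, ψ x ∈ (U : Subgroup M) ↔ x ∈ (U : Subgroup M)) →
      P₁.map ψ.toMonoidHom ≤ P₁ ∨ P₁.map ψ.toMonoidHom ≤ P₂ := fun ψ hψ =>
    hall _ (fun x hx => ⟨ψ.symm x, h1 ((hψ _).mp (by rwa [ψ.apply_symm_apply])), ψ.apply_symm_apply x⟩)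
      (map_ne_top ψ t1)
  have key2 : ∀ ψ : MulAut M, (∀ x, ψ x ∈ (U : Subgroup M) ↔ x ∈ (U : Subgroup M)) →
      P₂.map ψ.toMonoidHom ≤ P₁ ∨ P₂.map ψ.toMonoidHom ≤ P₂ := fun ψ hψ =>
    hall _ (fun x hx => ⟨ψ.symm x, h2 ((hψ _).mp (by rwa [ψ.apply_symm_apply])), ψ.apply_symm_apply x⟩)
      (map_ne_top ψ t2)
  have hodd : Odd (orderOf φ) := by
    obtain ⟨n, hn⟩ := hpg.exists_card_eq
    rw [Nat.card_zpowers] at hn
    rw [hn]
    exact Odd.pow ((Fact.out : p.Prime).odd_of_ne_two hp)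
  obtain ⟨k, hk⟩ := hodd
  have hpow : φ ^ (2 * (k + 1)) = φ := by
    rw [show 2 * (k + 1) = (2 * k + 1) + 1 by ring, pow_succ, ← hk, pow_orderOf_eq_one, one_mul]
  have hU2 : ∀ (j : ℕ) x, (φ ^ j) x ∈ (U : Subgroup M) ↔ x ∈ (U : Subgroup M) := by
    intro j
    induction j with
    | zero => simp
    | succ j ih => intro x; rw [pow_succ', MulAut.mul_apply, hU, ih]
  -- neither maximal overgroup lies in the other
  have n12 : ¬ P₁ ≤ P₂ := fun h => t2 (by rw [← ht, sup_of_le_right h])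
  have n21 : ¬ P₂ ≤ P₁ := fun h => t1 (by rw [← ht, sup_of_le_left h])
  have no : P₁.map φ.toMonoidHom ≤ P₁ ∧ P₂.map φ.toMonoidHom ≤ P₂ := by
    rcases key φ hU with a | a <;> rcases key2 φ hU with b | b
    · exfalso
      have := sup_le a b
      rw [map_sup_eq_top φ ht] at this
      exact t1 (top_le_iff.mp this)
    · exact ⟨a, b⟩
    · exfalso
      have sq : ∀ j, P₁.map (φ ^ (2 * j)).toMonoidHom ≤ P₁ := by
        intro j
        induction j with
        | zero => rintro _ ⟨y, hy, rfl⟩; simpa using hy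
        | succ j ih =>
          rintro _ ⟨y, hy, rfl⟩
          have e : (φ ^ (2 * (j + 1))) y = φ (φ ((φ ^ (2 * j)) y)) := by
            rw [show 2 * (j + 1) = 2 * j + 1 + 1 by ring, pow_succ', pow_succ', MulAut.mul_apply,
              MulAut.mul_apply]
          show (φ ^ (2 * (j + 1))) y ∈ P₁
          rw [e]
          exact b ⟨_, a ⟨_, ih ⟨y, hy, rfl⟩, rfl⟩, rfl⟩
      have h1' := sq (k + 1)
      rw [hpow] at h1'
      have : P₁.map φ.toMonoidHom ⊔ P₂.map φ.toMonoidHom ≤ P₁ := sup_le h1' b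
      rw [map_sup_eq_top φ ht] at this
      exact t1 (top_le_iff.mp this)
    · exfalso
      have : P₁.map φ.toMonoidHom ⊔ P₂.map φ.toMonoidHom ≤ P₂ := sup_le a b
      rw [map_sup_eq_top φ ht] at this
      exact t2 (top_le_iff.mp this)
  have fin : ∀ {Q : Subgroup M}, Q.map φ.toMonoidHom ≤ Q → ∀ x, φ x ∈ Q ↔ x ∈ Q := by
    intro Q hQ x
    have e : Q.map φ.toMonoidHom = Q := Subgroup.eq_of_le_of_card_ge hQ
      (Subgroup.card_map_of_injective φ.injective).ge
    conv_lhs => rw [← e]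
    exact Subgroup.mem_map_iff_mem φ.injective
  exact ⟨fin no.1, fin no.2⟩

end Transport

section Main

variable {X : Type*} [Group X] [Finite X] [Fact p.Prime] (hX : Cfsg.IsPMinimal p X)
  (K : Subgroup X) [K.Normal] [IsSimpleGroup ↥K] (hK : ¬ IsPGroup p ↥K) (U : Sylow p ↥K)

/-- The image of `U` in `X`. -/
local notation "U'" => Subgroup.map (Subgroup.subtype K) (U : Subgroup K)

include hK in
theorem normalizer_ne_top (hp : (U : Subgroup K) ≠ ⊥) : Subgroup.normalizer (U' : Set X) ≠ ⊤ := by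
  intro h
  haveI : (U : Subgroup K).Normal := ⟨fun u hu g => by
    have hg : (g : X) ∈ Subgroup.normalizer (U' : Set X) := h ▸ Subgroup.mem_top _
    obtain ⟨w, hw, e⟩ := ((Subgroup.mem_normalizer_iff.mp hg) (u : X)).mp ⟨u, hu, rfl⟩
    have : w = g * u * g⁻¹ := Subtype.ext (by simpa using e)
    exact this ▸ hw⟩
  rcases IsSimpleGroup.eq_bot_or_eq_top_of_normal (U : Subgroup K) inferInstance with e | e
  · exact hp e
  · exact hK (U.isPGroup'.of_equiv ((MulEquiv.subgroupCongr e).trans Subgroup.topEquiv))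

/-- A Sylow subgroup of `X` meeting `K` in `U`. -/
theorem exists_sylow : ∃ S : Sylow p X, (S : Subgroup X) ⊓ K = U' ∧
    (S : Subgroup X) ≤ Subgroup.normalizer (U' : Set X) := by
  obtain ⟨S, hS⟩ := (U.isPGroup'.map K.subtype).exists_le_sylow
  have e : (S : Subgroup X) ⊓ K = U' := by
    refine le_antisymm (fun x hx => ?_) (le_inf hS (Subgroup.map_subtype_le _))
    have hle : (U : Subgroup K) ≤ (S : Subgroup X).subgroupOf K := fun u hu =>
      hS (Subgroup.mem_map_of_mem _ hu)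
    have heq := U.is_maximal' (S.isPGroup'.comap_of_injective K.subtype Subtype.coe_injective) hle
    exact ⟨⟨x, hx.2⟩, heq ▸ hx.1, rfl⟩
  refine ⟨S, e, fun s hs => ?_⟩
  rw [Subgroup.mem_normalizer_iff]
  intro x
  rw [← e, Subgroup.mem_inf, Subgroup.mem_inf]
  refine and_congr ⟨fun hx => mul_mem (mul_mem hs hx) (inv_mem hs), fun hx => ?_⟩
    ⟨fun hx => ‹K.Normal›.conj_mem x hx s, fun hx => ?_⟩
  · simpa [mul_assoc] using mul_mem (mul_mem (inv_mem hs) hx) hs
  · simpa [mul_assoc] using ‹K.Normal›.conj_mem _ hx s⁻¹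

theorem frattini : K ⊔ Subgroup.normalizer (U' : Set X) = ⊤ := by
  rw [sup_comm]
  exact Sylow.normalizer_sup_eq_top U

/-- The conjugation action of a `p`-element of `X` on `K`. -/
theorem conj_isPGroup {x : X} {S : Sylow p X} (hx : x ∈ (S : Subgroup X)) :
    IsPGroup p (Subgroup.zpowers (MulAut.conjNormal (H := K) x)) := by
  have h := (S.isPGroup'.to_le (Subgroup.zpowers_le.mpr hx)).map (MulAut.conjNormal (H := K))
  rwa [MonoidHom.map_zpowers] at h

theorem conj_fixes {x : X} (hx : x ∈ Subgroup.normalizer (U' : Set X)) (y : ↥K) :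
    MulAut.conjNormal (H := K) x y ∈ (U : Subgroup K) ↔ y ∈ (U : Subgroup K) := by
  have h := Subgroup.mem_normalizer_iff.mp hx (y : X)
  rw [← Subgroup.mem_map_iff_mem (f := K.subtype) Subtype.coe_injective,
    ← Subgroup.mem_map_iff_mem (f := K.subtype) Subtype.coe_injective (x := y)]
  simpa using h.symm

include hX hK in
/-- The setting: the unique maximal overgroup `M` of a Sylow subgroup. -/
theorem setup (hp : (U : Subgroup K) ≠ ⊥) : ∃ (S : Sylow p X) (M : Subgroup X),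
    (S : Subgroup X) ⊓ K = U' ∧ (S : Subgroup X) ≤ Subgroup.normalizer (U' : Set X) ∧ IsCoatom M ∧
      Subgroup.normalizer (U' : Set X) ≤ M ∧ ¬ K ≤ M ∧
      ∀ H : Subgroup X, (S : Subgroup X) ≤ H → H ≠ ⊤ → H ≤ M := by
  obtain ⟨S, hS, hSN⟩ := exists_sylow K U
  obtain ⟨-, M, ⟨hM, hSM⟩, huniq⟩ := hX S
  have hall : ∀ H : Subgroup X, (S : Subgroup X) ≤ H → H ≠ ⊤ → H ≤ M := by
    intro H hSH hH
    obtain ⟨M', hM', hle⟩ := (eq_top_or_exists_le_coatom H).resolve_left hH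
    exact huniq M' ⟨hM', hSH.trans hle⟩ ▸ hle
  have hNM := hall _ hSN (normalizer_ne_top K hK U hp)
  refine ⟨S, M, hS, hSN, hM, hNM, fun h => hM.1 ?_, hall⟩
  exact top_le_iff.mp ((frattini K U).symm.le.trans (sup_le h hNM))

/-- An overgroup of `U` in `K` invariant under `S` gives a proper overgroup of `S`. -/
theorem sup_sylow_ne_top {S : Sylow p X} (hS : (S : Subgroup X) ⊓ K = U') {P : Subgroup K}
    (hUP : (U : Subgroup K) ≤ P) (hP : P ≠ ⊤)
    (hinv : ∀ x ∈ (S : Subgroup X), ∀ y, MulAut.conjNormal (H := K) x y ∈ P ↔ y ∈ P) :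
    P.map K.subtype ⊔ (S : Subgroup X) ≠ ⊤ := by
  have hn : (S : Subgroup X) ≤ Subgroup.normalizer (P.map K.subtype : Set X) := by
    intro x hx
    rw [Subgroup.mem_normalizer_iff]
    intro z
    constructor
    · rintro ⟨y, hy, rfl⟩
      exact ⟨MulAut.conjNormal x y, (hinv x hx y).mpr hy, MulAut.conjNormal_apply _ _⟩
    · rintro ⟨y, hy, e⟩
      refine ⟨MulAut.conjNormal x⁻¹ y, (hinv x⁻¹ (inv_mem hx) y).mpr hy, ?_⟩
      show ((MulAut.conjNormal x⁻¹ y : K) : X) = z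
      rw [MulAut.conjNormal_apply, show (y : X) = x * z * x⁻¹ from e]
      group
  intro h
  apply hP
  rw [eq_top_iff]
  intro y _
  have hy : (y : X) ∈ (↑(P.map K.subtype ⊔ (S : Subgroup X)) : Set X) := by rw [h]; exact Set.mem_univ _
  rw [Subgroup.coe_mul_of_right_le_normalizer_left _ _ hn] at hy
  obtain ⟨a, ⟨a', ha', rfl⟩, s, hs, e⟩ := hy
  have hsK : s ∈ K := by
    have e' : s = ((a' : X))⁻¹ * y := by rw [eq_inv_mul_iff_mul_eq]; exact e
    exact e' ▸ mul_mem (inv_mem a'.2) y.2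
  obtain ⟨u, hu, rfl⟩ : s ∈ U' := hS ▸ ⟨hs, hsK⟩
  have : y = a' * u := Subtype.ext e.symm
  exact this ▸ mul_mem ha' (hUP hu)

include hX hK in
/-- Two invariant overgroups are impossible. -/
theorem false_of_invariant (hp : (U : Subgroup K) ≠ ⊥) {P₁ P₂ : Subgroup K}
    (h1 : (U : Subgroup K) ≤ P₁) (h2 : (U : Subgroup K) ≤ P₂) (t1 : P₁ ≠ ⊤) (t2 : P₂ ≠ ⊤)
    (ht : P₁ ⊔ P₂ = ⊤)
    (hinv : ∀ S : Sylow p X, (S : Subgroup X) ⊓ K = U' → ∀ x ∈ (S : Subgroup X),
      (∀ y, MulAut.conjNormal (H := K) x y ∈ P₁ ↔ y ∈ P₁) ∧ ∀ y, MulAut.conjNormal (H := K) x y ∈ P₂ ↔ y ∈ P₂) :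
    False := by
  obtain ⟨S, M, hS, -, -, -, hKM, hall⟩ := setup hX K hK U hp
  apply hKM
  intro x hx
  have e : (⊤ : Subgroup K).map K.subtype ≤ M := by
    rw [← ht, Subgroup.map_sup]
    exact sup_le
      (le_sup_left.trans (hall _ le_sup_right (sup_sylow_ne_top K U hS h1 t1 fun z hz => (hinv S hS z hz).1)))
      (le_sup_left.trans (hall _ le_sup_right (sup_sylow_ne_top K U hS h2 t2 fun z hz => (hinv S hS z hz).2)))
  exact e ⟨⟨x, hx⟩, Subgroup.mem_top _, rfl⟩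

/-- A maximal subgroup meeting `K` in the normaliser of `U` normalises `U`. -/
theorem le_normalizer {M : Subgroup X} (hUM : U' ≤ M)
    (h : M.subgroupOf K ≤ Subgroup.normalizer ((U : Subgroup K) : Set K)) :
    M ≤ Subgroup.normalizer (U' : Set X) := by
  intro m hm
  have key : ∀ k ∈ M, ∀ u ∈ (U : Subgroup K), MulAut.conjNormal (H := K) k u ∈ (U : Subgroup K) := by
    intro k hk u hu
    set V : Subgroup K := (U : Subgroup K).map (MulAut.conjNormal (H := K) k).toMonoidHom with hV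
    have hVN : V ≤ Subgroup.normalizer ((U : Subgroup K) : Set K) := by
      rintro _ ⟨w, hw, rfl⟩
      refine h ?_
      show ((MulAut.conjNormal k w : K) : X) ∈ M
      rw [MulAut.conjNormal_apply]
      exact mul_mem (mul_mem hk (hUM ⟨w, hw, rfl⟩)) (inv_mem hk)
    have := U.is_maximal' ((U.isPGroup').to_sup_of_normal_left' (U.isPGroup'.map _) hVN) le_sup_left
    exact this ▸ Subgroup.mem_sup_right ⟨u, hu, rfl⟩
  rw [Subgroup.mem_normalizer_iff]
  intro z
  constructor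
  · rintro ⟨y, hy, rfl⟩
    exact ⟨_, key m hm y hy, MulAut.conjNormal_apply _ _⟩
  · rintro ⟨y, hy, e⟩
    refine ⟨_, key m⁻¹ (inv_mem hm) y hy, ?_⟩
    show ((MulAut.conjNormal m⁻¹ y : K) : X) = z
    rw [MulAut.conjNormal_apply, show (y : X) = m * z * m⁻¹ from e]
    group

include hX hK in
/-- The rank one case. -/
theorem coatom_of_rankOne (hp : (U : Subgroup K) ≠ ⊥) (h : RankOneLike p ↥K) :
    IsCoatom (Subgroup.normalizer (U' : Set X)) := by
  obtain ⟨S, M, hS, -, hM, hNM, hKM, -⟩ := setup hX K hK U hp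
  have hUM : U' ≤ M := Subgroup.le_normalizer.trans hNM
  have hle := le_normalizer K U hUM (h.move (MulEquiv.refl _) U _
    (fun u hu => hUM ⟨u, hu, rfl⟩) fun e => hKM fun x hx => by
      have : (⟨x, hx⟩ : K) ∈ M.subgroupOf K := e ▸ Subgroup.mem_top _
      exact this)
  rwa [le_antisymm hNM hle]

include hX hK in
/-- The case of two invariant parabolic subgroups does not occur. -/
theorem false_of_split2 (hp : (U : Subgroup K) ≠ ⊥) (h : Split2 p ↥K) : False := by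
  obtain ⟨P₁, P₂, h1, h2, t1, t2, ht, hφ⟩ := h.move (MulEquiv.refl _) U
  exact false_of_invariant hX K hK U hp h1 h2 t1 t2 ht fun S hS x hx =>
    hφ _ (conj_isPGroup K hx) fun y => by
      refine conj_fixes K U ?_ y
      obtain ⟨T, hT⟩ : ∃ T : Subgroup X, T = (S : Subgroup X) := ⟨_, rfl⟩
      rw [Subgroup.mem_normalizer_iff]
      intro z
      rw [← hS, Subgroup.mem_inf, Subgroup.mem_inf]
      refine and_congr ⟨fun h => mul_mem (mul_mem hx h) (inv_mem hx), fun h => ?_⟩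
        ⟨fun h => ‹K.Normal›.conj_mem z h x, fun h => ?_⟩
      · simpa [mul_assoc] using mul_mem (mul_mem (inv_mem hx) h) hx
      · simpa [mul_assoc] using ‹K.Normal›.conj_mem _ h x⁻¹

include hX hK in
/-- Two interchanged parabolic subgroups. -/
theorem coatom_of_max2 (hp : (U : Subgroup K) ≠ ⊥) (h : Max2 p ↥K) :
    IsCoatom (Subgroup.normalizer (U' : Set X)) ∧ K ≠ ⊤ := by
  obtain ⟨P₁, P₂, h1, h2, t1, t2, ht, hn, hall⟩ := h.move (MulEquiv.refl _) U
  have n12 : ¬ P₁ ≤ P₂ := fun h => t2 (by rw [← ht, sup_of_le_right h])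
  have n21 : ¬ P₂ ≤ P₁ := fun h => t1 (by rw [← ht, sup_of_le_left h])
  obtain ⟨S, M, hS, hSN, hM, hNM, hKM, hallM⟩ := setup hX K hK U hp
  have hUM : U' ≤ M := Subgroup.le_normalizer.trans hNM
  have hperm : ∀ x ∈ (S : Subgroup X), ∀ Q, Q = P₁ ∨ Q = P₂ →
      Q.map (MulAut.conjNormal (H := K) x).toMonoidHom ≤ P₁ ∨
      Q.map (MulAut.conjNormal (H := K) x).toMonoidHom ≤ P₂ := by
    intro x hx Q hQ
    refine hall _ (fun y hy => ⟨(MulAut.conjNormal (H := K) x).symm y, ?_, MulEquiv.apply_symm_apply _ _⟩)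
      (map_ne_top _ (by rcases hQ with rfl | rfl <;> assumption))
    have := (conj_fixes K U (hSN hx) ((MulAut.conjNormal (H := K) x).symm y)).mp
      (by rwa [MulEquiv.apply_symm_apply])
    rcases hQ with rfl | rfl
    exacts [h1 this, h2 this]
  have fin : ∀ (ψ : MulAut K) {Q : Subgroup K}, Q.map ψ.toMonoidHom ≤ Q → ∀ y, ψ y ∈ Q ↔ y ∈ Q := by
    intro ψ Q hQ y
    have e : Q.map ψ.toMonoidHom = Q := Subgroup.eq_of_le_of_card_ge hQ
      (Subgroup.card_map_of_injective ψ.injective).ge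
    conv_lhs => rw [← e]
    exact Subgroup.mem_map_iff_mem ψ.injective
  -- some element of `S` interchanges the two
  obtain ⟨x, hxS, hswap⟩ : ∃ x ∈ (S : Subgroup X),
      P₁.map (MulAut.conjNormal (H := K) x).toMonoidHom ≤ P₂ := by
    by_contra hne
    push Not at hne
    apply hKM
    intro z hz
    have inv1 : ∀ x ∈ (S : Subgroup X), P₁.map (MulAut.conjNormal (H := K) x).toMonoidHom ≤ P₁ :=
      fun x hx => (hperm x hx P₁ (Or.inl rfl)).resolve_right (hne x hx)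
    have inv2 : ∀ x ∈ (S : Subgroup X), P₂.map (MulAut.conjNormal (H := K) x).toMonoidHom ≤ P₂ := by
      intro x hx
      refine (hperm x hx P₂ (Or.inr rfl)).resolve_left fun h' => ?_
      have := sup_le (inv1 x hx) h'
      rw [map_sup_eq_top _ ht] at this
      exact t1 (top_le_iff.mp this)
    have e : (⊤ : Subgroup K).map K.subtype ≤ M := by
      rw [← ht, Subgroup.map_sup]
      exact sup_le
        (le_sup_left.trans (hallM _ le_sup_right
          (sup_sylow_ne_top K U hS h1 t1 fun y hy => fin _ (inv1 y hy))))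
        (le_sup_left.trans (hallM _ le_sup_right
          (sup_sylow_ne_top K U hS h2 t2 fun y hy => fin _ (inv2 y hy))))
    exact e ⟨⟨z, hz⟩, Subgroup.mem_top _, rfl⟩
  refine ⟨?_, fun e => ?_⟩
  · -- the meet of `M` and `K` lies in both
    have hMK : M.subgroupOf K ≠ ⊤ := fun e => hKM fun z hz => by
      have : (⟨z, hz⟩ : K) ∈ M.subgroupOf K := e ▸ Subgroup.mem_top _
      exact this
    have hxM : x ∈ M := hNM (hSN hxS)
    have hinv : (M.subgroupOf K).map (MulAut.conjNormal (H := K) x).toMonoidHom = M.subgroupOf K := by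
      refine Subgroup.eq_of_le_of_card_ge ?_ (Subgroup.card_map_of_injective (MulEquiv.injective _)).ge
      rintro _ ⟨y, hy, rfl⟩
      show ((MulAut.conjNormal x y : K) : X) ∈ M
      rw [MulAut.conjNormal_apply]
      exact mul_mem (mul_mem hxM hy) (inv_mem hxM)
    have hswap2 : P₂.map (MulAut.conjNormal (H := K) x).toMonoidHom ≤ P₁ := by
      refine (hperm x hxS P₂ (Or.inr rfl)).resolve_right fun h' => ?_
      have := sup_le hswap h'
      rw [map_sup_eq_top _ ht] at this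
      exact t2 (top_le_iff.mp this)
    have hle : M.subgroupOf K ≤ P₁ ⊓ P₂ := by
      rcases hall (M.subgroupOf K) (fun u hu => hUM ⟨u, hu, rfl⟩) hMK with h' | h'
      · exact le_inf h' (hinv ▸ (Subgroup.map_mono h').trans hswap)
      · exact le_inf (hinv ▸ (Subgroup.map_mono h').trans hswap2) h'
    have := le_normalizer K U hUM (hle.trans hn)
    rwa [le_antisymm hNM this]
  · apply n12
    intro y hy
    have hxK : x ∈ K := e ▸ Subgroup.mem_top x
    obtain ⟨u, hu, rfl⟩ : x ∈ U' := hS ▸ ⟨hxS, hxK⟩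
    have h' := hswap ⟨u⁻¹ * y * u, mul_mem (mul_mem (inv_mem (h1 hu)) hy) (h1 hu), rfl⟩
    have e2 : MulAut.conjNormal (H := K) (u : X) (u⁻¹ * y * u) = y := Subtype.ext (by
      rw [MulAut.conjNormal_apply]; push_cast; group)
    rw [← e2]
    exact h'

end Main

end CfsgLib.PMinimalLie
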