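import Cfsg.Agent.Lib.PMinimalLie.Polar
import Cfsg.Agent.Lib.LieRigid.Classical
import Cfsg.Agent.Lib.OrthAut.WittIndex

/-!
The classical groups of rank at least two: two invariant parabolic subgroups.
-/

set_option autoImplicit false
set_option linter.unusedSectionVars false
set_option linter.style.haveILetI false

namespace CfsgLib.PMinimalLie

open CfsgLib.LieRigid

theorem Split2.of_equiv {p : ℕ} [Fact p.Prime] {K L : Type*} [Group K] [Group L] [Finite L]
    (h : Split2 p K) (e : K ≃* L) : Split2 p L := by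
  obtain ⟨V⟩ : Nonempty (Sylow p L) := inferInstance
  obtain ⟨P₁, P₂, h'⟩ := h.move e V
  exact ⟨V, P₁, P₂, h'⟩

open CfsgLib.PolarAut in
/-- A group of isometries of a trace-valued form whose automorphisms are similitudes. -/
theorem split2_geo {F V G W : Type*} [Field F] [Finite F] [AddCommGroup V] [Module F V] [Finite V]
    [Group G] [Group W] [Finite W] [IsSimpleGroup W] (p : ℕ) [Fact p.Prime] [CharP F p]
    (S : Geo F V G W) {e f w₁ w₂ : V} (H : S.P.Hyp e f) (K : S.P.Hyp w₁ w₂) (h1 : S.P.Perp e f w₁)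
    (h2 : S.P.Perp e f w₂) (ht : ∀ φ : MulAut W, TPerm S φ) : Split2 p W := by
  refine split2_polar (LieRigid.ofGeo S) p (e := e) (f := f) (a := w₁) ⟨H.ee, H.ff, H.ef⟩ K.ee
    (SForm.Hyp.ne_left (P := (LieRigid.ofGeo S).P) ⟨K.ee, K.ff, K.ef⟩) h1.1 h1.2
    (fun e f a b _ _ _ _ => ?_) fun φ => ?_
  · obtain ⟨z, hz0, hz⟩ := S.P.skew
    exact ⟨0, z, S.P.zero_left e, S.P.zero_left f, S.P.zero_left a, S.P.zero_left b,
      show CfsgLib.PolarAut.Polar.Valid _ 0 z by simpa [CfsgLib.PolarAut.Polar.Valid] using hz, hz0⟩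
  · obtain ⟨T, σ, m, -, -, Tadd, Tsmul, Tbij, Th, Tequiv⟩ := exists_similitude_of_tperm S φ (ht φ) H K h1 h2
    exact ⟨T, σ, Tadd, Tsmul, Tbij.1,
      fun x y hxy => (Th x y).trans (by rw [show S.P.h x y = 0 from hxy, map_zero, mul_zero]), Tequiv⟩

theorem split2_psp {F : Type} [Field F] [Fintype F] (p : ℕ) [Fact p.Prime] [CharP F p] {m : ℕ} (hm : 3 ≤ m)
    [IsSimpleGroup (Cfsg.PSp m F)] : Split2 p (Cfsg.PSp m F) := by
  haveI : Finite (Cfsg.PSp m F) := Finite.of_surjective _ (CfsgLib.PolarAut.spGeo F m).surj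
  obtain ⟨e, f, H⟩ := CfsgLib.PolarAut.sp_pair (F := F) (m := m) (by omega)
  obtain ⟨w₁, w₂, K, h1, h2⟩ := CfsgLib.PolarAut.sp_quad (show 2 ≤ m by omega) H
  refine split2_geo p (CfsgLib.PolarAut.spGeo F m) H K h1 h2 fun φ => ?_
  by_cases h2 : (2 : F) = 0
  · haveI : CharP F 2 := by
      haveI := ringChar.charP F
      rw [← (Nat.prime_dvd_prime_iff_eq (CharP.char_is_prime F (ringChar F)) Nat.prime_two).mp
        (ringChar.dvd (by exact_mod_cast h2))]
      infer_instance
    exact CfsgLib.PolarAut.tperm_char_two hm φ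
  · exact CfsgLib.PolarAut.tperm_of_nolin _ φ (CfsgLib.PolarAut.sp_nolin h2) (e₁ := e) (f₁ := f) H

theorem split2_psu {F : Type} [Field F] [Fintype F] (p : ℕ) [Fact p.Prime] [CharP F p] {n q : ℕ}
    (hF : Fintype.card F = q ^ 2) (hn : 4 ≤ n) [IsSimpleGroup (Cfsg.PSU n F q)] :
    Split2 p (Cfsg.PSU n F q) := by
  haveI : Finite (Cfsg.SU n F q) := Subtype.finite
  haveI : Finite (Cfsg.PSU n F q) := Quotient.finite _
  obtain ⟨e, f, H⟩ := CfsgLib.PolarAut.exists_pair hF (n := n) (by omega)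
  obtain ⟨w₁, w₂, K, h1, h2⟩ := CfsgLib.PolarAut.exists_quad hF hn H
  exact split2_geo p (CfsgLib.PolarAut.suGeo hF (n := n) (by omega)) H K h1 h2 fun φ =>
    CfsgLib.PolarAut.tperm_of_nolin _ φ (CfsgLib.PolarAut.nolin hF) (e₁ := e) (f₁ := f) H

section Orthogonal

open QuadraticMap CfsgLib.WittExtension CfsgLib.Eichler CfsgLib.OrthAut Module
open scoped commutatorElement

/-- The simple orthogonal group on Siegel transformations, as a group of isometries. -/
noncomputable def omGeo {F V : Type*} [Field F] [Finite F] [AddCommGroup V] [Module F V] [FiniteDimensional F V]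
    (Q : QuadraticForm F V) (hQ : (polarBilin Q).Nondegenerate) (hn : 7 ≤ finrank F V) :
    SGeo F V ↥(Om Q) (POm Q) where
  P := orthForm Q hQ (by omega)
  act := LinearEquiv.automorphismGroup.toLinearMapMonoidHom.comp ((quadIso Q).subtype.comp (Om Q).subtype)
  act_inj := fun _ _ h => Subtype.ext (Subtype.ext (LinearEquiv.toLinearMap_injective h))
  isom := fun A x y => by
    show polar Q (A.1.1 x) (A.1.1 y) = polar Q x y
    simp only [polar, ← map_add, A.1.2 _]
  sing_act := fun A _ hx => (A.1.2 _).trans hx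
  root := fun {e f a s} H ha hv => by
    have hea : polar Q e a = 0 := by rw [polar_comm]; exact ha.1
    obtain ⟨g, -, hg⟩ := exists_el hQ hn ⟨e, H.ne_left, H.1⟩ hea
    refine ⟨g, LinearMap.ext fun x => ?_⟩
    show g.1.1 x = x + ((1 : F) * polar Q x e) • (a + s • e) - polar Q x a • e
    rw [hg x, show s = -Q a from eq_neg_of_add_eq_zero_right hv, polar_comm Q e x, polar_comm Q a x]
    module
  pr := OrthAut.pr Q
  surj := pr_surj Q
  ker := fun g hg => by
    obtain ⟨c, hc⟩ := (pr_eq_iff hQ hn).mp (hg.trans (map_one (OrthAut.pr Q)).symm)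
    exact ⟨c, hc⟩

variable {F : Type} [Field F] [Fintype F] (p : ℕ) [Fact p.Prime] [CharP F p]

/-- A quadratic form takes a nonzero value on any four perpendiculars. -/
theorem exists_value {V : Type*} [AddCommGroup V] [Module F V] [FiniteDimensional F V] (Q : QuadraticForm F V)
    (hQ : (polarBilin Q).Nondegenerate) (hn : 5 ≤ finrank F V) {e f a b : V} (he : Q e = 0) (hf : Q f = 0)
    (ha : Q a = 0) (hb : Q b = 0) (hef : polar Q e f = 1) (hab : polar Q a b = 1) (hae : polar Q a e = 0)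
    (haf : polar Q a f = 0) (hbe : polar Q b e = 0) (hbf : polar Q b f = 0) :
    ∃ c, polar Q c e = 0 ∧ polar Q c f = 0 ∧ polar Q c a = 0 ∧ polar Q c b = 0 ∧ Q c ≠ 0 := by
  let L : V →ₗ[F] (F × F) × (F × F) := ((polarBilin Q e).prod (polarBilin Q f)).prod
    ((polarBilin Q a).prod (polarBilin Q b))
  obtain ⟨w, hw, hw0⟩ : ∃ w ∈ LinearMap.ker L, w ≠ 0 :=
    Submodule.exists_mem_ne_zero_of_ne_bot (LinearMap.ker_ne_bot_of_finrank_lt (by
      simp only [Module.finrank_prod, Module.finrank_self]; omega))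
  have hwk := LinearMap.mem_ker.mp hw
  have h1 : polar Q w e = 0 := by rw [polar_comm]; exact congrArg (fun z => z.1.1) hwk
  have h2 : polar Q w f = 0 := by rw [polar_comm]; exact congrArg (fun z => z.1.2) hwk
  have h3 : polar Q w a = 0 := by rw [polar_comm]; exact congrArg (fun z => z.2.1) hwk
  have h4 : polar Q w b = 0 := by rw [polar_comm]; exact congrArg (fun z => z.2.2) hwk
  by_cases hQw : Q w ≠ 0
  · exact ⟨w, h1, h2, h3, h4, hQw⟩
  rw [not_not] at hQw
  obtain ⟨y, hy⟩ : ∃ y, polar Q w y ≠ 0 := by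
    by_contra h
    push Not at h
    exact hw0 (hQ.1 w h)
  set d := y - polar Q y f • e - polar Q y e • f - polar Q y b • a - polar Q y a • b with hd
  have self : ∀ x : V, Q x = 0 → polar Q x x = 0 := fun x hx => by
    rw [CfsgLib.ReflectionGen.pol_self, hx, mul_zero]
  have hfe : polar Q f e = 1 := by rw [polar_comm, hef]
  have hba : polar Q b a = 1 := by rw [polar_comm, hab]
  have hea : polar Q e a = 0 := by rw [polar_comm, hae]
  have hfa : polar Q f a = 0 := by rw [polar_comm, haf]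
  have heb : polar Q e b = 0 := by rw [polar_comm, hbe]
  have hfb : polar Q f b = 0 := by rw [polar_comm, hbf]
  have hde : polar Q d e = 0 := by
    simp [hd, sub_eq_add_neg, polar_add_left, polar_neg_left, polar_smul_left, self e he, hfe, hae, hbe]
  have hdf : polar Q d f = 0 := by
    simp [hd, sub_eq_add_neg, polar_add_left, polar_neg_left, polar_smul_left, self f hf, hef, haf, hbf]
  have hda : polar Q d a = 0 := by
    simp [hd, sub_eq_add_neg, polar_add_left, polar_neg_left, polar_smul_left, self a ha, hba, hea, hfa]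
  have hdb : polar Q d b = 0 := by
    simp [hd, sub_eq_add_neg, polar_add_left, polar_neg_left, polar_smul_left, self b hb, hab, heb, hfb]
  have hwd : polar Q w d ≠ 0 := by
    simpa [hd, sub_eq_add_neg, polar_add_right, polar_neg_right, polar_smul_right, h1, h2, h3, h4] using hy
  by_cases hQd : Q d ≠ 0
  · exact ⟨d, hde, hdf, hda, hdb, hQd⟩
  rw [not_not] at hQd
  exact ⟨w + d, by rw [polar_add_left, h1, hde, add_zero], by rw [polar_add_left, h2, hdf, add_zero],
    by rw [polar_add_left, h3, hda, add_zero], by rw [polar_add_left, h4, hdb, add_zero],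
    by rw [QuadraticMap.map_add Q, hQw, hQd, zero_add, zero_add]; exact hwd⟩

theorem split2_pomega {ι : Type} [Fintype ι] [DecidableEq ι] (fq : (ι → F) → F)
    (Q : QuadraticForm F (ι → F)) (hfq : ∀ v, fq v = Q v) (hQ : (polarBilin Q).Nondegenerate)
    (hn : 7 ≤ Fintype.card ι)
    (hmax : (∀ W : Submodule F (ι → F), (∀ a ∈ W, Q a = 0) → 2 * finrank F W < Fintype.card ι) ∨
      10 ≤ Fintype.card ι)
    [IsSimpleGroup (Cfsg.POmega F fq)] : Split2 p (Cfsg.POmega F fq) := by
  obtain rfl : fq = ⇑Q := funext hfq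
  have hV : finrank F (ι → F) = Fintype.card ι := Module.finrank_fintype_fun_eq_card F
  have hn' : 7 ≤ finrank F (ι → F) := by rw [hV]; exact hn
  let i := CfsgLib.SpinorMatrix.isoEquiv Q
  have hmap : (Cfsg.Omega F ⇑Q).map i.toMonoidHom = Om Q := by
    show _ = Subgroup.closure (Sieg Q)
    rw [← CfsgLib.OmegaSimple.commutator_eq Q hQ (by omega), show Cfsg.Omega F ⇑Q = commutator _ from rfl,
      _root_.commutator_def, _root_.commutator_def, Subgroup.map_commutator,
      Subgroup.map_top_of_surjective _ i.surjective]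
  let i' : ↥(Cfsg.Omega F ⇑Q) ≃* ↥(Om Q) := (i.subgroupMap _).trans (MulEquiv.subgroupCongr hmap)
  have hcen : (Subgroup.center ↥(Cfsg.Omega F ⇑Q)).map i'.toMonoidHom = Subgroup.center ↥(Om Q) := by
    ext x
    constructor
    · rintro ⟨y, hy, rfl⟩
      refine Subgroup.mem_center_iff.mpr fun k => ?_
      obtain ⟨k, rfl⟩ := i'.surjective k
      show i' k * i' y = i' y * i' k
      rw [← map_mul, ← map_mul, Subgroup.mem_center_iff.mp hy k]
    · intro hx
      refine ⟨i'.symm x, Subgroup.mem_center_iff.mpr fun k => i'.injective ?_, i'.apply_symm_apply x⟩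
      rw [map_mul, map_mul, i'.apply_symm_apply]
      exact Subgroup.mem_center_iff.mp hx _
  let eq : Cfsg.POmega F ⇑Q ≃* POm Q := QuotientGroup.congr _ _ i' hcen
  haveI : Finite ↥(Om Q) :=
    Finite.of_injective (fun g => ((g.1.1 : (ι → F) ≃ₗ[F] (ι → F)) : (ι → F) → (ι → F)))
      (fun g g' h => Subtype.ext (Subtype.ext (LinearEquiv.ext (congrFun h))))
  haveI : Finite (POm Q) := Quotient.finite _
  haveI : Finite (Cfsg.POmega F ⇑Q) := Finite.of_equiv _ eq.symm.toEquiv
  haveI : IsSimpleGroup (POm Q) := eq.symm.isSimpleGroup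
  obtain ⟨e, he0, he⟩ := CfsgLib.FiniteForms.exists_singular Q (by omega)
  obtain ⟨f, hf, hef⟩ := exists_partner Q hQ he0 he
  let L : (ι → F) →ₗ[F] F × F := (polarBilin Q e).prod (polarBilin Q f)
  obtain ⟨a, ha0, ha⟩ := CfsgLib.FiniteForms.exists_singular (Q.comp (LinearMap.ker L).subtype) (by
    have h1 := LinearMap.finrank_range_add_finrank_ker L
    have h2 := Submodule.finrank_le (LinearMap.range L)
    rw [Module.finrank_prod, Module.finrank_self] at h2
    omega)
  have hak := LinearMap.mem_ker.mp a.2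
  refine (split2_polar (omGeo Q hQ hn') p (e := e) (f := f) (a := (a : ι → F)) ⟨he, hf, hef⟩ ha
    (fun h => ha0 (Subtype.ext h)) ?_ ?_ ?_ fun φ => ?_).of_equiv eq.symm
  · show polar Q _ e = 0
    rw [polar_comm]
    exact congrArg Prod.fst hak
  · show polar Q _ f = 0
    rw [polar_comm]
    exact congrArg Prod.snd hak
  · intro e f a b H K hea heb
    obtain ⟨c, h1, h2, h3, h4, h5⟩ := exists_value Q hQ (by omega) H.1 H.2.1 K.1 K.2.1 H.2.2 K.2.2
      hea.1 hea.2 heb.1 heb.2
    exact ⟨c, -Q c, h1, h2, h3, h4, add_neg_cancel (Q c), neg_ne_zero.mpr h5⟩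
  · obtain ⟨T, σ, m, -, Tadd, Tsmul, Tbij, TQ, hT⟩ := exists_similitude hQ hn' (by rwa [hV]) φ
    refine ⟨T, σ, Tadd, Tsmul, Tbij.1, fun x y hxy => ?_, hT⟩
    have hp : polar Q (T x) (T y) = m * σ (polar Q x y) := by
      simp only [polar, ← Tadd, TQ, map_sub, mul_sub]
    exact hp.trans (by rw [show polar Q x y = 0 from hxy, map_zero, mul_zero])

end Orthogonal

end CfsgLib.PMinimalLie
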