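import Cfsg.Agent.Lib.PMinimalLie.Split
import Cfsg.Agent.Lib.LieRigid.Exceptional
import Cfsg.Agent.Lib.Chev.Aut.TypeData
import Cfsg.Agent.Lib.Chev.Twist.AutRank
import Cfsg.Agent.Lib.Chev.Twist.AutD4
import Cfsg.Agent.Lib.Chev.Twist.AutE6
import Cfsg.Agent.Lib.Chev.Twist.AutF4
import Cfsg.Agent.Lib.Chev.SympB2Iso

/-!
Invariant parabolic subgroups of the exceptional groups.
-/

set_option autoImplicit false
set_option linter.unusedSectionVars false
set_option linter.dupNamespace false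

namespace CfsgLib.Chev.Chev

open Cfsg.Lie Matrix CfsgLib.LieRigid CfsgLib.PMinimalLie

variable {D : ChevalleyDatum} (Φ : Chev D) {F : Type*} [Field F] [Finite F] (p : ℕ) [Fact p.Prime] [CharP F p]

/-- Negative root elements lie in the parabolic subgroup of their node. -/
theorem eg_rev_mem_pJ {J : Set (Fin D.rank)} {i : Fin D.rank} (hi : i ∈ J) (t : F) :
    Φ.eg (Φ.p i).rev t ∈ pJ (Φ.splitData (F := F) p) J := by
  have h : ∀ s : F, Φ.eg (Φ.p i).rev ((Φ.eta i (Φ.p i) : F) * s) ∈ pJ (Φ.splitData (F := F) p) J := by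
    intro s
    have e : (Φ.eg (Φ.p i).rev ((Φ.eta i (Φ.p i) : F) * s) : ↥(D.group F)) =
        (Φ.splitData (F := F) p).n i * Φ.eg (Φ.p i) s * ((Φ.splitData (F := F) p).n i)⁻¹ :=
      Subtype.ext (by
        show Φ.toAlg.xg (Φ.p i).rev _ = Φ.nw (Φ.p i) (1 : Fˣ) * Φ.toAlg.xg (Φ.p i) s * (Φ.nw (Φ.p i) 1)⁻¹
        rw [Φ.nw_conj_xg, mul_inv_cancel_right, Φ.refl_p])
    rw [e]
    exact mul_mem (mul_mem (n_mem_pJ (Φ.splitData (F := F) p) hi)
      (U_le_pJ (Φ.splitData (F := F) p) J (Φ.xg_mem_U (Φ.p_pos i) s)))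
      (inv_mem (n_mem_pJ (Φ.splitData (F := F) p) hi))
  rcases Φ.eta_unit i (Φ.p i) with e | e
  · simpa [e] using h t
  · simpa [e] using h (-t)

/-- A set of nodes invariant under the allowed diagram symmetries. -/
theorem split2 [IsSimpleGroup ↥(D.group F)] (hnp : ¬ IsPGroup p ↥(D.group F)) {A : List (List ℕ × ℕ)}
    (hA : Φ.AutType F A) (J : Set (Fin D.rank)) {a b : Fin D.rank} (ha : a ∈ J) (hb : b ∉ J)
    (hJ : ∀ σ : Equiv.Perm (Fin D.rank), Allowed F A σ → ∀ i, σ i ∈ J ↔ i ∈ J) :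
    Split2 p ↥(D.group F) := by
  haveI : Finite ↥(D.group F) := Subgroup.instFiniteSubtypeMem _
  set S := Φ.splitData (F := F) p
  haveI : Nonempty S.ι := ⟨a⟩
  refine split2_of_split S (Φ.splitData_X_ne p) (Φ.splitData_rad_ne p) hnp J ha hb
    fun φ _ hU I hI (c : Fin D.rank) hc x hx => ?_
  obtain ⟨g, hg⟩ := Φ.exists_fix p φ
  have hfix : Fix (MulEquiv.trans φ (MulAut.conj g)) := ⟨fun y => (hg y).1, fun y => (hg y).2⟩
  obtain ⟨σ, k, τ, hN⟩ := Φ.exists_normal hfix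
  have hgN : g ∈ Subgroup.normalizer (S.U : Set ↥(D.group F)) := by
    rw [Subgroup.mem_normalizer_iff]
    intro y
    obtain ⟨z, rfl⟩ := φ.surjective y
    exact (hU z).trans (hg z).1
  have hgI : g ∈ pJ S I := pJ_mono S (Set.empty_subset I)
    (normalizer_le S (Φ.splitData_X_ne p) (Φ.splitData_rad_ne p) hnp hgN)
  obtain ⟨t, et⟩ := Φ.exists_xg_of_mem (Subgroup.mem_subgroupOf.mp hx)
  have hy : ∃ s : F, (S.n c)⁻¹ * x * S.n c = Φ.eg (Φ.p c).rev s := by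
    obtain ⟨u, hu⟩ : ∃ u : F, (x : GL D.Idx F) = Φ.toAlg.xg (Φ.p c) u := ⟨t, et⟩
    have hsq := S.sq c
    obtain ⟨w, hw⟩ := Φ.exists_xg_of_mem (Subgroup.mem_subgroupOf.mp
      (S.HX c ((S.n c * S.n c)⁻¹) (inv_mem hsq) x hx))
    refine ⟨(Φ.eta c (Φ.p c) : F) * w, Subtype.ext ?_⟩
    show _ = Φ.toAlg.xg (Φ.p c).rev ((Φ.eta c (Φ.p c) : F) * w)
    have e1 : (S.n c)⁻¹ * x * S.n c =
        S.n c * ((S.n c * S.n c)⁻¹ * x * ((S.n c * S.n c)⁻¹)⁻¹) * (S.n c)⁻¹ := by group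
    rw [e1, Subgroup.coe_mul, Subgroup.coe_mul, Subgroup.coe_inv, hw]
    show Φ.nw (Φ.p c) (1 : Fˣ) * Φ.toAlg.xg (Φ.p c) w * (Φ.nw (Φ.p c) 1)⁻¹ = _
    rw [Φ.nw_conj_xg, mul_inv_cancel_right, Φ.refl_p]
  obtain ⟨s, hs⟩ := hy
  have hσI : σ c ∈ I := by
    rcases hI with rfl | rfl
    · exact (hJ σ (hA.classify hN).1 c).mpr hc
    · exact fun h => hc ((hJ σ (hA.classify hN).1 c).mp h)
  have e := (hN c s).2
  rw [MulEquiv.trans_apply, MulAut.conj_apply] at e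
  have e' : φ (Φ.eg (Φ.p c).rev s) = g⁻¹ * Φ.eg (Φ.p (σ c)).rev (((k c)⁻¹ : Fˣ) * τ c s) * g := by
    rw [← e]; group
  rw [hs, e']
  exact mul_mem (mul_mem (inv_mem hgI) (Φ.eg_rev_mem_pJ p hσI _)) hgI

include Φ in
/-- Two nodes. -/
theorem max2 [IsSimpleGroup ↥(D.group F)] (hnp : ¬ IsPGroup p ↥(D.group F)) (hr : D.rank = 2) :
    Max2 p ↥(D.group F) := by
  haveI : Finite ↥(D.group F) := Subgroup.instFiniteSubtypeMem _
  haveI : Nonempty (Φ.splitData (F := F) p).ι := ⟨(⟨0, by omega⟩ : Fin D.rank)⟩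
  exact max2_of_split (Φ.splitData (F := F) p) (Φ.splitData_X_ne p) (Φ.splitData_rad_ne p) hnp
    (a := (⟨0, by omega⟩ : Fin D.rank)) (b := (⟨1, by omega⟩ : Fin D.rank))
    (show (⟨0, by omega⟩ : Fin D.rank) ≠ ⟨1, by omega⟩ from fun e => absurd (congrArg Fin.val e) Nat.zero_ne_one)
    (show ∀ c : Fin D.rank, c = ⟨0, by omega⟩ ∨ c = ⟨1, by omega⟩ from fun c => by
      rcases c with ⟨c, hc⟩
      simp only [Fin.mk.injEq]
      omega)

/-- The list form of the invariance of a set of nodes. -/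
theorem allowed_inv {A : List (List ℕ × ℕ)} (J : List ℕ) {ex : ℕ} (hex : ex ≠ 0) (hchF : ringChar F ≠ ex)
    (h : (A.all fun L => L.2 == ex ||
      (List.range D.rank).all fun i => J.contains i == J.contains (L.1.getD i 0)) = true)
    (σ : Equiv.Perm (Fin D.rank)) (hσ : Allowed F A σ) (i : Fin D.rank) :
    σ i ∈ {j : Fin D.rank | j.val ∈ J} ↔ i ∈ {j : Fin D.rank | j.val ∈ J} := by
  obtain ⟨L, hL, hperm, hchar⟩ := hσ
  have h1 := List.all_eq_true.mp h L hL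
  rw [Bool.or_eq_true, beq_iff_eq] at h1
  have h2 := h1.resolve_left fun h' => hchar.elim (fun e => hex (h'.symm.trans e)) fun e => hchF (e.trans h')
  have h3 := List.all_eq_true.mp h2 i.val (List.mem_range.mpr i.isLt)
  rw [← hperm, permList_getD, beq_iff_eq] at h3
  show (σ i).val ∈ J ↔ i.val ∈ J
  rw [← List.contains_iff_mem, ← List.contains_iff_mem, h3]

namespace Tw

variable {Φ} {S : Φ.Sym} {T : Tw S F} {G1 : Subgroup (GL D.Idx F)}

theorem rootN_mem_pJ (h : T.Gen G1) (hne : T.Wit) {J : Set (Fin S.m)} {a : Fin S.m} (ha : a ∈ J) {y : ↥G1}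
    (hy : rootN S a y) : y ∈ pJ (h.splitData p hne.ne) J := by
  have hx := (rootN_iff_conj (h.sn_N a) (h.sn_mono a) y).mp hy
  set n := h.sn a with hn
  rw [show y = n * (n⁻¹ * y * n) * n⁻¹ by group]
  exact mul_mem (mul_mem (n_mem_pJ (h.splitData p hne.ne) ha) (U_le_pJ (h.splitData p hne.ne) J (rootP_U hx)))
    (inv_mem (n_mem_pJ (h.splitData p hne.ne) ha))

/-- The nodes with root groups of a given order. -/
theorem Gen.split2 [IsSimpleGroup ↥G1] (h : T.Gen G1) (hne : T.Wit) (hnp : ¬ IsPGroup p ↥G1) {a b : Fin S.m}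
    (hcard : Nat.card {x : ↥G1 // rootP S a x} ≠ Nat.card {x : ↥G1 // rootP S b x}) : Split2 p ↥G1 := by
  haveI : Finite ↥G1 := Subgroup.instFiniteSubtypeMem _
  set D' := h.splitData p hne.ne
  haveI : Nonempty D'.ι := ⟨a⟩
  have hNP : ∀ c : Fin S.m, Nat.card {y : ↥G1 // rootN S c y} = Nat.card {x : ↥G1 // rootP S c x} := fun c =>
    Nat.card_congr
      { toFun := fun y => ⟨(h.sn c)⁻¹ * y.1 * h.sn c, (rootN_iff_conj (h.sn_N c) (h.sn_mono c) _).mp y.2⟩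
        invFun := fun x => ⟨h.sn c * x.1 * (h.sn c)⁻¹, (rootN_iff_conj (h.sn_N c) (h.sn_mono c) _).mpr (by
          simpa [mul_assoc] using x.2)⟩
        left_inv := fun y => Subtype.ext (by group)
        right_inv := fun x => Subtype.ext (by group) }
  refine split2_of_split D' (h.splitData_X_ne p hne.ne) (h.splitData_rad_ne p hne.ne) hnp
    {c : Fin S.m | Nat.card {x : ↥G1 // rootP S c x} = Nat.card {x : ↥G1 // rootP S a x}} (a := a) (b := b)
    rfl (fun e => hcard e.symm) fun φ _ hU I hI c hc x hx => ?_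
  obtain ⟨g, hfix⟩ := h.exists_fix1 hne (p := p) D'.pU D'.idxU φ
  have hgN : g ∈ Subgroup.normalizer (D'.U : Set ↥G1) := by
    rw [Subgroup.mem_normalizer_iff]
    intro y
    obtain ⟨z, rfl⟩ := φ.surjective y
    exact (hU z).trans (hfix.u z).symm
  have hgI : g ∈ pJ D' I := pJ_mono D' (Set.empty_subset I)
    (normalizer_le D' (h.splitData_X_ne p hne.ne) (h.splitData_rad_ne p hne.ne) hnp hgN)
  obtain ⟨d, hd⟩ := hfix.exists_neg1 h hne c
  have hdc : Nat.card {x : ↥G1 // rootP S d x} = Nat.card {x : ↥G1 // rootP S c x} := by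
    rw [← hNP d, ← hNP c]
    exact (Nat.card_congr (Equiv.subtypeEquiv (MulAut.conj g * φ).toEquiv fun z => hd z)).symm
  have hdI : d ∈ I := by
    rcases hI with rfl | rfl
    · exact hdc.trans hc
    · exact fun e => hc (hdc.symm.trans e)
  have hyN : rootN S c ((D'.n c)⁻¹ * x * D'.n c) := by
    rw [rootN_iff_conj (h.sn_N c) (h.sn_mono c)]
    have := D'.HX c ((D'.n c * D'.n c)⁻¹) (inv_mem (D'.sq c)) x hx
    rw [show (h.sn c)⁻¹ * ((D'.n c)⁻¹ * x * D'.n c) * h.sn c =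
      (D'.n c * D'.n c)⁻¹ * x * ((D'.n c * D'.n c)⁻¹)⁻¹ by
        show (h.sn c)⁻¹ * ((h.sn c)⁻¹ * x * h.sn c) * h.sn c = _
        show _ = (h.sn c * h.sn c)⁻¹ * x * ((h.sn c * h.sn c)⁻¹)⁻¹
        simp only [_root_.mul_inv_rev, inv_inv, mul_assoc]]
    exact Subgroup.mem_subgroupOf.mp this
  have h2 := (hd _).mp hyN
  rw [MulAut.mul_apply, MulAut.conj_apply] at h2
  have h3 := rootN_mem_pJ p h hne (J := I) hdI h2
  have h4 := mul_mem (mul_mem (inv_mem hgI) h3) hgI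
  simpa [mul_assoc] using h4

theorem Coord.card_rootP {a : Fin S.m} {R : Type*} [Field R] {X Y : R → ↥G1} (C : Coord S a R X Y) :
    Nat.card {x : ↥G1 // rootP S a x} = Nat.card R :=
  (Nat.card_congr (Equiv.ofBijective (fun t => (⟨X t, (C.memX _).mpr ⟨t, rfl⟩⟩ : {x : ↥G1 // rootP S a x}))
    ⟨fun _ _ e => C.injX (congrArg Subtype.val e), fun x => by
      obtain ⟨t, ht⟩ := (C.memX _).mp x.2
      exact ⟨t, Subtype.ext ht.symm⟩⟩)).symm

end Tw

end CfsgLib.Chev.Chev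

namespace CfsgLib.PMinimalLie

open CfsgLib.Chev CfsgLib.Chev.Chev CfsgLib.LieRigid

variable {p : ℕ} [Fact p.Prime]

/-- The exceptional Chevalley groups. -/
theorem split2_chev {F : Type} [Field F] [Fintype F] [CharP F p] :
    (∀ [IsSimpleGroup ↥(Cfsg.Lie.chevG2.group F)], ¬ IsPGroup p ↥(Cfsg.Lie.chevG2.group F) →
      Split2 p ↥(Cfsg.Lie.chevG2.group F)) ∧
    (∀ [IsSimpleGroup ↥(Cfsg.Lie.chevD4.group F)], ¬ IsPGroup p ↥(Cfsg.Lie.chevD4.group F) →
      Split2 p ↥(Cfsg.Lie.chevD4.group F)) ∧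
    (∀ [IsSimpleGroup ↥(Cfsg.Lie.chevF4.group F)], ¬ IsPGroup p ↥(Cfsg.Lie.chevF4.group F) →
      Split2 p ↥(Cfsg.Lie.chevF4.group F)) ∧
    (∀ [IsSimpleGroup ↥(Cfsg.Lie.chevE6.group F)], ¬ IsPGroup p ↥(Cfsg.Lie.chevE6.group F) →
      Split2 p ↥(Cfsg.Lie.chevE6.group F)) ∧
    (∀ [IsSimpleGroup ↥(Cfsg.Lie.chevE7.group F)], ¬ IsPGroup p ↥(Cfsg.Lie.chevE7.group F) →
      Split2 p ↥(Cfsg.Lie.chevE7.group F)) ∧
    (∀ [IsSimpleGroup ↥(Cfsg.Lie.chevE8.group F)], ¬ IsPGroup p ↥(Cfsg.Lie.chevE8.group F) →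
      Split2 p ↥(Cfsg.Lie.chevE8.group F)) := by
  have hp : ringChar F = p := ringChar.eq F p
  have h1 : p ≠ 1 := (Fact.out : p.Prime).one_lt.ne'
  refine ⟨?_, ?_, ?_, ?_, ?_, ?_⟩ <;> intro _ hnp
  · by_cases h3 : p = 3
    · haveI : Finite ↥(Cfsg.Lie.chevG2.group F) := Subgroup.instFiniteSubtypeMem _
      exact (chevG2.max2 p hnp rfl).split2 (by omega)
    · exact chevG2.split2 p hnp (autType_G2 chevG2 F) {j | j.val ∈ [0]} (a := ⟨0, by decide⟩) (b := ⟨1, by decide⟩)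
        (by simp) (by simp) (allowed_inv [0] (ex := 3) (by norm_num) (fun e => h3 (hp.symm.trans e)) (by decide +kernel))
  · exact chevD4.split2 p hnp (autType_D4 chevD4 F) {j | j.val ∈ [1]} (a := ⟨1, by decide⟩) (b := ⟨0, by decide⟩)
      (by simp) (by simp) (allowed_inv [1] (ex := 1) one_ne_zero (fun e => h1 (hp.symm.trans e)) (by decide +kernel))
  · exact chevF4.split2 p hnp (autType_F4 chevF4 F) {j | j.val ∈ [0, 3]} (a := ⟨0, by decide⟩) (b := ⟨1, by decide⟩)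
      (by simp) (by simp) (allowed_inv [0, 3] (ex := 1) one_ne_zero (fun e => h1 (hp.symm.trans e)) (by decide +kernel))
  · exact chevE6.split2 p hnp (autType_E6 chevE6 F) {j | j.val ∈ [1]} (a := ⟨1, by decide⟩) (b := ⟨0, by decide⟩)
      (by simp) (by simp) (allowed_inv [1] (ex := 1) one_ne_zero (fun e => h1 (hp.symm.trans e)) (by decide +kernel))
  · exact chevE7.split2 p hnp (autType_E7 chevE7 F) {j | j.val ∈ [0]} (a := ⟨0, by decide⟩) (b := ⟨1, by decide⟩)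
      (by simp) (by simp) (allowed_inv [0] (ex := 1) one_ne_zero (fun e => h1 (hp.symm.trans e)) (by decide +kernel))
  · exact chevE8.split2 p hnp (autType_E8 chevE8 F) {j | j.val ∈ [0]} (a := ⟨0, by decide⟩) (b := ⟨1, by decide⟩)
      (by simp) (by simp) (allowed_inv [0] (ex := 1) one_ne_zero (fun e => h1 (hp.symm.trans e)) (by decide +kernel))

end CfsgLib.PMinimalLie
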