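import Cfsg.Agent.Lib.PMinimalLie.Basic
import Cfsg.Agent.Lib.LieRigid.Polar

/-!
Two invariant parabolic subgroups of a group of isometries: the stabilisers of a singular point and
of a singular line through it.
-/

set_option autoImplicit false
set_option linter.unusedSectionVars false

namespace CfsgLib.PMinimalLie

open CfsgLib.LieRigid

/-- A `p`-group of linear maps fixes a vector of a nontrivial section. -/
theorem exists_fixed_mod {F V G : Type*} [Field F] [AddCommGroup V] [Module F V] [Finite V] [Group G]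
    (p : ℕ) [Fact p.Prime] [CharP F p] (ρ : G →* Module.End F V) {Q : Subgroup G} (hQ : IsPGroup p Q)
    {A B : Submodule F V} (hAB : ¬ B ≤ A) (hA : ∀ q ∈ Q, ∀ x ∈ A, ρ q x ∈ A)
    (hB : ∀ q ∈ Q, ∀ x ∈ B, ρ q x ∈ B) : ∃ x ∈ B, x ∉ A ∧ ∀ q ∈ Q, ρ q x - x ∈ A := by
  classical
  set A' : Submodule F B := A.comap B.subtype with hA'
  let L : Q → B →ₗ[F] B := fun q => (ρ q).restrict (hB q q.2)
  have hL : ∀ q, A' ≤ A'.comap (L q) := fun q x hx => hA q q.2 x hx
  letI : MulAction Q (B ⧸ A') :=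
    { smul := fun q => A'.mapQ A' (L q) (hL q)
      one_smul := fun x => by
        obtain ⟨x, rfl⟩ := Submodule.Quotient.mk_surjective A' x
        show A'.mapQ A' (L 1) (hL 1) _ = _
        rw [Submodule.mapQ_apply]
        exact congrArg _ (Subtype.ext (show ρ ((1 : Q) : G) x = x by rw [OneMemClass.coe_one, map_one]; rfl))
      mul_smul := fun q r x => by
        obtain ⟨x, rfl⟩ := Submodule.Quotient.mk_surjective A' x
        show A'.mapQ A' (L (q * r)) (hL _) _ = A'.mapQ A' (L q) (hL q) (A'.mapQ A' (L r) (hL r) _)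
        rw [Submodule.mapQ_apply, Submodule.mapQ_apply, Submodule.mapQ_apply]
        exact congrArg _ (Subtype.ext (show ρ ((q * r : Q) : G) x = ρ q (ρ r x) by
          rw [Subgroup.coe_mul, map_mul]; rfl)) }
  haveI : Finite B := Subtype.finite
  haveI : Finite (B ⧸ A') := Finite.of_surjective _ (Submodule.Quotient.mk_surjective A')
  obtain ⟨x₀, hx₀, hx₀'⟩ := SetLike.not_le_iff_exists.mp hAB
  set v : B ⧸ A' := Submodule.Quotient.mk ⟨x₀, hx₀⟩ with hv
  have hv0 : v ≠ 0 := fun h => hx₀' ((Submodule.Quotient.mk_eq_zero A').mp h)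
  have hdvd : p ∣ Nat.card (B ⧸ A') := by
    have hpv : p • v = 0 := by rw [← Nat.cast_smul_eq_nsmul F, CharP.cast_eq_zero, zero_smul]
    rw [← addOrderOf_eq_prime hpv hv0]
    exact addOrderOf_dvd_natCard v
  have h0 : (0 : B ⧸ A') ∈ MulAction.fixedPoints Q (B ⧸ A') := fun q => map_zero (A'.mapQ A' (L q) (hL q))
  obtain ⟨w, hw, hw0⟩ := hQ.exists_fixed_point_of_prime_dvd_card_of_fixed_point (B ⧸ A') hdvd h0
  obtain ⟨⟨x, hx⟩, rfl⟩ := Submodule.Quotient.mk_surjective A' w
  refine ⟨x, hx, fun h => hw0 ((Submodule.Quotient.mk_eq_zero A').mpr h).symm, fun q hq => ?_⟩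
  have h : A'.mapQ A' (L ⟨q, hq⟩) (hL _) (Submodule.Quotient.mk ⟨x, hx⟩) = Submodule.Quotient.mk ⟨x, hx⟩ :=
    hw ⟨q, hq⟩
  rw [Submodule.mapQ_apply, Submodule.Quotient.eq] at h
  exact h

variable {F V G W : Type*} [Field F] [AddCommGroup V] [Module F V] [Group G] [Group W]
  (S : SGeo F V G W)

/-- The stabiliser of a subspace. -/
def stab (L : Submodule F V) : Subgroup G where
  carrier := {g | ∀ x, x ∈ L ↔ S.act g x ∈ L}
  one_mem' := fun x => by rw [S.act_one]
  mul_mem' := fun {a b} ha hb x => by rw [S.act_mul, ← ha, ← hb]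
  inv_mem' := fun {a} ha x => by rw [ha (S.act a⁻¹ x), S.act_act_inv]

theorem mem_stab_of_le [Finite V] {L : Submodule F V} {g : G} (h : ∀ x ∈ L, S.act g x ∈ L) :
    g ∈ stab S L := by
  intro x
  refine ⟨h x, fun hx => ?_⟩
  have hinj : Function.Injective fun y : L => (⟨S.act g y, h y y.2⟩ : L) := fun y z e => by
    have := congrArg (fun y : L => S.act g⁻¹ (y : V)) e
    simpa [S.act_inv_act] using this
  obtain ⟨y, hy⟩ := Finite.surjective_of_injective hinj ⟨_, hx⟩
  have := congrArg (fun y : L => S.act g⁻¹ (y : V)) hy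
  simp [S.act_inv_act] at this
  exact this ▸ y.2

theorem mem_stab_span [Finite V] {g : G} {s : Set V} (h : ∀ x ∈ s, S.act g x ∈ Submodule.span F s) :
    g ∈ stab S (Submodule.span F s) :=
  mem_stab_of_le S fun _ hx => (Submodule.span_le.mpr h : Submodule.span F s ≤
    (Submodule.span F s).comap (S.act g)) hx

/-- Its image. -/
def stabW (L : Submodule F V) : Subgroup W := (stab S L).map S.pr

theorem mem_stabW {L : Submodule F V} {g : G} : S.pr g ∈ stabW S L ↔ g ∈ stab S L := by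
  refine ⟨?_, fun h => ⟨g, h, rfl⟩⟩
  rintro ⟨k, hk, e⟩
  obtain ⟨c, hc⟩ := S.ker (g * k⁻¹) (by rw [map_mul, map_inv, e, mul_inv_cancel])
  have hgk : ∀ x, S.act g x = c • S.act k x := fun x => by
    rw [← hc, ← S.act_mul, inv_mul_cancel_right]
  intro x
  rw [hgk, hk x]
  refine ⟨fun h => L.smul_mem c h, fun h => ?_⟩
  by_cases hc0 : c = 0
  · have h0 := hgk x
    rw [hc0, zero_smul] at h0
    have hx : x = 0 := by rw [← S.act_inv_act g x, h0, map_zero]
    rw [hx, map_zero]
    exact zero_mem L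
  · exact (Submodule.smul_mem_iff L hc0).mp h

/-- Elements fixing a vector, a second one modulo it, and the perpendicular space of both modulo their
span. -/
def unip (e a : V) : Subgroup G where
  carrier := {g | S.act g e = e ∧ S.act g a - a ∈ Submodule.span F ({e} : Set V) ∧
    ∀ x, S.P.h x e = 0 → S.P.h x a = 0 → S.act g x - x ∈ Submodule.span F ({e, a} : Set V)}
  one_mem' := ⟨S.act_one e, by simp, fun x _ _ => by simp⟩
  mul_mem' := fun {g k} hg hk => by
    obtain ⟨c, hc⟩ := Submodule.mem_span_singleton.mp hk.2.1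
    have hle : Submodule.span F ({e, a} : Set V) ≤ (Submodule.span F ({e, a} : Set V)).comap (S.act g) := by
      rw [Submodule.span_le]
      intro y hy
      rw [SetLike.mem_coe, Submodule.mem_comap]
      rcases hy with h | h <;> rw [h]
      · rw [hg.1]
        exact Submodule.subset_span (Or.inl rfl)
      · have h' := Submodule.span_mono (s := ({e} : Set V)) (t := {e, a}) (by simp) hg.2.1
        simpa using add_mem h' (Submodule.subset_span (Or.inr rfl : a ∈ ({e, a} : Set V)))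
    refine ⟨by rw [S.act_mul, hk.1, hg.1], ?_, fun x hxe hxa => ?_⟩
    · rw [S.act_mul, show S.act k a = a + c • e by rw [hc]; abel, map_add, map_smul, hg.1]
      have := add_mem hg.2.1 (Submodule.smul_mem _ c (Submodule.mem_span_singleton_self e))
      rwa [sub_add_eq_add_sub] at this
    · rw [S.act_mul, show S.act g (S.act k x) - x = S.act g (S.act k x - x) + (S.act g x - x) by
        rw [map_sub]; abel]
      exact add_mem (hle (hk.2.2 x hxe hxa)) (hg.2.2 x hxe hxa)
  inv_mem' := fun {g} hg => by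
    have he : S.act g⁻¹ e = e := by conv_lhs => rw [← hg.1, S.act_inv_act]
    obtain ⟨c, hc⟩ := Submodule.mem_span_singleton.mp hg.2.1
    have ha : S.act g⁻¹ a = a - c • e := by
      have h := S.act_inv_act g a
      rw [show S.act g a = a + c • e by rw [hc]; abel, map_add, map_smul, he] at h
      linear_combination (norm := module) h
    refine ⟨he, ?_, fun x hxe hxa => ?_⟩
    · rw [ha]
      exact Submodule.mem_span_singleton.mpr ⟨-c, by rw [neg_smul]; abel⟩
    · have h1 : S.P.h (S.act g⁻¹ x) e = 0 := by rw [← he, S.isom, hxe]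
      have h2 : S.P.h (S.act g⁻¹ x) a = 0 := by
        rw [← S.isom g, S.act_act_inv, show S.act g a = a + c • e by rw [hc]; abel, S.P.add_right,
          S.P.smul_right, hxe, hxa, mul_zero, add_zero]
      have h := hg.2.2 _ h1 h2
      rw [S.act_act_inv] at h
      rw [← neg_sub]
      exact neg_mem h

theorem rad_le_unip {e a : V} (hae : S.P.h a e = 0) : S.rad e ≤ unip S e a := fun _ hg =>
  ⟨hg.1, hg.2 a hae, fun x hxe _ => Submodule.span_mono (by simp) (hg.2 x hxe)⟩

variable [Finite F] [Finite V] (p : ℕ) [Fact p.Prime] [CharP F p]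

theorem unip_isPGroup (e a : V) : IsPGroup p (unip S e a) := by
  rintro ⟨g, hg1, hg2, hg3⟩
  refine ⟨3, Subtype.ext ?_⟩
  show g ^ (p ^ 3) = 1
  obtain ⟨c, hc⟩ := Submodule.mem_span_singleton.mp hg2
  have hga : S.act g a = a + c • e := by rw [hc]; abel
  set D : Module.End F V := S.act g - 1 with hD
  have hDx : ∀ x, D x = S.act g x - x := fun x => rfl
  have he : D e = 0 := by rw [hDx, hg1, sub_self]
  have h1 : ∀ v, S.P.h (D v) e = 0 := fun v => by
    rw [hDx, S.P.sub_left]
    nth_rw 1 [← hg1]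
    rw [S.isom, sub_self]
  have h2 : ∀ v, S.P.h v e = 0 → S.P.h (D v) a = 0 := fun v hv => by
    have h := S.isom g v a
    have hge : S.P.h (S.act g v) e = 0 := by rw [← hg1, S.isom, hv]
    rw [hga, S.P.add_right, S.P.smul_right, hge, mul_zero, add_zero] at h
    rw [hDx, S.P.sub_left, h, sub_self]
  have h5 : D ^ 5 = 0 := by
    refine LinearMap.ext fun v => ?_
    have h3 := hg3 (D (D v)) (h1 _) (h2 _ (h1 v))
    rw [← hDx] at h3
    obtain ⟨α, β, hαβ⟩ := Submodule.mem_span_pair.mp h3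
    show D (D (D (D (D v)))) = 0
    rw [← hαβ]
    simp only [map_add, map_smul, he, smul_zero, zero_add]
    rw [hDx a, hga, add_sub_cancel_left, map_smul, he, smul_zero, smul_zero]
  have hp3 : 5 ≤ p ^ 3 := le_trans (by norm_num) (Nat.pow_le_pow_left (Fact.out : p.Prime).two_le 3)
  haveI : CharP (Module.End F V) p ∨ Subsingleton V := by
    rcases subsingleton_or_nontrivial V with h | h
    · exact Or.inr h
    · exact Or.inl (charP_of_injective_algebraMap' F p)
  rcases this with h | h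
  · refine S.act_inj ?_
    rw [map_pow, map_one, show S.act g = 1 + D by rw [hD]; abel, add_pow_char_pow_of_commute p 3 (Commute.one_left D),
      one_pow, pow_eq_zero_of_le hp3 h5, add_zero]
  · exact S.ext fun x => Subsingleton.elim _ _

/-- Vectors fixed by the radical of a point. -/
theorem mem_span_of_fixed {e f : V} (H : S.P.Hyp e f) {x : V} (hfix : ∀ g ∈ S.rad e, S.act g x = x) :
    x ∈ Submodule.span F ({e} : Set V) := by
  have hxe : S.P.h x e = 0 := by
    obtain ⟨a, s, ha1, ha2, hv, hs⟩ := S.P.q0 H.1 H.2.1 H.2.2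
    obtain ⟨g, hg⟩ := S.root H ⟨ha1, ha2⟩ hv
    have h1 := hfix g (S.mem_rad H ⟨ha1, ha2⟩ hg)
    rw [hg, SForm.uMap_apply] at h1
    have h2 : (S.P.ε * S.P.h x e) • (a + s • e) - S.P.h x a • e = 0 := by
      linear_combination (norm := module) h1
    by_cases ha : a = 0
    · subst ha
      rw [zero_add, S.P.zero_right, zero_smul, sub_zero, smul_smul, smul_eq_zero,
        or_iff_left H.ne_left] at h2
      simpa [S.P.ε_ne, hs] using h2
    · obtain ⟨b, hb, hab⟩ := H.perp_ne ⟨ha1, ha2⟩ ha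
      have h3 := congrArg (fun t => S.P.h t b) h2
      simp [S.P.sub_left, S.P.add_left, S.P.smul_left, hab, S.P.perp_comm hb.1, S.P.ε_ne,
        S.P.zero_left] at h3
      exact h3
  obtain ⟨hp, hd⟩ := H.decomp x
  simp only [hxe, mul_zero, zero_smul, add_zero, sub_zero] at hd hp
  refine Submodule.mem_span_singleton.mpr ⟨S.P.h x f, ?_⟩
  conv_rhs => rw [hd]
  rw [left_eq_add]
  refine H.eq_zero hp fun b hb => ?_
  obtain ⟨s, hs⟩ := S.P.exists_val b
  obtain ⟨g, hg⟩ := S.root H hb hs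
  have h1 := hfix g (S.mem_rad H hb hg)
  rw [hg, SForm.uMap_perp s hxe, sub_eq_self, smul_eq_zero, or_iff_left H.ne_left] at h1
  rw [S.P.sub_left, S.P.smul_left, h1, S.P.perp_comm hb.1]
  simp

/-- The root elements of the second vector lie in the group of the flag. -/
theorem root_mem_unip {e a c : V} {s : F} (hea : S.P.h e a = 0) (hec : S.P.h e c = 0)
    (haa : S.P.h a a = 0) (hac : S.P.h a c = 0) {g : G} (hg : S.act g = S.P.uMap a c s) :
    g ∈ unip S e a := by
  refine ⟨?_, ?_, fun x hxe hxa => ?_⟩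
  · rw [hg, SForm.uMap_perp s hea, hec, zero_smul, sub_zero]
  · rw [hg, SForm.uMap_perp s haa, hac, zero_smul, sub_zero, sub_self]
    exact zero_mem _
  · rw [hg, SForm.uMap_perp s hxa, sub_sub_cancel_left]
    exact neg_mem (Submodule.smul_mem _ _ (Submodule.subset_span (Or.inr rfl)))

/-- Vectors perpendicular to the point and fixed modulo it by the group of the flag. -/
theorem mem_span_pair_of_fixed {e f a b : V} (H : S.P.Hyp e f) (K : S.P.Hyp a b) (hae : S.P.h a e = 0)
    (haf : S.P.h a f = 0) (hbe : S.P.h b e = 0) (hbf : S.P.h b f = 0)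
    (hq : ∃ c s, S.P.h c e = 0 ∧ S.P.h c f = 0 ∧ S.P.h c a = 0 ∧ S.P.h c b = 0 ∧ S.P.Val c s ∧ s ≠ 0)
    {x : V} (hxe : S.P.h x e = 0)
    (hfix : ∀ g ∈ unip S e a, S.act g x - x ∈ Submodule.span F ({e} : Set V)) :
    x ∈ Submodule.span F ({e, a} : Set V) := by
  have key : ∀ c s, S.P.h c e = 0 → S.P.h c a = 0 → S.P.h c b = 0 → S.P.Val c s →
      (S.P.ε * S.P.h x a) • (c + s • a) - S.P.h x c • a ∈ Submodule.span F ({e} : Set V) := by
    intro c s hce hca hcb hv
    obtain ⟨g, hg⟩ := S.root K ⟨hca, hcb⟩ hv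
    have h := hfix g (root_mem_unip S (S.P.perp_comm hae) (S.P.perp_comm hce) (S.P.sing_h K.1)
      (S.P.perp_comm hca) hg)
    rw [hg, SForm.uMap_apply] at h
    rwa [add_sub_assoc, add_sub_cancel_left] at h
  have hea : S.P.h e a = 0 := S.P.perp_comm hae
  have hfa : S.P.h f a = 0 := S.P.perp_comm haf
  have hxa : S.P.h x a = 0 := by
    obtain ⟨c, s, hce, hcf, hca, hcb, hv, hs⟩ := hq
    obtain ⟨d, hd⟩ := Submodule.mem_span_singleton.mp (key c s hce hca hcb hv)
    by_contra hne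
    have h1 := congrArg (fun t => S.P.h t f) hd
    simp [S.P.sub_left, S.P.add_left, S.P.smul_left, H.2.2, hcf, haf] at h1
    rw [h1, zero_smul, eq_comm, sub_eq_zero] at hd
    have h2 := congrArg (fun t => S.P.h t b) hd
    simp [S.P.add_left, S.P.smul_left, K.2.2, hcb] at h2
    have h3 : c = 0 := by
      have hz : (S.P.ε * S.P.h x a) • c = 0 := by
        rw [smul_add, smul_smul, ← h2] at hd
        exact add_right_cancel (hd.trans (zero_add _).symm)
      exact (smul_eq_zero.mp hz).resolve_left (mul_ne_zero S.P.ε_ne hne)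
    rw [h3, S.P.zero_right] at h2
    exact mul_ne_zero (mul_ne_zero S.P.ε_ne hne) hs h2
  refine Submodule.mem_span_pair.mpr ⟨S.P.h x f, S.P.h x b, ?_⟩
  set y := x - S.P.h x f • e - S.P.h x b • a with hy
  suffices hy0 : y = 0 by rw [hy, sub_sub, sub_eq_zero] at hy0; exact hy0.symm
  have hye : S.P.h y e = 0 := by simp [hy, S.P.sub_left, S.P.smul_left, hxe, S.P.sing_h H.1, hae]
  have hyf : S.P.h y f = 0 := by simp [hy, S.P.sub_left, S.P.smul_left, H.2.2, haf]
  have hya : S.P.h y a = 0 := by simp [hy, S.P.sub_left, S.P.smul_left, hxa, S.P.sing_h K.1, hea]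
  have hyb : S.P.h y b = 0 := by simp [hy, S.P.sub_left, S.P.smul_left, K.2.2, S.P.perp_comm hbe]
  refine K.eq_zero ⟨hya, hyb⟩ fun z hz => ?_
  obtain ⟨hc, hd⟩ := H.decomp z
  set c := z - S.P.h z f • e - (S.P.ε * S.P.h z e) • f with hcdef
  have hca : S.P.h c a = 0 := by simp [hcdef, S.P.sub_left, S.P.smul_left, hz.1, hea, hfa]
  have hcb : S.P.h c b = 0 := by
    simp [hcdef, S.P.sub_left, S.P.smul_left, hz.2, S.P.perp_comm hbe, S.P.perp_comm hbf]
  obtain ⟨s, hs⟩ := S.P.exists_val c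
  have h := key c s hc.1 hca hcb hs
  rw [hxa, mul_zero, zero_smul, zero_sub, Submodule.mem_span_singleton] at h
  obtain ⟨d, hd'⟩ := h
  have h1 := congrArg (fun t => S.P.h t b) hd'
  simp [S.P.neg_left, S.P.smul_left, K.2.2, S.P.perp_comm hbe] at h1
  rw [hd, S.P.add_right, S.P.add_right, S.P.smul_right, S.P.smul_right, hye, hyf, mul_zero, mul_zero,
    zero_add, zero_add, hy, S.P.sub_left, S.P.sub_left, S.P.smul_left, S.P.smul_left, S.P.perp_comm hc.1,
    S.P.perp_comm hca]
  simp [h1]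

variable [IsSimpleGroup W]

/-- An overgroup of the radical of a point moving it to a non-perpendicular one is everything. -/
theorem eq_top_of_moved {e f : V} (H : S.P.Hyp e f) {M : Subgroup W} (hM : S.R e ≤ M) {g : G}
    (hg : S.pr g ∈ M) (hne : S.P.h (S.act g e) e ≠ 0) : M = ⊤ := by
  have K := SForm.Hyp.of_ne (S.sing_act g H.1) H.1 hne
  rw [eq_top_iff, ← S.sup_eq_top K, S.R_smul ((map_ne_zero S.P.τ).mpr (inv_ne_zero hne))]
  refine sup_le (fun y hy => ?_) hM
  rw [S.R_act, mem_cj] at hy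
  have := mul_mem (mul_mem hg (hM hy)) (inv_mem hg)
  simpa [mul_assoc] using this

variable [Finite W]

/-- Two parabolic subgroups, for two orthogonal pairs. -/
theorem split2_quad {e f a b : V} (H : S.P.Hyp e f) (K : S.P.Hyp a b) (hae : S.P.h a e = 0)
    (haf : S.P.h a f = 0) (hbe : S.P.h b e = 0) (hbf : S.P.h b f = 0)
    (hq : ∃ c s, S.P.h c e = 0 ∧ S.P.h c f = 0 ∧ S.P.h c a = 0 ∧ S.P.h c b = 0 ∧ S.P.Val c s ∧ s ≠ 0)
    (hT : ∀ φ : MulAut W, ∃ (T : V → V) (σ : F ≃+* F), (∀ x y, T (x + y) = T x + T y) ∧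
      (∀ (c : F) x, T (c • x) = σ c • T x) ∧ Function.Injective T ∧
      (∀ x y, S.P.h x y = 0 → S.P.h (T x) (T y) = 0) ∧
      ∀ g k, φ (S.pr g) = S.pr k → ∃ c : F, ∀ x, S.act k (T x) = c • T (S.act g x)) :
    Split2 p W := by
  classical
  haveI : Finite G := Finite.of_injective (fun g => (S.act g : V → V))
    fun g k h => S.act_inj (DFunLike.coe_injective h)
  have he0 : e ≠ 0 := H.ne_left
  have hea : S.P.h e a = 0 := S.P.perp_comm hae
  have heb : S.P.h e b = 0 := S.P.perp_comm hbe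
  set L1 : Submodule F V := Submodule.span F {e} with hL1
  set L2 : Submodule F V := Submodule.span F {e, a} with hL2
  have haL : a ∉ L1 := fun h => by
    obtain ⟨d, hd⟩ := Submodule.mem_span_singleton.mp h
    have := congrArg (fun t => S.P.h t b) hd
    simp [S.P.smul_left, heb, K.2.2] at this
  -- the Sylow subgroup and its fixed flag
  obtain ⟨Q, hQle⟩ := (unip_isPGroup S p e a).exists_le_sylow
  have hrad : S.rad e ≤ (Q : Subgroup G) := (rad_le_unip S hae).trans hQle
  have hQe : ∀ q ∈ (Q : Subgroup G), S.act q e = e := by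
    have htop : ¬ (⊤ : Submodule F V) ≤ ⊥ := fun h => he0 (h Submodule.mem_top)
    obtain ⟨x, -, hx, hfix⟩ := exists_fixed_mod p S.act Q.isPGroup' htop
      (fun q _ x hx => by rw [(Submodule.mem_bot F).mp hx, map_zero]; exact zero_mem _)
      (fun _ _ _ _ => Submodule.mem_top)
    have hfix' : ∀ q ∈ (Q : Subgroup G), S.act q x = x := fun q hq => sub_eq_zero.mp (hfix q hq)
    obtain ⟨d, rfl⟩ := Submodule.mem_span_singleton.mp
      (mem_span_of_fixed S H (x := x) fun g hg => hfix' g (hrad hg))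
    have hd : d ≠ 0 := fun h => hx (by rw [h, zero_smul]; exact zero_mem _)
    intro q hq
    have := hfix' q hq
    rw [map_smul] at this
    exact smul_right_injective V hd this
  let E : Submodule F V :=
    { carrier := {x | S.P.h x e = 0}
      zero_mem' := S.P.zero_left e
      add_mem' := fun {x y} hx hy => by
        show S.P.h (x + y) e = 0
        rw [S.P.add_left, show S.P.h x e = 0 from hx, show S.P.h y e = 0 from hy, add_zero]
      smul_mem' := fun c x hx => by
        show S.P.h (c • x) e = 0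
        rw [S.P.smul_left, show S.P.h x e = 0 from hx, mul_zero] }
  have hQa : ∀ q ∈ (Q : Subgroup G), S.act q a - a ∈ L1 := by
    have hEL : ¬ E ≤ L1 := fun h => haL (h hae)
    obtain ⟨x, hxE, hxL, hfix⟩ := exists_fixed_mod p S.act Q.isPGroup' hEL
      (fun q hq x hx => by
        obtain ⟨d, rfl⟩ := Submodule.mem_span_singleton.mp hx
        rw [map_smul, hQe q hq]
        exact Submodule.smul_mem _ _ (Submodule.mem_span_singleton_self e))
      (fun q hq x hx => by
        show S.P.h (S.act q x) e = 0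
        rw [← hQe q hq, S.isom]
        exact hx)
    obtain ⟨α, β, rfl⟩ := Submodule.mem_span_pair.mp
      (mem_span_pair_of_fixed S H K hae haf hbe hbf hq hxE fun g hg => hfix g (hQle hg))
    have hβ : β ≠ 0 := fun h => hxL (by
      rw [h, zero_smul, add_zero]; exact Submodule.smul_mem _ _ (Submodule.mem_span_singleton_self e))
    intro q hq
    have h := hfix q hq
    rw [map_add, map_smul, map_smul, hQe q hq, add_sub_add_left_eq_sub, ← smul_sub] at h
    exact (Submodule.smul_mem_iff _ hβ).mp h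
  set U : Sylow p W := Q.mapSurjective (f := S.pr) S.surj with hU
  have hUmem : ∀ {w}, w ∈ (U : Subgroup W) ↔ ∃ q ∈ (Q : Subgroup G), S.pr q = w := by
    intro w; rw [hU, Sylow.coe_mapSurjective]; exact Subgroup.mem_map
  have hQ1 : ∀ q ∈ (Q : Subgroup G), q ∈ stab S L1 := fun q hq => mem_stab_span S (by
    intro x hx
    rw [Set.mem_singleton_iff.mp hx, hQe q hq]
    exact Submodule.mem_span_singleton_self e)
  have hQ2 : ∀ q ∈ (Q : Subgroup G), q ∈ stab S L2 := fun q hq => mem_stab_span S (by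
    intro x hx
    rcases hx with h | h <;> rw [h]
    · rw [hQe q hq]
      exact Submodule.subset_span (Or.inl rfl)
    · have h' := Submodule.span_mono (s := ({e} : Set V)) (t := {e, a}) (by simp) (hQa q hq)
      simpa using add_mem h' (Submodule.subset_span (Or.inr rfl : a ∈ ({e, a} : Set V))))
  -- the element moving the point along the line
  obtain ⟨g, hg⟩ := S.root K ⟨S.P.perp_comm haf, S.P.perp_comm hbf⟩ (S.P.val_of_sing H.2.1)
  have hge : S.act g e = e - a := by
    rw [hg, SForm.uMap_perp 0 hea, H.2.2, one_smul]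
  have hga : S.act g a = a := by
    rw [hg, SForm.uMap_perp 0 (S.P.sing_h K.1), haf, zero_smul, sub_zero]
  have hg2 : g ∈ stab S L2 := mem_stab_span S (by
    intro x hx
    rcases hx with h | h <;> rw [h]
    · rw [hge]
      exact sub_mem (Submodule.subset_span (Or.inl rfl)) (Submodule.subset_span (Or.inr rfl))
    · rw [hga]
      exact Submodule.subset_span (Or.inr rfl))
  -- the element moving the line around the point
  obtain ⟨c, s, hce, hcf, hca, hcb, hv, hs⟩ := hq
  obtain ⟨k, hk⟩ := S.root K.rev ⟨hcb, by rw [S.P.smul_right, hca, mul_zero]⟩ hv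
  have hke : S.act k e = e := by
    rw [hk, SForm.uMap_perp s heb, S.P.perp_comm hce, zero_smul, sub_zero]
  have hka : S.P.h (S.act k a) a ≠ 0 := by
    rw [hk, SForm.uMap_apply, S.P.perp_comm hca, zero_smul, sub_zero, K.2.2]
    simp [S.P.add_left, S.P.smul_left, S.P.sing_h K.1, hca, K.fe, S.P.ε_ne, hs]
  have hk1 : k ∈ stab S L1 := mem_stab_span S (by
    intro x hx
    rw [Set.mem_singleton_iff.mp hx, hke]
    exact Submodule.mem_span_singleton_self e)
  have hsup : ∀ M : Subgroup W, S.R e ≤ M → S.pr g ∈ M → S.pr k ∈ M → M = ⊤ := by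
    intro M hM hgM hkM
    refine eq_top_of_moved S H hM (g := g⁻¹ * (k * g)) (by
      rw [map_mul, map_mul, map_inv]; exact mul_mem (inv_mem hgM) (mul_mem hkM hgM)) ?_
    rw [S.act_mul, ← S.isom g, S.act_act_inv, S.act_mul, hge, map_sub, hke]
    have hka' : S.P.h (S.act k a) e = 0 := by rw [← hke, S.isom, hae]
    simp [S.P.sub_left, S.P.sub_right, S.P.sing_h H.1, hea, hka', hka]
  have hUle : ∀ L, (∀ q ∈ (Q : Subgroup G), q ∈ stab S L) → (U : Subgroup W) ≤ stabW S L := by
    intro L hL w hw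
    obtain ⟨q, hq, rfl⟩ := hUmem.mp hw
    exact ⟨q, hL q hq, rfl⟩
  refine ⟨U, stabW S L1, stabW S L2, hUle _ hQ1, hUle _ hQ2, fun h => ?_, fun h => ?_, ?_, fun φ _ hφU => ?_⟩
  · have hg1 : g ∈ stab S L1 := (mem_stabW S).mp (h ▸ Subgroup.mem_top _)
    have h1 := (hg1 e).mp (Submodule.mem_span_singleton_self e)
    rw [hge] at h1
    exact haL (by simpa using sub_mem (Submodule.mem_span_singleton_self e) h1)
  · have hk2 : k ∈ stab S L2 := (mem_stabW S).mp (h ▸ Subgroup.mem_top _)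
    obtain ⟨α, β, hαβ⟩ := Submodule.mem_span_pair.mp ((hk2 a).mp (Submodule.subset_span (Or.inr rfl)))
    apply hka
    rw [← hαβ]
    simp [S.P.add_left, S.P.smul_left, hea, S.P.sing_h K.1]
  · refine hsup _ ?_ (Subgroup.mem_sup_right ⟨g, hg2, rfl⟩) (Subgroup.mem_sup_left ⟨k, hk1, rfl⟩)
    exact fun w hw => Subgroup.mem_sup_left (hUle _ hQ1 (hUmem.mpr ⟨_, hrad hw.choose_spec.1, hw.choose_spec.2⟩))
  obtain ⟨T, σ, Tadd, Tsmul, Tinj, Tperp, Tequiv⟩ := hT φ
  have T0 : T 0 = 0 := by have := Tsmul 0 0; rwa [zero_smul, map_zero, zero_smul] at this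
  have hTne : ∀ x, x ≠ 0 → T x ≠ 0 := fun x hx h => hx (Tinj (h.trans T0.symm))
  -- every element of `Q` acts on the image of the point by a scalar
  have hback : ∀ q ∈ (Q : Subgroup G), ∃ q₀ ∈ (Q : Subgroup G), ∃ d : F, ∀ x,
      S.act q (T x) = d • T (S.act q₀ x) := by
    intro q hq
    have h1 : φ.symm (S.pr q) ∈ (U : Subgroup W) :=
      (hφU _).mp (by rw [MulEquiv.apply_symm_apply]; exact hUmem.mpr ⟨q, hq, rfl⟩)
    obtain ⟨q₀, hq₀, e₀⟩ := hUmem.mp h1
    exact ⟨q₀, hq₀, Tequiv q₀ q (by rw [e₀, MulEquiv.apply_symm_apply])⟩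
  have hTe : T e ∈ L1 := by
    refine mem_span_of_fixed S H fun q hq => ?_
    obtain ⟨q₀, hq₀, d, hd⟩ := hback q (hrad hq)
    have h1 := hd e
    rw [hQe q₀ hq₀] at h1
    have hpow : ∀ i : ℕ, S.act (q ^ i) (T e) = d ^ i • T e := by
      intro i
      induction i with
      | zero => simp [S.act_one]
      | succ i ih => rw [pow_succ', S.act_mul, ih, map_smul, h1, smul_smul, ← pow_succ]
    obtain ⟨i, hi⟩ := Q.isPGroup' ⟨q, hrad hq⟩
    have h2 := hpow (p ^ i)
    rw [show q ^ (p ^ i) = 1 from congrArg Subtype.val hi, S.act_one] at h2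
    have h3 : d ^ p ^ i = 1 := smul_left_injective F (hTne e he0) (h2.symm.trans (one_smul F _).symm)
    have h4 : d = 1 := iterateFrobenius_inj F p i (by simp [iterateFrobenius_def, h3])
    rw [h1, h4, one_smul]
  obtain ⟨l, hl⟩ := Submodule.mem_span_singleton.mp hTe
  have hl0 : l ≠ 0 := fun h => hTne e he0 (by rw [← hl, h, zero_smul])
  have hL1T : ∀ x ∈ L1, T x ∈ L1 := fun x hx => by
    obtain ⟨d, rfl⟩ := Submodule.mem_span_singleton.mp hx
    rw [Tsmul]
    exact Submodule.smul_mem _ _ hTe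
  have hTaE : S.P.h (T a) e = 0 := by
    have := Tperp a e hae
    rw [← hl, S.P.smul_right, mul_eq_zero] at this
    exact this.resolve_left ((map_ne_zero S.P.τ).mpr hl0)
  have hTa : T a ∈ L2 := by
    refine mem_span_pair_of_fixed S H K hae haf hbe hbf ⟨c, s, hce, hcf, hca, hcb, hv, hs⟩ hTaE fun q hq => ?_
    obtain ⟨q₀, hq₀, d, hd⟩ := hback q (hQle hq)
    have h1 := hd e
    rw [hQe q₀ hq₀, ← hl, map_smul, hQe q (hQle hq), hl] at h1
    have hd1 : d = 1 := smul_left_injective F (hTne e he0) (h1.symm.trans (one_smul F _).symm)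
    rw [hd, hd1, one_smul, show S.act q₀ a = (S.act q₀ a - a) + a by abel, Tadd, add_sub_cancel_right]
    exact hL1T _ (hQa q₀ hq₀)
  -- the two images span the flag
  have hL1inv : ∀ y ∈ L1, ∃ x ∈ L1, T x = y := fun y hy => by
    obtain ⟨d, rfl⟩ := Submodule.mem_span_singleton.mp hy
    exact ⟨σ.symm (d * l⁻¹) • e, Submodule.smul_mem _ _ (Submodule.mem_span_singleton_self e), by
      rw [Tsmul, RingEquiv.apply_symm_apply, ← hl, smul_smul, inv_mul_cancel_right₀ hl0]⟩
  obtain ⟨μ, ν, hμν⟩ := Submodule.mem_span_pair.mp hTa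
  have hν : ν ≠ 0 := fun h => by
    obtain ⟨x, hx, ex⟩ := hL1inv (T a) (by
      rw [← hμν, h, zero_smul, add_zero]; exact Submodule.smul_mem _ _ (Submodule.mem_span_singleton_self e))
    exact haL (Tinj ex ▸ hx)
  have hL2T : ∀ x ∈ L2, T x ∈ L2 := fun x hx => by
    obtain ⟨α, β, rfl⟩ := Submodule.mem_span_pair.mp hx
    rw [Tadd, Tsmul, Tsmul]
    exact add_mem (Submodule.smul_mem _ _ (Submodule.span_mono (by simp) hTe)) (Submodule.smul_mem _ _ hTa)
  have hgen : ∀ L, (∀ x ∈ L, T x ∈ L) → (∀ y ∈ L, ∃ x ∈ L, T x = y) →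
      ∀ w, φ w ∈ stabW S L ↔ w ∈ stabW S L := by
    intro L hLT hLs
    have hle : (stabW S L).map φ.toMonoidHom ≤ stabW S L := by
      rintro _ ⟨_, ⟨m, hm, rfl⟩, rfl⟩
      obtain ⟨n, hn⟩ := S.surj (φ (S.pr m))
      show φ (S.pr m) ∈ stabW S L
      rw [← hn, mem_stabW]
      obtain ⟨d, hd⟩ := Tequiv m n hn.symm
      refine mem_stab_of_le S fun y hy => ?_
      obtain ⟨x, hx, rfl⟩ := hLs y hy
      rw [hd]
      exact Submodule.smul_mem _ _ (hLT _ ((hm x).mp hx))
    intro w
    have e' : (stabW S L).map φ.toMonoidHom = stabW S L := Subgroup.eq_of_le_of_card_ge hle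
      (Subgroup.card_map_of_injective φ.injective).ge
    conv_lhs => rw [← e']
    exact Subgroup.mem_map_iff_mem φ.injective
  refine ⟨hgen L1 hL1T hL1inv, hgen L2 hL2T fun y hy => ?_⟩
  obtain ⟨α, β, rfl⟩ := Submodule.mem_span_pair.mp hy
  obtain ⟨x, hx, ex⟩ := hL1inv ((α - β * ν⁻¹ * μ) • e) (Submodule.smul_mem _ _ (Submodule.mem_span_singleton_self e))
  refine ⟨σ.symm (β * ν⁻¹) • a + x,
    add_mem (Submodule.smul_mem _ _ (Submodule.subset_span (Or.inr rfl))) (Submodule.span_mono (by simp) hx), ?_⟩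
  rw [Tadd, Tsmul, RingEquiv.apply_symm_apply, ex, ← hμν, smul_add, smul_smul, smul_smul,
    inv_mul_cancel_right₀ hν]
  module

/-- The two parabolic subgroups. -/
theorem split2_polar {e f a : V} (H : S.P.Hyp e f) (ha : S.P.Sing a) (ha0 : a ≠ 0)
    (hae : S.P.h a e = 0) (haf : S.P.h a f = 0)
    (hq : ∀ e f a b, S.P.Hyp e f → S.P.Hyp a b → S.P.Perp e f a → S.P.Perp e f b →
      ∃ c s, S.P.h c e = 0 ∧ S.P.h c f = 0 ∧ S.P.h c a = 0 ∧ S.P.h c b = 0 ∧ S.P.Val c s ∧ s ≠ 0)
    (hT : ∀ φ : MulAut W, ∃ (T : V → V) (σ : F ≃+* F), (∀ x y, T (x + y) = T x + T y) ∧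
      (∀ (c : F) x, T (c • x) = σ c • T x) ∧ Function.Injective T ∧
      (∀ x y, S.P.h x y = 0 → S.P.h (T x) (T y) = 0) ∧
      ∀ g k, φ (S.pr g) = S.pr k → ∃ c : F, ∀ x, S.act k (T x) = c • T (S.act g x)) :
    Split2 p W := by
  classical
  -- two orthogonal pairs
  obtain ⟨b, hb, hab⟩ := S.P.hyp ha0 ha
  obtain ⟨e', f', H', hae', haf', hbe', hbf'⟩ : ∃ e' f', S.P.Hyp e' f' ∧ S.P.h a e' = 0 ∧
      S.P.h a f' = 0 ∧ S.P.h b e' = 0 ∧ S.P.h b f' = 0 := by
    have hea := S.P.perp_comm hae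
    have hfa := S.P.perp_comm haf
    have key : ∀ x, S.P.h x b = 0 → S.P.h b x = 0 := fun x hx => S.P.perp_comm hx
    refine ⟨e - S.P.h e b • a, f - S.P.h f b • a, ⟨?_, ?_, ?_⟩, ?_, ?_, key _ ?_, key _ ?_⟩
    · rw [sub_eq_add_neg, ← neg_smul]
      exact S.P.sing_add H.1 (S.P.sing_smul _ ha) (by rw [S.P.smul_right, hea, mul_zero])
    · rw [sub_eq_add_neg, ← neg_smul]
      exact S.P.sing_add H.2.1 (S.P.sing_smul _ ha) (by rw [S.P.smul_right, hfa, mul_zero])
    all_goals simp [S.P.sub_left, S.P.sub_right, S.P.smul_left, S.P.smul_right, H.2.2, hae, haf, hea,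
      S.P.sing_h ha, hab]
  exact split2_quad S p H' ⟨ha, hb, hab⟩ hae' haf' hbe' hbf'
    (hq e' f' a b H' ⟨ha, hb, hab⟩ ⟨hae', haf'⟩ ⟨hbe', hbf'⟩) hT

end CfsgLib.PMinimalLie
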