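import Cfsg.Agent.Lib.PMinimalLie.Exceptional
import Cfsg.Agent.Lib.PMinimalLie.Classical
import Cfsg.Agent.Lib.Chev.SympB2Iso
import Cfsg.Agent.Lib.ChevClassical.D4
import Cfsg.Agent.Lib.LocalCharP.Polar

/-!
`PSp₄`, `PΩ⁺₈` and `PSU₃`.
-/

set_option autoImplicit false
set_option linter.unusedSectionVars false
set_option linter.style.haveILetI false
set_option linter.dupNamespace false

namespace CfsgLib.PMinimalLie

open CfsgLib.LieRigid

theorem Max2.of_equiv {p : ℕ} [Fact p.Prime] {K L : Type*} [Group K] [Group L] [Finite L]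
    (h : Max2 p K) (e : K ≃* L) : Max2 p L := by
  obtain ⟨V⟩ : Nonempty (Sylow p L) := inferInstance
  obtain ⟨P₁, P₂, h'⟩ := h.move e V
  exact ⟨V, P₁, P₂, h'⟩

theorem RankOneLike.of_equiv {p : ℕ} [Fact p.Prime] {K L : Type*} [Group K] [Group L] [Finite L]
    (h : RankOneLike p K) (e : K ≃* L) : RankOneLike p L := by
  obtain ⟨V⟩ : Nonempty (Sylow p L) := inferInstance
  exact ⟨V, h.move e V⟩

section Chev

open Cfsg.Lie CfsgLib.Chev CfsgLib.Chev.Chev

variable {F : Type} [Field F] [Fintype F] (p : ℕ) [Fact p.Prime] [CharP F p]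

theorem max2_psp2 [IsSimpleGroup (Cfsg.PSp 2 F)] (hnp : ¬ IsPGroup p (Cfsg.PSp 2 F)) :
    Max2 p (Cfsg.PSp 2 F) := by
  haveI : IsSimpleGroup ↥(chevB2.group F) := (CfsgLib.SympB2.pspIso (F := F)).symm.isSimpleGroup
  haveI : Finite ↥(chevB2.group F) := Subgroup.instFiniteSubtypeMem _
  haveI : Finite (Cfsg.PSp 2 F) := Finite.of_equiv _ (CfsgLib.SympB2.pspIso (F := F)).symm.toEquiv
  exact (CfsgLib.Chev.chevB2.max2 p (fun h => hnp (h.of_equiv (CfsgLib.SympB2.pspIso (F := F)).symm))
    rfl).of_equiv (CfsgLib.SympB2.pspIso (F := F)).symm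

theorem split2_plus_four [IsSimpleGroup (Cfsg.POmega F (Cfsg.quadFormPlus 4 F))]
    (hnp : ¬ IsPGroup p (Cfsg.POmega F (Cfsg.quadFormPlus 4 F))) :
    Split2 p (Cfsg.POmega F (Cfsg.quadFormPlus 4 F)) := by
  have h := ChevClassical.Tab.nonempty_equiv ChevClassical.D4.ok
    (R := ChevClassical.qform (F := F) ChevClassical.D4.tab)
    (simple_of_conn CfsgLib.Chev.chevD4 connD4 ⟨0, by decide⟩ (perfect_of_mem (by simp) fun h => by
      rcases h with h | h <;> exact absurd (congrArg ChevalleyDatum.rank h) (by decide)))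
    (fun r t => ⟨CfsgLib.Chev.chevD4.xg r t, by rw [CfsgLib.Chev.chevD4.xg_val]; exact (CfsgLib.Chev.chevD4.xMat_eq F r t).symm⟩)
    ChevClassical.D4.omega_model
  rw [ChevClassical.D4.form_eq] at h
  obtain ⟨e⟩ := h
  haveI : Finite ↥(Cfsg.Lie.chevD4.group F) := Subgroup.instFiniteSubtypeMem _
  haveI : Finite (Cfsg.POmega F (Cfsg.quadFormPlus 4 F)) := Finite.of_equiv _ e.toEquiv
  haveI : IsSimpleGroup ↥(Cfsg.Lie.chevD4.group F) := e.isSimpleGroup
  exact ((split2_chev (F := F)).2.1 fun h => hnp (h.of_equiv e)).of_equiv e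

end Chev

section Unitary

variable {F V G W : Type*} [Field F] [Finite F] [AddCommGroup V] [Module F V] [Finite V] [FiniteDimensional F V]
  [Group G] [Group W] [Finite W] [IsSimpleGroup W]

/-- In dimension three a proper overgroup of a Sylow subgroup fixes its point. -/
theorem rankOne_polar (S : SGeo F V G W) (p : ℕ) [Fact p.Prime] [CharP F p] {e f : V} (H : S.P.Hyp e f)
    (h3 : Module.finrank F V = 3) : RankOneLike p W := by
  classical
  haveI : Finite G := Finite.of_injective (fun g => (S.act g : V → V))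
    fun g k h => S.act_inj (DFunLike.coe_injective h)
  have hradp : IsPGroup p (S.rad e) := by
    rintro ⟨g, hg⟩
    exact ⟨2, Subtype.ext (show g ^ (p ^ 2) = 1 from S.rad_pow p H hg)⟩
  obtain ⟨Q, hQle⟩ := hradp.exists_le_sylow
  have htop : ¬ (⊤ : Submodule F V) ≤ ⊥ := fun h => H.ne_left (h Submodule.mem_top)
  obtain ⟨x, -, hx, hfix⟩ := exists_fixed_mod p S.act Q.isPGroup' htop
    (fun q _ x hx => by rw [(Submodule.mem_bot F).mp hx, map_zero]; exact zero_mem _)
    (fun _ _ _ _ => Submodule.mem_top)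
  obtain ⟨d, rfl⟩ := Submodule.mem_span_singleton.mp
    (mem_span_of_fixed S H (x := x) fun g hg => sub_eq_zero.mp (hfix g (hQle hg)))
  have hd : d ≠ 0 := fun h => hx (by rw [h, zero_smul]; exact zero_mem _)
  have hQe : ∀ q ∈ (Q : Subgroup G), S.act q e = e := fun q hq => by
    have := sub_eq_zero.mp ((Submodule.mem_bot F).mp (hfix q hq))
    rw [map_smul] at this
    exact smul_right_injective V hd this
  -- `Q` is the radical
  have hQR : (Q : Subgroup G) = S.rad e := by
    refine le_antisymm (fun q hq => ⟨hQe q hq, ?_⟩) hQle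
    let E : Submodule F V := LocalCharP.SForm.perpSub S.P (Submodule.span F ({e} : Set V))
    have hE : ∀ y, y ∈ E ↔ S.P.h y e = 0 := fun y => by
      refine ⟨fun h => h e (Submodule.mem_span_singleton_self e), fun h w hw => ?_⟩
      obtain ⟨c, rfl⟩ := Submodule.mem_span_singleton.mp hw
      rw [S.P.smul_right, h, mul_zero]
    have hlo := LocalCharP.SForm.finrank_le_perpSub S.P (Submodule.span F ({e} : Set V))
    rw [finrank_span_singleton H.ne_left, h3] at hlo
    have hup : Module.finrank F E ≤ 2 := by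
      by_contra h
      have hEt : E = ⊤ := Submodule.eq_top_of_finrank_eq (by have := E.finrank_le; omega)
      have := (hE f).mp (hEt ▸ Submodule.mem_top)
      rw [H.fe] at this
      exact S.P.ε_ne this
    have hEL : ¬ E ≤ Submodule.span F ({e} : Set V) := fun h => by
      have := Submodule.finrank_mono h
      rw [finrank_span_singleton H.ne_left] at this
      change 3 ≤ Module.finrank F E + 1 at hlo
      omega
    have hLinv : ∀ q ∈ (Q : Subgroup G), ∀ x ∈ Submodule.span F ({e} : Set V),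
        S.act q x ∈ Submodule.span F ({e} : Set V) := fun q hq x hx => by
      obtain ⟨c, rfl⟩ := Submodule.mem_span_singleton.mp hx
      rw [map_smul, hQe q hq]
      exact Submodule.smul_mem _ _ (Submodule.mem_span_singleton_self e)
    obtain ⟨y, hy, hy', hyfix⟩ := exists_fixed_mod p S.act Q.isPGroup' hEL hLinv (fun q hq x hx => by
      rw [hE] at hx ⊢
      rw [← hQe q hq, S.isom, hx])
    intro x hxe
    have hsp : Submodule.span F ({e} : Set V) ⊔ Submodule.span F ({y} : Set V) = E := by
      have hle : Submodule.span F ({e} : Set V) ⊔ Submodule.span F ({y} : Set V) ≤ E :=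
        sup_le ((Submodule.span_singleton_le_iff_mem _ _).mpr ((hE e).mpr (S.P.sing_h H.1)))
          ((Submodule.span_singleton_le_iff_mem _ _).mpr hy)
      refine Submodule.eq_of_le_of_finrank_le hle ?_
      have hlt := Submodule.finrank_lt_finrank_of_lt
        (lt_of_le_of_ne (le_sup_left : Submodule.span F ({e} : Set V) ≤ _) fun h => hy' (h.symm ▸
          Submodule.mem_sup_right (Submodule.mem_span_singleton_self y)))
      rw [finrank_span_singleton H.ne_left] at hlt
      omega
    obtain ⟨a, ha, b, hb, rfl⟩ := Submodule.mem_sup.mp (hsp ▸ (hE x).mpr hxe : x ∈ _ ⊔ _)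
    obtain ⟨c, rfl⟩ := Submodule.mem_span_singleton.mp hb
    rw [map_add, map_smul, add_sub_add_comm, ← smul_sub]
    exact add_mem (sub_mem (hLinv q hq a ha) ha) (Submodule.smul_mem _ _ (hyfix q hq))
  refine ⟨Q.mapSurjective (f := S.pr) S.surj, fun P hP hne => ?_⟩
  have hU : ((Q.mapSurjective (f := S.pr) S.surj : Sylow p W) : Subgroup W) = S.R e := by
    rw [Sylow.coe_mapSurjective, hQR]; rfl
  rw [hU] at hP ⊢
  intro w hw
  obtain ⟨k, rfl⟩ := S.surj w
  -- the orbit of the point is totally singular, hence a line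
  let O : Set V := {y | ∃ g, S.pr g ∈ P ∧ y = S.act g e}
  have hperp : ∀ y ∈ Submodule.span F O, ∀ z ∈ Submodule.span F O, S.P.h y z = 0 := by
    have h0 : ∀ y ∈ O, ∀ z ∈ O, S.P.h y z = 0 := by
      rintro _ ⟨g, hg, rfl⟩ _ ⟨l, hl, rfl⟩
      by_contra h
      refine hne (eq_top_of_moved S H hP (g := l⁻¹ * g)
        (by rw [map_mul, map_inv]; exact mul_mem (inv_mem hl) hg) ?_)
      rwa [S.act_mul, ← S.isom l, S.act_act_inv]
    intro y hy z hz
    induction hy using Submodule.span_induction with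
    | mem y hy =>
      induction hz using Submodule.span_induction with
      | mem z hz => exact h0 y hy z hz
      | zero => exact S.P.zero_right y
      | add a b _ _ h1 h2 => rw [S.P.add_right, h1, h2, add_zero]
      | smul c a _ h1 => rw [S.P.smul_right, h1, mul_zero]
    | zero => exact S.P.zero_left z
    | add a b _ _ h1 h2 => rw [S.P.add_left, h1, h2, add_zero]
    | smul c a _ h1 => rw [S.P.smul_left, h1, mul_zero]
  have h2 := LocalCharP.SForm.two_mul_finrank_le S.P hperp
  have heO : e ∈ Submodule.span F O := Submodule.subset_span ⟨1, by rw [map_one]; exact one_mem _, (S.act_one e).symm⟩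
  have hline : Submodule.span F ({e} : Set V) = Submodule.span F O := by
    refine Submodule.eq_of_le_of_finrank_le ((Submodule.span_singleton_le_iff_mem _ _).mpr heO) ?_
    rw [finrank_span_singleton H.ne_left]
    omega
  have hk : S.act k e ∈ Submodule.span F ({e} : Set V) :=
    hline.symm ▸ Submodule.subset_span ⟨k, hw, rfl⟩
  obtain ⟨c, hc⟩ := Submodule.mem_span_singleton.mp hk
  have hc0 : c ≠ 0 := fun h => S.act_ne H.ne_left (by rw [← hc, h, zero_smul])
  have hR : cj (S.pr k) (S.R e) = S.R e := by rw [← S.R_act, ← hc, S.R_smul hc0]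
  rw [Subgroup.mem_normalizer_iff]
  intro y
  conv_rhs => rw [← hR, mem_cj]
  simp [mul_assoc]

end Unitary

theorem rankOne_psu {F : Type} [Field F] [Fintype F] (p : ℕ) [Fact p.Prime] [CharP F p] {q : ℕ}
    (hF : Fintype.card F = q ^ 2) [IsSimpleGroup (Cfsg.PSU 3 F q)] : RankOneLike p (Cfsg.PSU 3 F q) := by
  haveI : Finite (Cfsg.SU 3 F q) := Subtype.finite
  haveI : Finite (Cfsg.PSU 3 F q) := Quotient.finite _
  obtain ⟨e, f, H⟩ := CfsgLib.PolarAut.exists_pair hF (n := 3) (by norm_num)
  exact rankOne_polar (LieRigid.ofGeo (CfsgLib.PolarAut.suGeo hF (n := 3) le_rfl)) p (e := e) (f := f)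
    ⟨H.ee, H.ff, H.ef⟩ (by rw [Module.finrank_fintype_fun_eq_card, Fintype.card_fin])

end CfsgLib.PMinimalLie
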