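import Cfsg.Agent.Lib.PMinimalLie.Basic
import Cfsg.Agent.Lib.LocalCharP.Split

/-!
Overgroups of a Sylow subgroup of a group with the root data of a split BN-pair.
-/

set_option autoImplicit false

namespace CfsgLib.PMinimalLie

open CfsgLib.LieRigid

variable {G : Type*} [Group G] {p : ℕ} (D : SplitData G p)

/-- The parabolic subgroup of the set of nodes `J`. -/
def pJ (J : Set D.ι) : Subgroup G :=
  Subgroup.closure ((D.U : Set G) ∪ D.H ∪ {y | ∃ b ∈ J, y = D.n b})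

theorem U_le_pJ (J : Set D.ι) : D.U ≤ pJ D J := fun _ hu => Subgroup.subset_closure (Or.inl (Or.inl hu))

theorem H_le_pJ (J : Set D.ι) : D.H ≤ pJ D J := fun _ hu => Subgroup.subset_closure (Or.inl (Or.inr hu))

theorem n_mem_pJ {J : Set D.ι} {a : D.ι} (ha : a ∈ J) : D.n a ∈ pJ D J :=
  Subgroup.subset_closure (Or.inr ⟨a, ha, rfl⟩)

theorem pJ_mono {I J : Set D.ι} (h : I ⊆ J) : pJ D I ≤ pJ D J :=
  Subgroup.closure_mono (Set.union_subset_union_right _ fun _ ⟨b, hb, e⟩ => ⟨b, h hb, e⟩)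

theorem opp_mem_pJ {J : Set D.ι} {a : D.ι} (ha : a ∈ J) {x : G} (hx : x ∈ D.X a) :
    (D.n a)⁻¹ * x * D.n a ∈ pJ D J :=
  mul_mem (mul_mem (inv_mem (n_mem_pJ D ha)) (U_le_pJ D J (D.X_le a hx))) (n_mem_pJ D ha)

theorem pJ_empty_le_normalizer : pJ D (∅ : Set D.ι) ≤ Subgroup.normalizer (D.U : Set G) := by
  rw [pJ, Subgroup.closure_le]
  rintro y ((hy | hy) | ⟨b, hb, rfl⟩)
  · exact Subgroup.le_normalizer hy
  · rw [SetLike.mem_coe, Subgroup.mem_normalizer_iff]
    intro u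
    refine ⟨D.HU y hy u, fun hu => ?_⟩
    have := D.HU y⁻¹ (inv_mem hy) _ hu
    simpa [mul_assoc] using this
  · exact absurd hb (Set.notMem_empty b)

variable [IsSimpleGroup G] [Nonempty D.ι] [Finite G] [Fact p.Prime]
  (hX : ∀ a, D.X a ≠ ⊥) (hrad : ∀ a, D.rad a ≠ ⊥) (hnp : ¬ IsPGroup p G)

include hX in
theorem pJ_univ : pJ D (Set.univ : Set D.ι) = ⊤ := by
  rw [eq_top_iff, ← D.gen hX, SplitData.opGen, Subgroup.closure_le]
  rintro y (hy | ⟨a, x, hx, rfl⟩)
  · exact U_le_pJ D _ hy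
  · exact opp_mem_pJ D (Set.mem_univ a) hx

include hrad hnp in
theorem pJ_ne_top {J : Set D.ι} {c : D.ι} (hc : c ∉ J) : pJ D J ≠ ⊤ := by
  intro h
  apply LocalCharP.rad_not_normal D hnp hrad c
  have hle : pJ D J ≤ Subgroup.normalizer (D.rad c : Set G) := by
    rw [pJ, Subgroup.closure_le]
    rintro y ((hy | hy) | ⟨b, hb, rfl⟩)
    · exact D.rad_U c hy
    · exact D.rad_H c hy
    · exact D.rad_n c b fun e => hc (e ▸ hb)
  rw [h, top_le_iff] at hle
  exact Subgroup.normalizer_eq_top_iff.mp hle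

include hX in
theorem pJ_sup_compl (J : Set D.ι) : pJ D J ⊔ pJ D Jᶜ = ⊤ := by
  rw [eq_top_iff, ← pJ_univ D hX, pJ, Subgroup.closure_le]
  rintro y ((hy | hy) | ⟨b, -, rfl⟩)
  · exact Subgroup.mem_sup_left (U_le_pJ D J hy)
  · exact Subgroup.mem_sup_left (H_le_pJ D J hy)
  · by_cases hb : b ∈ J
    · exact Subgroup.mem_sup_left (n_mem_pJ D hb)
    · exact Subgroup.mem_sup_right (n_mem_pJ D (J := Jᶜ) hb)

include hX hrad hnp in
theorem n_notMem {J : Set D.ι} {a : D.ι} (ha : a ∉ J) : D.n a ∉ pJ D J := by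
  intro h
  refine pJ_ne_top D hrad hnp (J := {b | b ≠ a}) (c := a) (fun h => h rfl) ?_
  rw [eq_top_iff, ← pJ_univ D hX, pJ, Subgroup.closure_le]
  rintro y ((hy | hy) | ⟨b, -, rfl⟩)
  · exact U_le_pJ D _ hy
  · exact H_le_pJ D _ hy
  · by_cases hb : b = a
    · subst hb
      refine pJ_mono D (fun c hc => ?_) h
      intro e
      rw [e] at hc
      exact ha hc
    · exact n_mem_pJ D (J := {b | b ≠ a}) hb

include hX in
/-- An overgroup of `U` lies in the parabolic subgroup of the reflections it meets. -/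
theorem le_met {P : Subgroup G} (hP : D.U ≤ P) :
    P ≤ pJ D {a | ∃ h ∈ D.H, D.Meets P (h * D.n a)} := by
  have hX' : ∀ a, ∃ x ∈ D.X a, x ∈ (⊤ : Subgroup G) ∧ x ≠ 1 := fun a => by
    obtain ⟨⟨x, hx⟩, hx1⟩ := Subgroup.ne_bot_iff_exists_ne_one.mp (hX a)
    exact ⟨x, hx, Subgroup.mem_top x, fun e => hx1 (Subtype.ext e)⟩
  have hproj : ∀ a, ∀ u ∈ D.U, ∃ k ∈ D.U ⊓ ⊤, D.n a * (k * u⁻¹) * (D.n a)⁻¹ ∈ D.U := fun a u hu =>
    ⟨u, ⟨hu, Subgroup.mem_top u⟩, by simp⟩
  intro g hg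
  have h := D.le_parabolic (K := ⊤) le_top (inf_le_left.trans hP) hX' hproj g (D.meets_of_mem hg)
  refine Subgroup.closure_mono ?_ h
  rintro y (hy | ⟨a, rfl, ha⟩)
  · exact Or.inl hy
  · exact Or.inr ⟨a, ha, rfl⟩

include hX in
/-- A proper overgroup of `U` lies in a maximal parabolic subgroup. -/
theorem le_maximal {P : Subgroup G} (hP : D.U ≤ P) (htop : P ≠ ⊤) : ∃ a, P ≤ pJ D {b | b ≠ a} := by
  by_cases hall : ∀ a, ∃ h ∈ D.H, D.Meets P (h * D.n a)
  · exfalso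
    apply htop
    rw [eq_top_iff, ← D.gen hX, SplitData.opGen, Subgroup.closure_le]
    rintro y (hy | ⟨a, x, hx, rfl⟩)
    · exact hP hy
    obtain ⟨h, hh, u, hu, u', hu', hM⟩ := hall a
    have h1 : h * D.n a ∈ P := by
      have := mul_mem (mul_mem (inv_mem (hP hu)) hM) (inv_mem (hP hu'))
      simpa [mul_assoc] using this
    have h2 := mul_mem (mul_mem (inv_mem h1) (hP (D.X_le a (D.HX a h hh x hx)))) h1
    simpa [mul_assoc] using h2
  · push Not at hall
    obtain ⟨a, ha⟩ := hall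
    refine ⟨a, (le_met D hX hP).trans (pJ_mono D ?_)⟩
    rintro b ⟨h, hh, hb⟩ rfl
    exact ha h hh hb

include hX hrad hnp in
theorem normalizer_le : Subgroup.normalizer (D.U : Set G) ≤ pJ D (∅ : Set D.ι) := by
  refine (le_met D hX Subgroup.le_normalizer).trans (pJ_mono D ?_)
  rintro a ⟨h, hh, u, hu, u', hu', hM⟩
  exfalso
  apply n_notMem D hX hrad hnp (Set.notMem_empty a)
  have hB := pJ_empty_le_normalizer D
  have hn : D.n a ∈ Subgroup.normalizer (D.U : Set G) := by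
    have := mul_mem (mul_mem (inv_mem (Subgroup.le_normalizer hu)) hM) (inv_mem (Subgroup.le_normalizer hu'))
    have h1 : h * D.n a ∈ Subgroup.normalizer (D.U : Set G) := by simpa [mul_assoc] using this
    have h2 := mul_mem (inv_mem (hB (H_le_pJ D _ hh))) h1
    rwa [inv_mul_cancel_left] at h2
  obtain ⟨⟨x, hx⟩, hx1⟩ := Subgroup.ne_bot_iff_exists_ne_one.mp (hX a)
  obtain ⟨v, hv, k, hk, v', hv', e⟩ := D.rankOne a x hx fun e => hx1 (Subtype.ext e)
  have hy : (D.n a)⁻¹ * x * D.n a ∈ D.U := by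
    have := (Subgroup.mem_normalizer_iff.mp (inv_mem hn) x).mp (D.X_le a hx)
    simpa using this
  have e2 : D.n a = k⁻¹ * v⁻¹ * ((D.n a)⁻¹ * x * D.n a) * v'⁻¹ := by rw [e]; group
  rw [e2]
  exact mul_mem (mul_mem (mul_mem (inv_mem (H_le_pJ D _ hk)) (inv_mem (U_le_pJ D _ hv))) (U_le_pJ D _ hy))
    (inv_mem (U_le_pJ D _ hv'))

/-- The Sylow subgroup of the root data. -/
noncomputable def sylowU : Sylow p G := D.pU.toSylow D.idxU

include hX hrad hnp in
/-- One node: rank one. -/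
theorem rankOneLike_of_split [Subsingleton D.ι] : RankOneLike p G := by
  refine ⟨sylowU D, fun P hP htop => ?_⟩
  obtain ⟨a, ha⟩ := le_maximal D hX hP htop
  refine (ha.trans (pJ_mono D ?_)).trans (pJ_empty_le_normalizer D)
  exact fun b hb => absurd (Subsingleton.elim b a) hb

include hX hrad hnp in
/-- Two nodes: two maximal overgroups. -/
theorem max2_of_split {a b : D.ι} (hab : a ≠ b) (hall : ∀ c, c = a ∨ c = b) : Max2 p G := by
  refine ⟨sylowU D, pJ D {c | c ≠ a}, pJ D {c | c ≠ b}, U_le_pJ D _, U_le_pJ D _,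
    pJ_ne_top D hrad hnp (c := a) (fun h => h rfl), pJ_ne_top D hrad hnp (c := b) (fun h => h rfl), ?_, ?_,
    fun P hP htop => ?_⟩
  · rw [eq_top_iff, ← pJ_sup_compl D hX {c | c ≠ a}]
    refine sup_le_sup le_rfl (pJ_mono D fun c hc => ?_)
    have : c = a := not_not.mp hc
    exact this ▸ hab
  · refine ((le_met D hX (le_inf (U_le_pJ D _) (U_le_pJ D _))).trans (pJ_mono D ?_)).trans
      (pJ_empty_le_normalizer D)
    rintro c ⟨h, hh, u, hu, u', hu', hM⟩
    exfalso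
    have key : ∀ J : Set D.ι, u * (h * D.n c) * u' ∈ pJ D J → D.n c ∈ pJ D J := fun J hJ => by
      have := mul_mem (inv_mem (H_le_pJ D J hh))
        (mul_mem (mul_mem (inv_mem (U_le_pJ D J hu)) hJ) (inv_mem (U_le_pJ D J hu')))
      simpa [mul_assoc] using this
    rcases hall c with rfl | rfl
    · exact n_notMem D hX hrad hnp (J := {d | d ≠ c}) (fun h => h rfl) (key _ hM.1)
    · exact n_notMem D hX hrad hnp (J := {d | d ≠ c}) (fun h => h rfl) (key _ hM.2)
  · obtain ⟨c, hc⟩ := le_maximal D hX hP htop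
    rcases hall c with rfl | rfl
    · exact Or.inl hc
    · exact Or.inr hc

include hX hrad hnp in
/-- A proper set of nodes invariant under the automorphisms fixing `U`. -/
theorem split2_of_split (J : Set D.ι) {a b : D.ι} (ha : a ∈ J) (hb : b ∉ J)
    (hinv : ∀ φ : MulAut G, IsPGroup p (Subgroup.zpowers φ) → (∀ x, φ x ∈ D.U ↔ x ∈ D.U) →
      ∀ I, (I = J ∨ I = Jᶜ) → ∀ c ∈ I, ∀ x ∈ D.X c, φ ((D.n c)⁻¹ * x * D.n c) ∈ pJ D I) :
    Split2 p G := by
  refine ⟨sylowU D, pJ D J, pJ D Jᶜ, U_le_pJ D _, U_le_pJ D _, pJ_ne_top D hrad hnp hb,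
    pJ_ne_top D hrad hnp (c := a) (fun h => h ha), pJ_sup_compl D hX J, fun φ hp hU => ?_⟩
  replace hU : ∀ x, φ x ∈ D.U ↔ x ∈ D.U := hU
  have key : ∀ I, (I = J ∨ I = Jᶜ) → ∀ x, φ x ∈ pJ D I ↔ x ∈ pJ D I := by
    intro I hI
    have hle : (pJ D I).map φ.toMonoidHom ≤ pJ D I := by
      have hU' : ∀ x ∈ D.U, φ x ∈ pJ D I := fun x hx => U_le_pJ D I ((hU x).mpr hx)
      have hH' : ∀ x ∈ D.H, φ x ∈ pJ D I := fun x hx => by
        refine pJ_mono D (Set.empty_subset I) (normalizer_le D hX hrad hnp ?_)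
        rw [Subgroup.mem_normalizer_iff]
        intro y
        obtain ⟨z, rfl⟩ := φ.surjective y
        rw [hU, ← map_inv, ← map_mul, ← map_mul, hU]
        exact Subgroup.mem_normalizer_iff.mp (pJ_empty_le_normalizer D (H_le_pJ D _ hx)) z
      show (Subgroup.closure _).map φ.toMonoidHom ≤ _
      rw [MonoidHom.map_closure, Subgroup.closure_le]
      rintro _ ⟨y, (hy | hy) | ⟨c, hc, rfl⟩, rfl⟩
      · exact hU' y hy
      · exact hH' y hy
      · obtain ⟨⟨x, hx⟩, hx1⟩ := Subgroup.ne_bot_iff_exists_ne_one.mp (hX c)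
        obtain ⟨v, hv, k, hk, v', hv', e⟩ := D.rankOne c x hx fun e => hx1 (Subtype.ext e)
        have e2 : D.n c = k⁻¹ * v⁻¹ * ((D.n c)⁻¹ * x * D.n c) * v'⁻¹ := by rw [e]; group
        show φ (D.n c) ∈ pJ D I
        rw [e2, map_mul, map_mul, map_mul, map_inv, map_inv, map_inv]
        exact mul_mem (mul_mem (mul_mem (inv_mem (hH' k hk)) (inv_mem (hU' v hv)))
          (hinv φ hp hU I hI c hc x hx)) (inv_mem (hU' v' hv'))
    intro x
    have e : (pJ D I).map φ.toMonoidHom = pJ D I := Subgroup.eq_of_le_of_card_ge hle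
      (Subgroup.card_map_of_injective φ.injective).ge
    conv_lhs => rw [← e]
    exact Subgroup.mem_map_iff_mem φ.injective
  exact ⟨key J (Or.inl rfl), key Jᶜ (Or.inr rfl)⟩

end CfsgLib.PMinimalLie
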